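import Mathlib
import Cfsg.Agent.GH.L2AutSyl_m3
import Cfsg.Agent.GH.L2AutF
import Cfsg.Agent.LFourA.FieldInv
import Cfsg.Agent.GH.L2One.Inst_m3
import Cfsg.Agent.Lib.NormalAbelian
import Cfsg.Agent.UGT.I34.OnCode_m3
import Cfsg.Agent.OddHalf.TR
import Cfsg.Agent.UGT.L2Inner.WBAut_m3
import Cfsg.Agent.OddHalf.D9.DoubleKill_m3
import Cfsg.Agent.UGT.Parity_m3
import Cfsg.Agent.UGT.FL34.FixX_m3
import Cfsg.Agent.GH.TOne.LemPDih_m3
import Cfsg.Agent.UGT.I34.Cov_m3
import Cfsg.Agent.UGT.End_m3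
import Cfsg.Agent.FastGrp
import Cfsg.Agent.Prune
set_option linter.all false

section
prune_inst 0x7ffcfdfbaff8bfffdfff7e7ffffddffdb9fcdfffffdffbcbfff8ebefafdf230eb9e5abad9fe0d8ff4ee362b630b87853f97eeeffef6bdc7ffffd5ff45ffbee5ff5f7bd8951d6883e1fbc0fff03f07fce7f3fffffffffffffffffffffffffffbeffffffffffff

-- part: OddHalf/D6/FieldInv
section
prune_inst 0x20000000000200020401200000200430000510101000486146005002600c02009114000880400300048110000000000000000000800011800a0800242000340000426000f801000000000000000000000000000000000041000000000000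
set_option linter.all false
open scoped Cfsg.Agent.FastGrp

-- part: OddHalf/D6/FieldFacts
section
/-!
# ODD D6, `K = L₂(q)`: facts on automorphisms of `PSL(2,F)` (helper419)

* `fix_four_syl`: a 2-element of `Aut(L)` centralising a four-group Sylow 2-subgroup of `L` acts as an element of it;
* `exists_move`: if a field involution `α` centralises a Sylow 2-subgroup `S` of `L`, then a central involution `z`
  of `S` is moved inside `S` by an element of `C_L(α)`;
* `fix_syl`: an element of `PGL(2,F)` centralising a Sylow 2-subgroup with a noncentral involution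
  is inner, induced by `1` or the central involution.
-/

set_option autoImplicit false

namespace Cfsg.Agent.OddHalf.D6.FieldFacts

open Subgroup Cfsg.Agent.GH.L2Aut

variable {F L : Type*} [Field F] [Finite F] [Group L]

/-- 2-elements of `Aut(L)` centralising a four-group Sylow 2-subgroup of `L = PSL(2,F)` are inner. -/
theorem fix_four_syl (R : GH.L2Aut.Rep F L) {a b : L}
    (h : Four a b)
    (hS : ∀ y : L, (∃ n, y ^ 2 ^ n = 1) → y * a * y⁻¹ = b → y * b * y⁻¹ = a → False)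
    {α : MulAut L} (h2 : ∃ n, α ^ 2 ^ n = 1) (ha : α a = a) (hb : α b = b) :
    ∃ u : L, (u = 1 ∨ u = a ∨ u = b ∨ u = a * b) ∧ α = MulAut.conj u := by
  obtain ⟨Φ, y, δ, -, -, -, -, -, -, -, -, hδ, hδa, hδb, -, hδi, hα, -⟩ := R.exists_frame h
  obtain ⟨u, hu, hu'⟩ := hα α ha hb
  refine ⟨u, hu, ?_⟩
  by_cases hσ : R.fld α = 1
  · rw [hu', hσ, map_one, mul_one]
  exfalso
  -- an involution of `Aut F`
  obtain ⟨τ, hτ1, hτ2⟩ : ∃ τ : F ≃+* F, τ ≠ 1 ∧ τ * τ = 1 := by
    obtain ⟨n, hn⟩ := h2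
    have hn' : (R.fld α) ^ 2 ^ n = 1 := by rw [← map_pow, hn, map_one]
    clear hn
    induction n with
    | zero => rw [pow_zero, pow_one] at hn'; exact absurd hn' hσ
    | succ n ih =>
      by_cases h1 : (R.fld α) ^ 2 ^ n = 1
      · exact ih h1
      · refine ⟨_, h1, ?_⟩
        rw [← pow_add, ← two_mul, ← pow_succ', hn']
  have hsq : IsSquare (2 : F) := GH.L2Aut.Rep.isSquare_of_fixed R.two hτ2 hτ1 (map_ofNat τ 2)
  obtain ⟨d, rfl⟩ := hδi.2 hsq
  rw [MulAut.conj_apply] at hδa hδb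
  have := R.finite
  -- odd powers of `d` swap `a` and `b`
  have hodd : ∀ m : ℕ, d ^ (2 * m + 1) * a * (d ^ (2 * m + 1))⁻¹ = b ∧
      d ^ (2 * m + 1) * b * (d ^ (2 * m + 1))⁻¹ = a := by
    intro m
    induction m with
    | zero => simpa using ⟨hδa, hδb⟩
    | succ m ih =>
      have e : d ^ (2 * (m + 1) + 1) = d ^ (2 * m + 1) * (d * d) := by
        rw [show 2 * (m + 1) + 1 = 2 * m + 1 + 1 + 1 by ring, pow_succ, pow_succ (n := 2 * m + 1),
          mul_assoc]
      have e1 : d * d * a * (d * d)⁻¹ = a := by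
        calc d * d * a * (d * d)⁻¹ = d * (d * a * d⁻¹) * d⁻¹ := by group
          _ = a := by rw [hδa, hδb]
      have e2 : d * d * b * (d * d)⁻¹ = b := by
        calc d * d * b * (d * d)⁻¹ = d * (d * b * d⁻¹) * d⁻¹ := by group
          _ = b := by rw [hδb, hδa]
      rw [e]
      constructor
      · calc d ^ (2 * m + 1) * (d * d) * a * (d ^ (2 * m + 1) * (d * d))⁻¹
            = d ^ (2 * m + 1) * (d * d * a * (d * d)⁻¹) * (d ^ (2 * m + 1))⁻¹ := by group
          _ = b := by rw [e1, ih.1]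
      · calc d ^ (2 * m + 1) * (d * d) * b * (d ^ (2 * m + 1) * (d * d))⁻¹
            = d ^ (2 * m + 1) * (d * d * b * (d * d)⁻¹) * (d ^ (2 * m + 1))⁻¹ := by group
          _ = a := by rw [e2, ih.2]
  obtain ⟨k, m, hm, hkm⟩ := Nat.exists_eq_two_pow_mul_odd (orderOf_pos d).ne'
  obtain ⟨j, rfl⟩ := hm
  refine hS (d ^ (2 * j + 1)) ⟨k, ?_⟩ (hodd j).1 (hodd j).2
  rw [← pow_mul, mul_comm, ← hkm, pow_orderOf_eq_one]

/-- an element of `PGL(2,F)` centralising a 2-subgroup with a noncentral involution is `1` or the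
conjugation with its central involution -/
theorem fix_syl (R : GH.L2Aut.Rep F L) {z v d : L} (hz : z * z = 1) (hz1 : z ≠ 1) (hv : v * v = 1)
    (hv1 : v ≠ 1) (hvz : v ≠ z) (hc : v * z = z * v) (hd : d * z = z * d) (hdv : d * v ≠ v * d)
    {α : MulAut L} (hα : R.fld α = 1) (hαz : α z = z) (hαv : α v = v) (hαd : α d = d) :
    α = 1 ∨ α = MulAut.conj z := by
  have hf : Four z v :=
    { aa := hz, bb := hv, a1 := hz1, b1 := hv1, ne := fun h => hvz h.symm, comm := hc.symm }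
  rcases R.fix_four hf (R.mem_PGL_iff_fld.2 hα) hαz hαv with h | h | h | h
  · exact Or.inl h
  · exact Or.inr h
  · exfalso
    rw [h, MulAut.conj_apply, mul_inv_eq_iff_eq_mul] at hαd
    exact hdv hαd.symm
  · exfalso
    rw [h, MulAut.conj_apply, mul_inv_eq_iff_eq_mul] at hαd
    apply hdv
    have h1 : z * (v * d) = z * (d * v) := by
      rw [← mul_assoc, hαd, ← mul_assoc, ← mul_assoc, hd]
    exact (mul_left_cancel h1).symm

/-- The involutory automorphisms outside `PGL(2,F)` are field automorphisms for some coordinates. -/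
theorem exists_rep (R : GH.L2Aut.Rep F L) {α : MulAut L} (h2 : α * α = 1) (hσ : R.fld α ≠ 1) :
    ∃ (R' : GH.L2Aut.Rep F L) (σ : F ≃+* F), α = R'.fa σ := by
  have hα : ∀ z, α (α z) = z := fun z => DFunLike.congr_fun h2 z
  have hno : ¬ ∃ g : GL (Fin 2) F, ∀ x, α (R.π x) = R.π (Cfsg.Agent.Lib.SL2Mat.conjGL g x) := by
    rintro ⟨g, hg⟩
    apply hσ
    rw [← R.mem_PGL_iff_fld, R.mem_PGL]
    exact ⟨g, R.ext_π fun x => by rw [hg, R.gl_apply]⟩
  obtain ⟨h, σ, K, hF⟩ := Cfsg.Agent.LFourA.FieldInv.exists_finv R.two R.surj R.ker hα hno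
  let R' : GH.L2Aut.Rep F L := ⟨_, hF.surj, hF.ker, hF.two⟩
  refine ⟨R', σ, ?_⟩
  exact R'.ext_π fun x => by rw [R'.fa_apply]; exact hF.act x

/-- If a field involution `α` centralises the Sylow 2-subgroup `S`, an involution `z ∈ Z(S)` is moved inside `S`
by an element of `C_L(α)`. -/
theorem exists_move (R : GH.L2Aut.Rep F L) {α : MulAut L} (h2 : α * α = 1) (hσ : R.fld α ≠ 1)
    (S : Subgroup L) (hS : IsPGroup 2 S) (hmax : ∀ P : Subgroup L, IsPGroup 2 P → S ≤ P → P ≤ S)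
    (hfix : ∀ s ∈ S, α s = s) {z : L} (hz : z ∈ S) (hz1 : z ≠ 1) (hcen : ∀ s ∈ S, s * z = z * s) :
    ∃ ρ : L, α ρ = ρ ∧ ρ * z * ρ⁻¹ ∈ S ∧ ρ * z * ρ⁻¹ ≠ z := by
  obtain ⟨R', σ, rfl⟩ := exists_rep R h2 hσ
  have := R.finite
  obtain ⟨i, j, w, d, hσi, hσj, hσw, hσd, hi, hj, hij, hwi, hwj, hw3, hdi, hdj, hdd⟩ :=
    exists_std (F := F) R.two
  have hf := R'.four_of_pair hi hj hij
  -- the fixed subgroup
  let C : Subgroup L :=
    { carrier := {x | R'.fa σ x = x}
      one_mem' := map_one _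
      mul_mem' := fun {a b} (ha : _ = a) (hb : _ = b) => by
        change R'.fa σ (a * b) = a * b
        rw [map_mul, ha, hb]
      inv_mem' := fun {a} (ha : _ = a) => by
        change R'.fa σ a⁻¹ = a⁻¹
        rw [map_inv, ha] }
  have hC : ∀ x, x ∈ C ↔ R'.fa σ x = x := fun x => Iff.rfl
  have hSC : S ≤ C := fun s hs => hfix s hs
  have ha : R'.π i ∈ C := by rw [hC, R'.fa_apply, hσi]
  have hb : R'.π j ∈ C := by rw [hC, R'.fa_apply, hσj]
  have hw : R'.π w ∈ C := by rw [hC, R'.fa_apply, hσw]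
  have hV : hf.sub ≤ C := by
    rintro x (rfl | rfl | rfl | rfl)
    · exact one_mem _
    · exact ha
    · exact hb
    · exact mul_mem ha hb
  -- Sylow
  let S' : Sylow 2 C :=
    { toSubgroup := S.subgroupOf C
      isPGroup' := hS.comap_of_injective _ C.subtype_injective
      is_maximal' := by
        intro Q hQ hle
        have h1 : S ≤ Q.map C.subtype := by
          intro s hs
          exact ⟨⟨s, hSC hs⟩, hle (by rw [mem_subgroupOf]; exact hs), rfl⟩
        have h3 := hmax _ (hQ.map _) h1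
        apply le_antisymm _ hle
        intro q hq
        rw [mem_subgroupOf]
        exact h3 ⟨q, hq, rfl⟩ }
  obtain ⟨P1, hP1⟩ := (hf.sub_two.comap_of_injective (C.subtype) C.subtype_injective).exists_le_sylow
  obtain ⟨c, hc⟩ := MulAction.exists_smul_eq C P1 S'
  have hconj : ∀ v ∈ hf.sub, (c : L) * v * (c : L)⁻¹ ∈ S := by
    intro v hv
    have h1 : (⟨v, hV hv⟩ : C) ∈ P1 := hP1 hv
    have h3 : c * ⟨v, hV hv⟩ * c⁻¹ ∈ S' := conj_mem_syl hc h1
    exact h3
  set z1 : L := (c : L)⁻¹ * z * c with hz1def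
  have hzz1 : (c : L) * z1 * (c : L)⁻¹ = z := by rw [hz1def]; group
  have hcomm : ∀ v ∈ hf.sub, z1 * v = v * z1 := by
    intro v hv
    have h1 := hcen _ (hconj v hv)
    rw [← hzz1] at h1
    have h3 : (c : L) * (v * z1) * (c : L)⁻¹ = (c : L) * (z1 * v) * (c : L)⁻¹ := by
      calc (c : L) * (v * z1) * (c : L)⁻¹ = c * v * (c : L)⁻¹ * (c * z1 * (c : L)⁻¹) := by group
        _ = c * z1 * (c : L)⁻¹ * (c * v * (c : L)⁻¹) := h1
        _ = (c : L) * (z1 * v) * (c : L)⁻¹ := by group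
    exact (mul_left_cancel (mul_right_cancel h3)).symm
  have hz11 : z1 ≠ 1 := by
    intro h
    apply hz1
    rw [← hzz1, h]; group
  have hmemsub : z1 = R'.π i ∨ z1 = R'.π j ∨ z1 = R'.π i * R'.π j := by
    have e : ∀ v ∈ hf.sub, MulAut.conj z1 v = v := by
      intro v hv
      rw [MulAut.conj_apply, hcomm v hv, mul_inv_cancel_right]
    rcases R'.fix_four hf (R'.conj_mem_PGL z1) (e _ (Or.inr (Or.inl rfl)))
      (e _ (Or.inr (Or.inr (Or.inl rfl)))) with h | h | h | h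
    · exact absurd (R'.conj_injective (by rw [h, map_one])) hz11
    · exact Or.inl (R'.conj_injective h)
    · exact Or.inr (Or.inl (R'.conj_injective h))
    · exact Or.inr (Or.inr (R'.conj_injective h))
  -- the element of order three
  have hya : R'.π w * R'.π i * (R'.π w)⁻¹ = R'.π j := by
    rw [mul_inv_eq_iff_eq_mul, ← map_mul, ← map_mul, hwi]
  have hyb : R'.π w * R'.π j * (R'.π w)⁻¹ = R'.π i * R'.π j := by
    rw [mul_inv_eq_iff_eq_mul, ← map_mul, ← map_mul, ← map_mul, hwj]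
  have hyab : R'.π w * (R'.π i * R'.π j) * (R'.π w)⁻¹ = R'.π j * (R'.π i * R'.π j) := by
    calc R'.π w * (R'.π i * R'.π j) * (R'.π w)⁻¹
        = (R'.π w * R'.π i * (R'.π w)⁻¹) * (R'.π w * R'.π j * (R'.π w)⁻¹) := by group
      _ = R'.π j * (R'.π i * R'.π j) := by rw [hya, hyb]
  have hyab' : R'.π j * (R'.π i * R'.π j) = R'.π i := by
    rw [hf.comm, ← mul_assoc, hf.bb, one_mul]
  rw [hyab'] at hyab
  have hmoved : R'.π w * z1 * (R'.π w)⁻¹ ∈ hf.sub ∧ R'.π w * z1 * (R'.π w)⁻¹ ≠ z1 := by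
    rcases hmemsub with h | h | h
    · rw [h, hya]
      exact ⟨Or.inr (Or.inr (Or.inl rfl)), fun e => hf.ne e.symm⟩
    · rw [h, hyb]
      exact ⟨Or.inr (Or.inr (Or.inr rfl)), fun e => hf.a1 (mul_eq_right.1 e)⟩
    · rw [h, hyab]
      exact ⟨Or.inr (Or.inl rfl), fun e => hf.b1 (left_eq_mul.1 e)⟩
  have hρ : (c : L) * R'.π w * (c : L)⁻¹ * z * ((c : L) * R'.π w * (c : L)⁻¹)⁻¹ =
      (c : L) * (R'.π w * z1 * (R'.π w)⁻¹) * (c : L)⁻¹ := by
    rw [hz1def]; group
  refine ⟨(c : L) * R'.π w * (c : L)⁻¹, ?_, ?_, ?_⟩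
  · exact mul_mem (mul_mem c.2 hw) (inv_mem c.2)
  · rw [hρ]; exact hconj _ hmoved.1
  · rw [hρ]
    intro h
    apply hmoved.2
    rw [← hzz1] at h
    exact mul_left_cancel (mul_right_cancel h)

end Cfsg.Agent.OddHalf.D6.FieldFacts
end

-- part: OddHalf/D6/Setup
section
/-!
# ODD D6, `K = L₂(q)`, `|Q| = 2`: the setup (helper708)

`Setup x K T`: `x` is an involution, `K ⊴ C(x)`, `C_{C(x)}(K) = {1, x}`, `T` is a Sylow 2-subgroup of `C(x)`.

`Acts K g α`: `g` induces the automorphism `α` on `K`.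
-/

set_option autoImplicit false

namespace Cfsg.Agent.OddHalf.D6

open Subgroup Cfsg.Agent.GH Cfsg.Agent.GH.L2Aut

/-- `g` induces the automorphism `α` on `K` -/
def Acts {G : Type*} [Group G] (K : Subgroup G) (g : G) (α : MulAut K) : Prop :=
  ∀ k : K, ((α k : K) : G) = g * k * g⁻¹

/-- The setup. -/
structure Setup {G : Type*} [Group G] (x : G) (K T : Subgroup G) : Prop where
  xx : x * x = 1
  x1 : x ≠ 1
  Kx : ∀ k ∈ K, k * x = x * k
  Kn : ∀ c, c * x = x * c → ∀ k ∈ K, c * k * c⁻¹ ∈ K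
  CK : ∀ c, c * x = x * c → (∀ k ∈ K, c * k = k * c) → c = 1 ∨ c = x
  pT : IsPGroup 2 T
  cx : ∀ t ∈ T, t * x = x * t
  /-- `T` is a Sylow 2-subgroup of `C(x)` -/
  syl : ∀ P : Subgroup G, IsPGroup 2 P → (∀ y ∈ P, y * x = x * y) →
    ∃ g, g * x = x * g ∧ ∀ y ∈ P, g * y * g⁻¹ ∈ T

variable {G : Type*} [Group G]

namespace Acts

variable {K : Subgroup G} {g h : G} {α β : MulAut K}

theorem unique (h1 : Acts K g α) (h2 : Acts K g β) : α = β := by
  ext k
  rw [h1 k, h2 k]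

theorem one : Acts K 1 1 := fun k => by simp

theorem mul (h1 : Acts K g α) (h2 : Acts K h β) : Acts K (g * h) (α * β) := by
  intro k
  rw [MulAut.mul_apply, h1, h2]
  group

theorem inv (h1 : Acts K g α) : Acts K g⁻¹ α⁻¹ := by
  intro k
  have h2 := h1 (α⁻¹ k)
  rw [MulAut.apply_inv_self] at h2
  rw [h2]; group

theorem pow (h1 : Acts K g α) (n : ℕ) : Acts K (g ^ n) (α ^ n) := by
  induction n with
  | zero => rw [pow_zero, pow_zero]; exact one
  | succ n ih => rw [pow_succ, pow_succ]; exact ih.mul h1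

theorem conj {k : G} (hk : k ∈ K) : Acts K k (MulAut.conj ⟨k, hk⟩) := fun _ => rfl

/-- elements acting trivially centralize `K` -/
theorem comm (h1 : Acts K g 1) : ∀ k ∈ K, g * k = k * g := by
  intro k hk
  have h2 : k = g * k * g⁻¹ := h1 ⟨k, hk⟩
  nth_rw 2 [h2]; group

theorem fix (h1 : Acts K g α) {k : K} (h2 : g * k = k * g) : α k = k :=
  Subtype.ext (by rw [h1, h2]; group)

theorem comm_of_fix (h1 : Acts K g α) {k : K} (h2 : α k = k) : g * k = k * g := by
  have h3 := h1 k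
  rw [h2] at h3
  nth_rw 2 [h3]; group

end Acts

/-- the action of an element normalizing `K` -/
theorem exists_acts {K : Subgroup G} {g : G} (h1 : ∀ k ∈ K, g * k * g⁻¹ ∈ K)
    (h2 : ∀ k ∈ K, g⁻¹ * k * g ∈ K) : ∃ α, Acts K g α :=
  ⟨{ toFun := fun k => ⟨g * k * g⁻¹, h1 k k.2⟩
     invFun := fun k => ⟨g⁻¹ * k * g, h2 k k.2⟩
     left_inv := fun k => Subtype.ext (by show g⁻¹ * (g * (k : G) * g⁻¹) * g = k; group)
     right_inv := fun k => Subtype.ext (by show g * (g⁻¹ * (k : G) * g) * g⁻¹ = k; group)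
     map_mul' := fun a b => Subtype.ext (by
      show g * ((a : G) * b) * g⁻¹ = g * a * g⁻¹ * (g * b * g⁻¹)
      group) }, fun _ => rfl⟩

namespace Setup

variable {x : G} {K T : Subgroup G}

/-- elements of `C(x)` act on `K` -/
theorem acts (S : Setup x K T) {c : G} (hc : c * x = x * c) : ∃ α, Acts K c α := by
  refine exists_acts (S.Kn c hc) ?_
  intro k hk
  have h1 : c⁻¹ * x = x * c⁻¹ := by
    rw [inv_mul_eq_iff_eq_mul, ← mul_assoc, hc, mul_assoc, mul_inv_cancel, mul_one]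
  have := S.Kn c⁻¹ h1 k hk
  rwa [inv_inv] at this

theorem ker (S : Setup x K T) {c : G} (hc : c * x = x * c) (h1 : Acts K c 1) : c = 1 ∨ c = x :=
  S.CK c hc h1.comm

theorem eq_or (S : Setup x K T) {c d : G} (hc : c * x = x * c) (hd : d * x = x * d) {α : MulAut K}
    (h1 : Acts K c α) (h2 : Acts K d α) : c = d ∨ c = d * x := by
  have h3 : Acts K (d⁻¹ * c) 1 := by
    have := h2.inv.mul h1
    rwa [inv_mul_cancel] at this
  have h4 : d⁻¹ * c * x = x * (d⁻¹ * c) := by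
    have h5 : d⁻¹ * x = x * d⁻¹ := by
      rw [inv_mul_eq_iff_eq_mul, ← mul_assoc, hd, mul_assoc, mul_inv_cancel, mul_one]
    rw [mul_assoc, hc, ← mul_assoc, h5, mul_assoc]
  rcases S.ker h4 h3 with h | h
  · left
    rw [inv_mul_eq_one] at h
    exact h.symm
  · right
    rw [inv_mul_eq_iff_eq_mul] at h
    exact h

theorem xT (S : Setup x K T) : x ∈ T := by
  have h1 : IsPGroup 2 (zpowers x) := by
    rw [IsPGroup.iff_orderOf]
    rintro ⟨y, hy⟩
    obtain ⟨i, rfl⟩ := mem_zpowers_iff.1 hy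
    have h2 : orderOf (⟨x ^ i, hy⟩ : zpowers x) ∣ 2 ^ 1 := by
      apply orderOf_dvd_of_pow_eq_one
      apply Subtype.ext
      show (x ^ i) ^ (2 ^ 1) = 1
      rw [pow_one, pow_two, ← zpow_add, ← two_mul, zpow_mul]
      rw [show (x : G) ^ (2 : ℤ) = x * x from zpow_two x, S.xx, one_zpow]
    obtain ⟨k, -, hk⟩ := (Nat.dvd_prime_pow Nat.prime_two).1 h2
    exact ⟨k, hk⟩
  obtain ⟨g, hg, h⟩ := S.syl (zpowers x) h1 (by
    intro y hy
    obtain ⟨i, rfl⟩ := mem_zpowers_iff.1 hy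
    rw [← zpow_add_one, ← zpow_one_add, add_comm])
  have h2 := h x (mem_zpowers x)
  rw [hg, mul_assoc, mul_inv_cancel, mul_one] at h2
  exact h2

theorem comm_inv {c : G} (hc : c * x = x * c) : c⁻¹ * x = x * c⁻¹ := by
  rw [inv_mul_eq_iff_eq_mul, ← mul_assoc, hc, mul_assoc, mul_inv_cancel, mul_one]

theorem comm_mul {c d : G} (hc : c * x = x * c) (hd : d * x = x * d) : c * d * x = x * (c * d) := by
  rw [mul_assoc, hd, ← mul_assoc, hc, mul_assoc]

/-- a 2-group in `C(x)` containing `T` is `T` -/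
theorem max [Finite G] (S : Setup x K T) {P : Subgroup G} (hP : IsPGroup 2 P) (hTP : T ≤ P)
    (h : ∀ y ∈ P, y * x = x * y) : P ≤ T := by
  obtain ⟨g, -, hg⟩ := S.syl P hP h
  have h1 : Nat.card P ≤ Nat.card T := by
    refine Nat.card_le_card_of_injective (fun y : P => (⟨g * y * g⁻¹, hg y y.2⟩ : T)) ?_
    intro a b hab
    have := congrArg Subtype.val hab
    exact Subtype.ext (mul_left_cancel (mul_right_cancel this))
  exact (Subgroup.eq_of_le_of_card_ge hTP h1).ge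

/-- a 2-element of `C(x)` normalizing `T` is in `T` -/
theorem mem_of_norm [Finite G] (S : Setup x K T) {y : G} (h2 : ∃ n, y ^ 2 ^ n = 1)
    (hy : y * x = x * y) (hn : ∀ t ∈ T, y * t * y⁻¹ ∈ T) : y ∈ T := by
  have hy' : zpowers y ≤ normalizer (T : Set G) := by
    rw [zpowers_le]
    exact mem_normalizer_fintype hn
  have hp : IsPGroup 2 (zpowers y) := by
    obtain ⟨n, hn⟩ := h2
    rintro ⟨a, ha⟩
    obtain ⟨i, rfl⟩ := mem_zpowers_iff.1 ha
    refine ⟨n, Subtype.ext ?_⟩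
    show (y ^ i) ^ (2 ^ n) = 1
    rw [← zpow_natCast (y ^ i), ← zpow_mul, mul_comm, zpow_mul, zpow_natCast, hn, one_zpow]
  have h3 : IsPGroup 2 (T ⊔ zpowers y : Subgroup G) := by
    rw [sup_comm]
    exact IsPGroup.to_sup_of_normal_right' hp S.pT hy'
  have h4 := S.max h3 le_sup_left (by
    have h5 : T ⊔ zpowers y ≤ centralizer ({x} : Set G) := by
      refine sup_le (fun t ht => mem_centralizer_singleton_iff.2 (S.cx t ht)) ?_
      rw [zpowers_le]
      exact mem_centralizer_singleton_iff.2 hy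
    intro t ht
    exact mem_centralizer_singleton_iff.1 (h5 ht))
  exact h4 (mem_sup_right (mem_zpowers y))

end Setup

end Cfsg.Agent.OddHalf.D6
end

-- part: OddHalf/D6/TypeA
section
/-!
# ODD D6, `K = L₂(q)`, `|Q| = 2`: a component of type (a) of `C(z)` (helper419)

The common end of the cases C1 and C2(α) of helper532's text.

`Base x z T K`: `T` is a Sylow 2-subgroup of `C(x)`, `K ⊴ C(x)`, `D = T ∩ K` is a Sylow 2-subgroup of `K ≅ PSL(2,F)`,
`C_T(D)` is abelian, `C_T(K) = ⟨x⟩`, `K ∩ Z(T) = ⟨z⟩`, `D` is not abelian.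

`Over x z T K L w`: `L ≅ PSL(2,F)` is a `T`-invariant subgroup of `C(z)`, `T ∩ L` is a Sylow 2-subgroup of `L`,
`x` acts on `L` as the involution `w ∈ L`; every noncentral involution `v` of `D` inverts an element of
`C_L(x)` whose square is not 1.

`Base.false_of_over`: if moreover `w ∈ {x, xz}`, this is impossible. (Conjugate the element `ρ₁ ∈ C_K(u)` with
`z ^ ρ₁ = v` by the element of order 3 of `N_L(T ∩ L)`: the result centralises `x`, so normalises `K`, but
does not leave `K ∩ T` invariant.)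
-/

set_option autoImplicit false

namespace Cfsg.Agent.OddHalf.D6.TypeA

open Subgroup Cfsg.Agent.GH.L2Aut

variable {G : Type*} [Group G]

/-- The centralizer side. -/
structure Base (x z : G) (T K : Subgroup G) : Prop where
  xx : x * x = 1
  x1 : x ≠ 1
  zz : z * z = 1
  z1 : z ≠ 1
  xT : x ∈ T
  zT : z ∈ T
  xK : x ∉ K
  zK : z ∈ K
  cx : ∀ t ∈ T, t * x = x * t
  cz : ∀ t ∈ T, t * z = z * t
  pT : IsPGroup 2 T
  /-- `T` is a Sylow 2-subgroup of `C(x)` -/
  max : ∀ P : Subgroup G, IsPGroup 2 P → T ≤ P → (∀ y ∈ P, y * x = x * y) → P ≤ T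
  Kx : ∀ k ∈ K, k * x = x * k
  Kn : ∀ c : G, c * x = x * c → ∀ k ∈ K, c * k * c⁻¹ ∈ K
  /-- `T ∩ K` is a Sylow 2-subgroup of `K` -/
  sylK : ∀ P : Subgroup G, IsPGroup 2 P → T ⊓ K ≤ P → P ≤ K → P ≤ T
  /-- `D` is not abelian: -/
  na : ∃ v ∈ T, v ∈ K ∧ v * v = 1 ∧ v ≠ 1 ∧ v ≠ z ∧ ∃ d ∈ T, d ∈ K ∧ d * v ≠ v * d
  /-- `C_T(D)` is abelian -/
  cD : ∀ a ∈ T, (∀ d ∈ T, d ∈ K → a * d = d * a) → ∀ b ∈ T, (∀ d ∈ T, d ∈ K → b * d = d * b) →
    a * b = b * a
  /-- `K ∩ Z(T) = ⟨z⟩` -/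
  KZ : ∀ e ∈ K, e ∈ T → (∀ t ∈ T, t * e = e * t) → e = 1 ∨ e = z
  /-- `C_T(K) = ⟨x⟩` -/
  CK : ∀ c ∈ T, (∀ k ∈ K, c * k = k * c) → c = 1 ∨ c = x
  iso : ∃ (F : Type) (_ : Field F) (_ : Finite F), Nonempty (GH.L2Aut.Rep F K)

/-- The component of `C(z)`. -/
structure Over (x z : G) (T K L : Subgroup G) (w : G) : Prop where
  Lz : ∀ l ∈ L, l * z = z * l
  TL : ∀ t ∈ T, ∀ l ∈ L, t * l * t⁻¹ ∈ L
  wL : w ∈ L
  ww : w * w = 1
  w1 : w ≠ 1
  wx : ∀ l ∈ L, x * l * x⁻¹ = w * l * w⁻¹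
  iso : ∃ (F : Type) (_ : Field F) (_ : Finite F), Nonempty (GH.L2Aut.Rep F L)
  /-- `T ∩ L` is a Sylow 2-subgroup of `L` -/
  syl : ∀ P : Subgroup G, IsPGroup 2 P → T ⊓ L ≤ P → P ≤ L → P ≤ T
  /-- noncentral involutions of `D` invert something -/
  inv : ∀ v ∈ T, v ∈ K → v * v = 1 → v ≠ 1 → v ≠ z → ∃ a ∈ L, a * a ≠ 1 ∧ a * x = x * a ∧
    v * a * v⁻¹ = a⁻¹

/-- the automorphism induced on an invariant subgroup -/
def act (L : Subgroup G) (t : G) (h : ∀ l ∈ L, t * l * t⁻¹ ∈ L) (h' : ∀ l ∈ L, t⁻¹ * l * t ∈ L) :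
    MulAut L where
  toFun l := ⟨t * l * t⁻¹, h l l.2⟩
  invFun l := ⟨t⁻¹ * l * t, h' l l.2⟩
  left_inv l := Subtype.ext (by simp only; group)
  right_inv l := Subtype.ext (by simp only; group)
  map_mul' a b := Subtype.ext (by
    show t * ((a : G) * b) * t⁻¹ = t * a * t⁻¹ * (t * b * t⁻¹)
    group)

theorem act_apply (L : Subgroup G) (t : G) (h : ∀ l ∈ L, t * l * t⁻¹ ∈ L)
    (h' : ∀ l ∈ L, t⁻¹ * l * t ∈ L) (l : L) : ((act L t h h' l : L) : G) = t * l * t⁻¹ := rfl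

theorem act_pow (L : Subgroup G) (t : G) (h : ∀ l ∈ L, t * l * t⁻¹ ∈ L)
    (h' : ∀ l ∈ L, t⁻¹ * l * t ∈ L) (n : ℕ) (l : L) :
    (((act L t h h') ^ n) l : G) = t ^ n * l * (t ^ n)⁻¹ := by
  induction n with
  | zero => simp
  | succ n ih =>
    rw [pow_succ', MulAut.mul_apply, act_apply, ih, pow_succ']
    group

theorem isPGroup_zpowers {y : G} (h : ∃ n, y ^ 2 ^ n = 1) : IsPGroup 2 (zpowers y) := by
  obtain ⟨n, hn⟩ := h
  rintro ⟨a, ha⟩
  obtain ⟨i, rfl⟩ := mem_zpowers_iff.1 ha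
  refine ⟨n, Subtype.ext ?_⟩
  show (y ^ i) ^ (2 ^ n) = 1
  rw [← zpow_natCast (y ^ i), ← zpow_mul, mul_comm, zpow_mul, zpow_natCast, hn, one_zpow]

namespace Over

variable {x z w : G} {T K L : Subgroup G}

/-- the centre of `L` is trivial -/
theorem center (O : Over x z T K L w) {l : G} (hl : l ∈ L) (h : ∀ m ∈ L, l * m = m * l) : l = 1 := by
  obtain ⟨F, _, _, ⟨R⟩⟩ := O.iso
  have h1 : (⟨l, hl⟩ : L) ∈ Subgroup.center L := by
    rw [Subgroup.mem_center_iff]
    intro m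
    exact Subtype.ext (h m m.2).symm
  rw [R.center_eq_bot, mem_bot] at h1
  exact congrArg Subtype.val h1

/-- two elements of `L` with the same action on `L` are equal -/
theorem eq_of_act (O : Over x z T K L w) {a b : G} (ha : a ∈ L) (hb : b ∈ L)
    (h : ∀ l ∈ L, a * l * a⁻¹ = b * l * b⁻¹) : a = b := by
  have h1 : b⁻¹ * a = 1 := by
    apply O.center (mul_mem (inv_mem hb) ha)
    intro m hm
    have h2 := h m hm
    calc b⁻¹ * a * m = b⁻¹ * (a * m * a⁻¹) * a := by group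
      _ = b⁻¹ * (b * m * b⁻¹) * a := by rw [h2]
      _ = m * (b⁻¹ * a) := by group
  exact (inv_mul_eq_one.1 h1).symm

theorem z_not (O : Over x z T K L w) (hz1 : z ≠ 1) : z ∉ L := fun h =>
  hz1 (O.center h fun m hm => (O.Lz m hm).symm)

theorem w_comm (O : Over x z T K L w) (B : Base x z T K) {t : G} (ht : t ∈ T) : t * w = w * t := by
  have h : t * w * t⁻¹ = w := by
    apply O.eq_of_act (O.TL t ht w O.wL) O.wL
    intro l hl
    have hl' : t⁻¹ * l * t ∈ L := by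
      have := O.TL t⁻¹ (inv_mem ht) l hl
      rwa [inv_inv] at this
    have hx : t * x * t⁻¹ = x := by rw [B.cx t ht]; group
    have hx' : t * x⁻¹ * t⁻¹ = x⁻¹ := by
      calc t * x⁻¹ * t⁻¹ = (t * x * t⁻¹)⁻¹ := by group
        _ = x⁻¹ := by rw [hx]
    calc t * w * t⁻¹ * l * (t * w * t⁻¹)⁻¹ = t * (w * (t⁻¹ * l * t) * w⁻¹) * t⁻¹ := by group
      _ = t * (x * (t⁻¹ * l * t) * x⁻¹) * t⁻¹ := by rw [O.wx _ hl']
      _ = (t * x * t⁻¹) * l * (t * x⁻¹ * t⁻¹) := by group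
      _ = x * l * x⁻¹ := by rw [hx, hx']
      _ = w * l * w⁻¹ := O.wx l hl
  rw [← mul_inv_eq_iff_eq_mul]; exact h

theorem w_mem (O : Over x z T K L w) (B : Base x z T K) : w ∈ T := by
  have h1 : IsPGroup 2 (zpowers w) := isPGroup_zpowers ⟨1, by rw [pow_one, pow_two, O.ww]⟩
  have h2 : zpowers w ≤ normalizer (T : Set G) := by
    rw [zpowers_le, mem_normalizer_iff]
    intro t
    constructor
    · intro ht
      have : w * t * w⁻¹ = t := by rw [← O.w_comm B ht]; group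
      rw [this]; exact ht
    · intro ht
      have h3 := O.w_comm B ht
      have : t = w * t * w⁻¹ := by
        calc t = w⁻¹ * (w * t * w⁻¹ * w) := by group
          _ = w⁻¹ * (w * (w * t * w⁻¹)) := by rw [h3]
          _ = w * t * w⁻¹ := by group
      rw [this]; exact ht
  have h3 : IsPGroup 2 ((zpowers w ⊔ T : Subgroup G)) := h1.to_sup_of_normal_right' B.pT h2
  have hwx : w * x = x * w := (O.w_comm B B.xT).symm
  have h4 : ∀ y ∈ zpowers w ⊔ T, y * x = x * y := by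
    have : zpowers w ⊔ T ≤ centralizer ({x} : Set G) := by
      rw [sup_le_iff, zpowers_le]
      exact ⟨mem_centralizer_singleton_iff.2 hwx, fun y hy => mem_centralizer_singleton_iff.2 (B.cx y hy)⟩
    intro y hy
    exact mem_centralizer_singleton_iff.1 (this hy)
  exact B.max _ h3 le_sup_right h4 ((le_sup_left : zpowers w ≤ _) (mem_zpowers w))

/-- `K ∩ L ∩ T = 1` -/
theorem KL [Finite G] (O : Over x z T K L w) (B : Base x z T K) {e : G} (hT : e ∈ T) (hK : e ∈ K)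
    (hL : e ∈ L) : e = 1 := by
  by_contra he
  let N : Subgroup T := (K ⊓ L).subgroupOf T
  have hN : N.Normal := by
    refine ⟨fun n hn g => ?_⟩
    rw [mem_subgroupOf] at hn ⊢
    exact ⟨B.Kn g (B.cx g g.2) _ hn.1, O.TL g g.2 _ hn.2⟩
  have hN1 : N ≠ ⊥ := by
    intro h
    have h1 : (⟨e, hT⟩ : T) ∈ N := by rw [mem_subgroupOf]; exact ⟨hK, hL⟩
    rw [h, mem_bot] at h1
    exact he (congrArg Subtype.val h1)
  have : Group.IsNilpotent T := B.pT.isNilpotent
  have h2 := Cfsg.Agent.Lib.NormalAbelian.normal_inf_center_ne_bot N hN1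
  obtain ⟨c, hc, hc1⟩ := (N ⊓ Subgroup.center T).bot_or_exists_ne_one.resolve_left h2
  have h3 : (c : G) ∈ K ⊓ L := mem_subgroupOf.1 hc.1
  rcases B.KZ c h3.1 c.2 (fun t ht => congrArg Subtype.val (Subgroup.mem_center_iff.1 hc.2 ⟨t, ht⟩))
    with h | h
  · exact hc1 (Subtype.ext h)
  · exact O.z_not B.z1 (h ▸ h3.2)

/-- `T ∩ L` centralises `D` -/
theorem TL_cent [Finite G] (O : Over x z T K L w) (B : Base x z T K) {y d : G} (hy : y ∈ T)
    (hyL : y ∈ L) (hd : d ∈ T) (hdK : d ∈ K) : y * d = d * y := by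
  have h : y * d * y⁻¹ * d⁻¹ = 1 := by
    apply O.KL B
    · exact mul_mem (mul_mem (mul_mem hy hd) (inv_mem hy)) (inv_mem hd)
    · exact mul_mem (B.Kn y (B.cx y hy) d hdK) (inv_mem hdK)
    · have : y * d * y⁻¹ * d⁻¹ = y * (d * y⁻¹ * d⁻¹) := by group
      rw [this]
      exact mul_mem hyL (O.TL d hd _ (inv_mem hyL))
  rw [mul_inv_eq_one, mul_inv_eq_iff_eq_mul] at h
  exact h

theorem TL_comm [Finite G] (O : Over x z T K L w) (B : Base x z T K) {y y' : G} (hy : y ∈ T)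
    (hyL : y ∈ L) (hy' : y' ∈ T) (hyL' : y' ∈ L) : y * y' = y' * y :=
  B.cD y hy (fun d hd hdK => O.TL_cent B hy hyL hd hdK) y' hy'
    (fun d hd hdK => O.TL_cent B hy' hyL' hd hdK)

/-- the Sylow 2-subgroup of `L` -/
def sylow (O : Over x z T K L w) (B : Base x z T K) : Sylow 2 L where
  toSubgroup := (T ⊓ L).subgroupOf L
  isPGroup' := (B.pT.to_le inf_le_left).comap_of_injective _ L.subtype_injective
  is_maximal' := by
    intro Q hQ hle
    have h1 : T ⊓ L ≤ Q.map L.subtype := by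
      intro s hs
      exact ⟨⟨s, hs.2⟩, hle (by rw [mem_subgroupOf]; exact hs), rfl⟩
    have h3 := O.syl _ (hQ.map _) h1 (by rintro _ ⟨q, -, rfl⟩; exact q.2)
    apply le_antisymm _ hle
    intro q hq
    rw [mem_subgroupOf]
    exact ⟨h3 ⟨q, hq, rfl⟩, q.2⟩

theorem mem_sylow (O : Over x z T K L w) (B : Base x z T K) {l : L} :
    l ∈ O.sylow B ↔ (l : G) ∈ T := by
  change l ∈ (T ⊓ L).subgroupOf L ↔ _
  rw [mem_subgroupOf]
  exact ⟨fun h => h.1, fun h => ⟨h, l.2⟩⟩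

/-- `T ∩ L = {1, w, u, wu}` -/
theorem four [Finite G] (O : Over x z T K L w) (B : Base x z T K) :
    ∃ u : G, u ∈ T ∧ u ∈ L ∧ u * u = 1 ∧ u ≠ 1 ∧ u ≠ w ∧ w * u = u * w ∧
      ∀ y ∈ T, y ∈ L → y = 1 ∨ y = w ∨ y = u ∨ y = w * u := by
  obtain ⟨F, _, _, ⟨R⟩⟩ := O.iso
  obtain ⟨d, r, hD⟩ := R.exists_dih (O.sylow B)
  have hd : (d : G) ∈ T := (O.mem_sylow B).1 hD.d_mem
  have hr : (r : G) ∈ T := (O.mem_sylow B).1 hD.r_mem
  have hcomm : (r : G) * d = d * r := O.TL_comm B hr r.2 hd d.2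
  have hdd : d * d = 1 := by
    have h1 := hD.rd
    have h2 : r * d * r⁻¹ = d := by
      rw [mul_inv_eq_iff_eq_mul]; exact Subtype.ext hcomm
    rw [h2] at h1
    nth_rw 1 [h1]
    rw [inv_mul_cancel]
  have hz : ∀ k : ℤ, d ^ k = 1 ∨ d ^ k = d := by
    intro k
    have hsq : d ^ (2 : ℤ) = 1 := by
      rw [show (2 : ℤ) = 1 + 1 by norm_num, zpow_add, zpow_one, hdd]
    rcases Int.even_or_odd' k with ⟨m, rfl | rfl⟩
    · left; rw [zpow_mul, hsq, one_zpow]
    · right; rw [zpow_add, zpow_mul, hsq, one_zpow, one_mul, zpow_one]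
  have hcov : ∀ y ∈ O.sylow B, y = 1 ∨ y = d ∨ y = r ∨ y = d * r := by
    intro y hy
    rcases hD.cov y hy with h | ⟨k, h⟩
    · obtain ⟨k, rfl⟩ := mem_zpowers_iff.1 h
      rcases hz k with h | h
      · exact Or.inl h
      · exact Or.inr (Or.inl h)
    · rcases hz k with h' | h'
      · rw [h', one_mul] at h; exact Or.inr (Or.inr (Or.inl h))
      · rw [h'] at h; exact Or.inr (Or.inr (Or.inr h))
  have hrd : r ≠ d := fun h => hD.r_not (by rw [h]; exact mem_zpowers d)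
  have hcov' : ∀ y ∈ T, y ∈ L → y = 1 ∨ y = d ∨ y = r ∨ y = d * r := by
    intro y hy hyL
    rcases hcov ⟨y, hyL⟩ ((O.mem_sylow B).2 hy) with h | h | h | h
    · exact Or.inl (congrArg Subtype.val h)
    · exact Or.inr (Or.inl (congrArg Subtype.val h))
    · exact Or.inr (Or.inr (Or.inl (congrArg Subtype.val h)))
    · exact Or.inr (Or.inr (Or.inr (congrArg Subtype.val h)))
  have rr : (r : G) * r = 1 := congrArg Subtype.val hD.rr
  have dd : (d : G) * d = 1 := congrArg Subtype.val hdd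
  have r1 : (r : G) ≠ 1 := fun h => hD.r1 (Subtype.ext h)
  have d1 : (d : G) ≠ 1 := fun h => hD.d1 (Subtype.ext h)
  have rd : (r : G) ≠ d := fun h => hrd (Subtype.ext h)
  rcases hcov' w (O.w_mem B) O.wL with h | h | h | h
  · exact absurd h O.w1
  · refine ⟨r, hr, r.2, rr, r1, by rw [h]; exact rd, by rw [h]; exact hcomm.symm, ?_⟩
    intro y hy hyL
    rw [h]; exact hcov' y hy hyL
  · refine ⟨d, hd, d.2, dd, d1, by rw [h]; exact rd.symm, by rw [h]; exact hcomm, ?_⟩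
    intro y hy hyL
    rw [h, hcomm]
    rcases hcov' y hy hyL with h1 | h1 | h1 | h1
    · exact Or.inl h1
    · exact Or.inr (Or.inr (Or.inl h1))
    · exact Or.inr (Or.inl h1)
    · exact Or.inr (Or.inr (Or.inr h1))
  · refine ⟨r, hr, r.2, rr, r1, ?_, ?_, ?_⟩
    · rw [h]; intro h1; exact d1 (right_eq_mul.1 h1)
    · rw [h, mul_assoc, rr, mul_one, ← hcomm, ← mul_assoc, rr, one_mul]
    · intro y hy hyL
      rw [h, mul_assoc, rr, mul_one]
      rcases hcov' y hy hyL with h1 | h1 | h1 | h1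
      · exact Or.inl h1
      · exact Or.inr (Or.inr (Or.inr h1))
      · exact Or.inr (Or.inr (Or.inl h1))
      · exact Or.inr (Or.inl h1)

/-- the action of a noncentral involution of `D` on `L` -/
theorem vact [Finite G] (O : Over x z T K L w) (B : Base x z T K) {u : G} (huT : u ∈ T)
    (huL : u ∈ L) (huu : u * u = 1) (hu1 : u ≠ 1) (huw : u ≠ w) (hwu : w * u = u * w)
    (hcov : ∀ y ∈ T, y ∈ L → y = 1 ∨ y = w ∨ y = u ∨ y = w * u)
    {v : G} (hvT : v ∈ T) (hvK : v ∈ K) (hvv : v * v = 1) (hv1 : v ≠ 1) (hvz : v ≠ z) :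
    ∃ u0 : G, (u0 = u ∨ u0 = w * u) ∧ ∀ l ∈ L, v * l * v⁻¹ = u0 * l * u0⁻¹ := by
  obtain ⟨F, _, _, ⟨R⟩⟩ := O.iso
  have hwT := O.w_mem B
  have hL' : ∀ l ∈ L, v⁻¹ * l * v ∈ L := by
    intro l hl
    have := O.TL v⁻¹ (inv_mem hvT) l hl
    rwa [inv_inv] at this
  have hf : Four (⟨w, O.wL⟩ : L) ⟨u, huL⟩ :=
    { aa := Subtype.ext O.ww
      bb := Subtype.ext huu
      a1 := fun h => O.w1 (congrArg Subtype.val h)
      b1 := fun h => hu1 (congrArg Subtype.val h)
      ne := fun h => huw (congrArg Subtype.val h).symm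
      comm := Subtype.ext hwu }
  have hfix : ∀ y ∈ T, y ∈ L → v * y * v⁻¹ = y := by
    intro y hy hyL
    rw [← O.TL_cent B hy hyL hvT hvK]; group
  have h2 : ∃ n, (act L v (O.TL v hvT) hL') ^ 2 ^ n = 1 := by
    refine ⟨1, MulEquiv.ext fun l => Subtype.ext ?_⟩
    rw [act_pow, pow_one, pow_two, hvv]
    simp
  have hS : ∀ y : L, (∃ n, y ^ 2 ^ n = 1) → y * (⟨w, O.wL⟩ : L) * y⁻¹ = ⟨u, huL⟩ →
      y * (⟨u, huL⟩ : L) * y⁻¹ = ⟨w, O.wL⟩ → False := by
    rintro ⟨y, hyL⟩ ⟨n, hn⟩ h1 h3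
    have hn' : y ^ 2 ^ n = 1 := congrArg Subtype.val hn
    have h1' : y * w * y⁻¹ = u := congrArg Subtype.val h1
    have h3' : y * u * y⁻¹ = w := congrArg Subtype.val h3
    have hnorm : zpowers y ≤ normalizer ((T ⊓ L : Subgroup G) : Set G) := by
      rw [zpowers_le, mem_normalizer_iff]
      have e1 : ∀ t ∈ T ⊓ L, y * t * y⁻¹ ∈ T ⊓ L := by
        intro t ht
        rcases hcov t ht.1 ht.2 with rfl | rfl | rfl | rfl
        · rw [mul_one, mul_inv_cancel]; exact one_mem _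
        · rw [h1']; exact ⟨huT, huL⟩
        · rw [h3']; exact ⟨hwT, O.wL⟩
        · have : y * (w * u) * y⁻¹ = y * w * y⁻¹ * (y * u * y⁻¹) := by group
          rw [this, h1', h3']
          exact ⟨mul_mem huT hwT, mul_mem huL O.wL⟩
      have h1'' : y⁻¹ * u * y = w := by rw [← h1']; group
      have h3'' : y⁻¹ * w * y = u := by rw [← h3']; group
      have e2 : ∀ t ∈ T ⊓ L, y⁻¹ * t * y ∈ T ⊓ L := by
        intro t ht
        rcases hcov t ht.1 ht.2 with rfl | rfl | rfl | rfl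
        · rw [mul_one, inv_mul_cancel]; exact one_mem _
        · rw [h3'']; exact ⟨huT, huL⟩
        · rw [h1'']; exact ⟨hwT, O.wL⟩
        · have : y⁻¹ * (w * u) * y = y⁻¹ * w * y * (y⁻¹ * u * y) := by group
          rw [this, h1'', h3'']
          exact ⟨mul_mem huT hwT, mul_mem huL O.wL⟩
      intro t
      refine ⟨e1 t, fun ht => ?_⟩
      have := e2 _ ht
      have h5 : y⁻¹ * (y * t * y⁻¹) * y = t := by group
      rwa [h5] at this
    have h4 : IsPGroup 2 ((zpowers y ⊔ (T ⊓ L) : Subgroup G)) :=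
      (isPGroup_zpowers ⟨n, hn'⟩).to_sup_of_normal_right' (B.pT.to_le inf_le_left) hnorm
    have h5 := O.syl _ h4 le_sup_right (sup_le (by rw [zpowers_le]; exact hyL) inf_le_right)
    have h6 : y ∈ T := h5 ((le_sup_left : zpowers y ≤ _) (mem_zpowers y))
    rw [O.TL_comm B h6 hyL hwT O.wL, mul_inv_cancel_right] at h1'
    exact huw h1'.symm
  obtain ⟨u0, hu0, hα⟩ := FieldFacts.fix_four_syl R hf hS h2
    (Subtype.ext (hfix w hwT O.wL)) (Subtype.ext (hfix u huT huL))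
  have hact : ∀ l ∈ L, v * l * v⁻¹ = (u0 : G) * l * (u0 : G)⁻¹ := by
    intro l hl
    have h3 := congrArg Subtype.val (DFunLike.congr_fun hα ⟨l, hl⟩)
    rw [act_apply, MulAut.conj_apply] at h3
    exact h3
  obtain ⟨a, haL, haa, hax, hav⟩ := O.inv v hvT hvK hvv hv1 hvz
  refine ⟨u0, ?_, hact⟩
  rcases hu0 with h | h | h | h
  · exfalso
    rw [hact a haL, h] at hav
    simp only [coe_one, one_mul, inv_one, mul_one] at hav
    apply haa
    nth_rw 1 [hav]
    rw [inv_mul_cancel]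
  · exfalso
    rw [hact a haL, h] at hav
    simp only at hav
    rw [← O.wx a haL, ← hax, mul_inv_cancel_right] at hav
    apply haa
    nth_rw 1 [hav]
    rw [inv_mul_cancel]
  · exact Or.inl (by rw [h])
  · exact Or.inr (by rw [h]; rfl)

end Over

namespace Base

variable {x z : G} {T K : Subgroup G}

theorem comm (B : Base x z T K) : x * z = z * x := B.cz x B.xT

/-- the element `ρ₁ ∈ C_K(u)`, `u` an involution of `C_T(D)` outside `⟨x, z⟩` -/
theorem exists_rho [Finite G] (B : Base x z T K) {u : G} (huT : u ∈ T) (huu : u * u = 1)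
    (hu1 : u ≠ 1) (hux : u ≠ x) (huz : u ≠ z) (huxz : u ≠ x * z)
    (hc : ∀ d ∈ T, d ∈ K → u * d = d * u) :
    ∃ ρ ∈ K, ρ * u = u * ρ ∧ ρ * z * ρ⁻¹ ∈ T ∧ ρ * z * ρ⁻¹ ≠ z := by
  obtain ⟨F, _, _, ⟨R⟩⟩ := B.iso
  have hK := B.Kn u (B.cx u huT)
  have hK' : ∀ k ∈ K, u⁻¹ * k * u ∈ K := by
    intro k hk
    have := B.Kn u⁻¹ (B.cx _ (inv_mem huT)) k hk
    rwa [inv_inv] at this
  set α := act K u hK hK' with hαdef
  have hα2 : α * α = 1 := by
    refine MulEquiv.ext fun l => Subtype.ext ?_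
    rw [← pow_two, hαdef, act_pow, pow_two, huu]
    simp
  have hfixD : ∀ d (hd : d ∈ K), d ∈ T → α ⟨d, hd⟩ = ⟨d, hd⟩ := by
    intro d hd hdT
    apply Subtype.ext
    rw [hαdef, act_apply]
    rw [hc d hdT hd, mul_inv_cancel_right]
  have hne : R.fld α ≠ 1 := by
    intro h1
    obtain ⟨v, hvT, hvK, hvv, hv1, hvz, d, hdT, hdK, hdv⟩ := B.na
    rcases FieldFacts.fix_syl R (z := ⟨z, B.zK⟩) (v := ⟨v, hvK⟩) (d := ⟨d, hdK⟩)
      (Subtype.ext B.zz) (fun h => B.z1 (congrArg Subtype.val h)) (Subtype.ext hvv)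
      (fun h => hv1 (congrArg Subtype.val h)) (fun h => hvz (congrArg Subtype.val h))
      (Subtype.ext (B.cz v hvT)) (Subtype.ext (B.cz d hdT)) (fun h => hdv (congrArg Subtype.val h))
      h1 (hfixD z B.zK B.zT) (hfixD v hvK hvT) (hfixD d hdK hdT) with h | h
    · rcases B.CK u huT (fun k hk => by
        have h3 := congrArg Subtype.val (DFunLike.congr_fun h ⟨k, hk⟩)
        rw [hαdef, act_apply] at h3
        rw [← mul_inv_eq_iff_eq_mul]; exact h3) with h4 | h4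
      · exact hu1 h4
      · exact hux h4
    · rcases B.CK (z⁻¹ * u) (mul_mem (inv_mem B.zT) huT) (fun k hk => by
        have h3 := congrArg Subtype.val (DFunLike.congr_fun h ⟨k, hk⟩)
        rw [hαdef, act_apply, MulAut.conj_apply] at h3
        have h4 : u * k * u⁻¹ = z * k * z⁻¹ := h3
        calc z⁻¹ * u * k = z⁻¹ * (u * k * u⁻¹) * u := by group
          _ = z⁻¹ * (z * k * z⁻¹) * u := by rw [h4]
          _ = k * (z⁻¹ * u) := by group) with h4 | h4
      · exact huz (inv_mul_eq_one.1 h4).symm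
      · apply huxz
        rw [inv_mul_eq_iff_eq_mul] at h4
        rw [h4, B.comm]
  have hmax : ∀ P : Subgroup K, IsPGroup 2 P → (T ⊓ K).subgroupOf K ≤ P → P ≤ (T ⊓ K).subgroupOf K := by
    intro Q hQ hle q hq
    have h1 : T ⊓ K ≤ Q.map K.subtype := by
      intro s hs
      exact ⟨⟨s, hs.2⟩, hle (by rw [mem_subgroupOf]; exact hs), rfl⟩
    have h3 := B.sylK _ (hQ.map _) h1 (by rintro _ ⟨q, -, rfl⟩; exact q.2)
    rw [mem_subgroupOf]
    exact ⟨h3 ⟨q, hq, rfl⟩, q.2⟩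
  obtain ⟨ρ, h1, h2, h3⟩ := FieldFacts.exists_move R hα2 hne ((T ⊓ K).subgroupOf K)
    ((B.pT.to_le inf_le_left).comap_of_injective _ K.subtype_injective) hmax
    (fun s hs => hfixD s s.2 (mem_subgroupOf.1 hs).1) (z := ⟨z, B.zK⟩)
    (by rw [mem_subgroupOf]; exact ⟨B.zT, B.zK⟩) (fun h => B.z1 (congrArg Subtype.val h))
    (fun s hs => Subtype.ext (B.cz s (mem_subgroupOf.1 hs).1))
  refine ⟨ρ, ρ.2, ?_, (mem_subgroupOf.1 h2).1, fun h => h3 (Subtype.ext h)⟩
  have h4 := congrArg Subtype.val h1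
  rw [hαdef, act_apply, mul_inv_eq_iff_eq_mul] at h4
  exact h4.symm

/-- **Type (a) components with `w ∈ {x, xz}` do not exist.** -/
theorem false_of_over [Finite G] (B : Base x z T K) {L : Subgroup G} {w : G}
    (O : Over x z T K L w) (hw : w = x ∨ w = x * z) : False := by
  obtain ⟨u, huT, huL, huu, hu1, huw, hwu, hcov⟩ := O.four B
  have hzL := O.z_not B.z1
  have hwL := O.wL
  have huz : u ≠ z := fun h => hzL (h ▸ huL)
  have hxx := B.xx
  have hzz := B.zz
  have hxz := B.comm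
  have huxz : u ≠ x * z := by
    intro h
    rcases hw with h1 | h1
    · apply hzL
      have : z = w * u := by rw [h1, h, ← mul_assoc, hxx, one_mul]
      rw [this]; exact mul_mem hwL huL
    · exact huw (h.trans h1.symm)
  have hux : u ≠ x := by
    intro h
    rcases hw with h1 | h1
    · exact huw (h.trans h1.symm)
    · apply hzL
      have : z = u * w := by rw [h1, h, ← mul_assoc, hxx, one_mul]
      rw [this]; exact mul_mem huL hwL
  obtain ⟨ρ, hρK, hρu, hρT, hρz⟩ := B.exists_rho huT huu hu1 hux huz huxz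
    (fun d hd hdK => O.TL_cent B huT huL hd hdK)
  set v := ρ * z * ρ⁻¹ with hv
  have hvK : v ∈ K := mul_mem (mul_mem hρK B.zK) (inv_mem hρK)
  have hvv : v * v = 1 := by
    rw [hv]
    calc ρ * z * ρ⁻¹ * (ρ * z * ρ⁻¹) = ρ * (z * z) * ρ⁻¹ := by group
      _ = 1 := by rw [hzz]; group
  have hv1 : v ≠ 1 := by
    intro h
    apply B.z1
    have : z = ρ⁻¹ * v * ρ := by rw [hv]; group
    rw [this, h]; group
  obtain ⟨u0, hu0, hact⟩ := O.vact B huT huL huu hu1 huw hwu hcov hρT hvK hvv hv1 hρz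
  -- `b` of order three
  obtain ⟨F, _, _, ⟨R⟩⟩ := O.iso
  have hf : Four (⟨w, O.wL⟩ : L) ⟨u, huL⟩ :=
    { aa := Subtype.ext O.ww
      bb := Subtype.ext huu
      a1 := fun h => O.w1 (congrArg Subtype.val h)
      b1 := fun h => hu1 (congrArg Subtype.val h)
      ne := fun h => huw (congrArg Subtype.val h).symm
      comm := Subtype.ext hwu }
  obtain ⟨-, ⟨b, hbL⟩, -, -, -, -, -, -, -, h1, h2, -⟩ := R.exists_frame hf
  have hbw : b * w * b⁻¹ = u := congrArg Subtype.val h1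
  have hbu : b * u * b⁻¹ = w * u := congrArg Subtype.val h2
  have hbwu : b * (w * u) * b⁻¹ = w := by
    calc b * (w * u) * b⁻¹ = b * w * b⁻¹ * (b * u * b⁻¹) := by group
      _ = u * (w * u) := by rw [hbw, hbu]
      _ = w := by rw [hwu, ← mul_assoc, huu, one_mul]
  have hbw' : b⁻¹ * u * b = w := by rw [← hbw]; group
  have hbu' : b⁻¹ * (w * u) * b = u := by rw [← hbu]; group
  have hbwu' : b⁻¹ * w * b = w * u := by
    calc b⁻¹ * w * b = b⁻¹ * (b * (w * u) * b⁻¹) * b := by rw [hbwu]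
      _ = w * u := by group
  have hbz : b * z = z * b := O.Lz b hbL
  have hu0L : u0 ∈ L := by
    rcases hu0 with h | h
    · rw [h]; exact huL
    · rw [h]; exact mul_mem hwL huL
  have hu0T : u0 ∈ T := by
    rcases hu0 with h | h
    · rw [h]; exact huT
    · rw [h]; exact mul_mem (O.w_mem B) huT
  -- `v` is `u0` times an element centralising `L`
  have hcen : ∀ l ∈ L, v * u0⁻¹ * l = l * (v * u0⁻¹) := by
    intro l hl
    have h3 := hact (u0⁻¹ * l * u0) (mul_mem (mul_mem (inv_mem hu0L) hl) hu0L)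
    calc v * u0⁻¹ * l = v * (u0⁻¹ * l * u0) * v⁻¹ * (v * u0⁻¹) := by group
      _ = u0 * (u0⁻¹ * l * u0) * u0⁻¹ * (v * u0⁻¹) := by rw [h3]
      _ = l * (v * u0⁻¹) := by group
  have hconj : ∀ l ∈ L, l * v * l⁻¹ = v * (u0⁻¹ * (l * u0 * l⁻¹)) := by
    intro l hl
    calc l * v * l⁻¹ = l * (v * u0⁻¹) * (u0 * l⁻¹) := by group
      _ = v * u0⁻¹ * l * (u0 * l⁻¹) := by rw [hcen l hl]
      _ = v * (u0⁻¹ * (l * u0 * l⁻¹)) := by group
  -- the end
  have hend : ∀ l ∈ L, l * v * l⁻¹ ∈ K → l * u0 * l⁻¹ ∈ T → l * u0 * l⁻¹ = u0 := by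
    intro l hl hlK hlT
    have h4 : u0⁻¹ * (l * u0 * l⁻¹) = 1 := by
      apply O.KL B (mul_mem (inv_mem hu0T) hlT)
      · have h5 : u0⁻¹ * (l * u0 * l⁻¹) = v⁻¹ * (l * v * l⁻¹) := by
          rw [hconj l hl]; group
        rw [h5]
        exact mul_mem (inv_mem hvK) hlK
      · exact mul_mem (inv_mem hu0L) (mul_mem (mul_mem hl hu0L) (inv_mem hl))
    exact (inv_mul_eq_one.1 h4).symm
  have hwT := O.w_mem B
  have hρx : ρ * x = x * ρ := B.Kx ρ hρK
  rcases hw with hwx | hwx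
  · -- `w = x`
    have hcx : b⁻¹ * ρ * b * x = x * (b⁻¹ * ρ * b) := by
      have e1 : b * x * b⁻¹ = u := by rw [← hwx]; exact hbw
      calc b⁻¹ * ρ * b * x = b⁻¹ * ρ * (b * x * b⁻¹) * b := by group
        _ = b⁻¹ * (ρ * u) * b := by rw [e1]; group
        _ = b⁻¹ * (u * ρ) * b := by rw [hρu]
        _ = b⁻¹ * (b * x * b⁻¹ * ρ) * b := by rw [e1]
        _ = x * (b⁻¹ * ρ * b) := by group
    have hzK := B.Kn _ hcx z B.zK
    have e2 : b⁻¹ * ρ * b * z * (b⁻¹ * ρ * b)⁻¹ = b⁻¹ * v * b⁻¹⁻¹ := by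
      calc b⁻¹ * ρ * b * z * (b⁻¹ * ρ * b)⁻¹ = b⁻¹ * ρ * (b * z) * b⁻¹ * ρ⁻¹ * b := by group
        _ = b⁻¹ * ρ * (z * b) * b⁻¹ * ρ⁻¹ * b := by rw [hbz]
        _ = b⁻¹ * v * b⁻¹⁻¹ := by rw [hv]; group
    rw [e2] at hzK
    have h5 := hend b⁻¹ (inv_mem hbL) hzK (by
      rw [inv_inv]
      rcases hu0 with h | h
      · rw [h, hbw']; exact hwT
      · rw [h, hbu']; exact huT)
    rw [inv_inv] at h5
    rcases hu0 with h | h
    · rw [h, hbw'] at h5; exact huw h5.symm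
    · rw [h, hbu'] at h5
      exact O.w1 (right_eq_mul.1 h5)
  · -- `w = xz`
    have hxw : x = w * z := by rw [hwx, mul_assoc, hzz, mul_one]
    have e1 : b⁻¹ * x * b = x * u := by
      have hbz' : b⁻¹ * z = z * b⁻¹ := O.Lz _ (inv_mem hbL)
      calc b⁻¹ * x * b = b⁻¹ * (w * z) * b := by rw [← hxw]
        _ = b⁻¹ * w * (z * b) := by group
        _ = b⁻¹ * w * (b * z) := by rw [hbz]
        _ = b⁻¹ * w * b * z := by group
        _ = w * u * z := by rw [hbwu']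
        _ = w * (u * z) := by group
        _ = w * (z * u) := by rw [B.cz u huT]
        _ = w * z * u := by group
        _ = x * u := by rw [← hxw]
    have hcx : b * ρ * b⁻¹ * x = x * (b * ρ * b⁻¹) := by
      calc b * ρ * b⁻¹ * x = b * (ρ * (b⁻¹ * x * b)) * b⁻¹ := by group
        _ = b * (ρ * (x * u)) * b⁻¹ := by rw [e1]
        _ = b * (ρ * x * u) * b⁻¹ := by group
        _ = b * (x * ρ * u) * b⁻¹ := by rw [hρx]
        _ = b * (x * (ρ * u)) * b⁻¹ := by group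
        _ = b * (x * (u * ρ)) * b⁻¹ := by rw [hρu]
        _ = b * (x * u * ρ) * b⁻¹ := by group
        _ = b * (b⁻¹ * x * b * ρ) * b⁻¹ := by rw [e1]
        _ = x * (b * ρ * b⁻¹) := by group
    have hzK := B.Kn _ hcx z B.zK
    have e2 : b * ρ * b⁻¹ * z * (b * ρ * b⁻¹)⁻¹ = b * v * b⁻¹ := by
      have hbz' : b⁻¹ * z = z * b⁻¹ := O.Lz _ (inv_mem hbL)
      calc b * ρ * b⁻¹ * z * (b * ρ * b⁻¹)⁻¹ = b * ρ * (b⁻¹ * z) * b * ρ⁻¹ * b⁻¹ := by group
        _ = b * ρ * (z * b⁻¹) * b * ρ⁻¹ * b⁻¹ := by rw [hbz']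
        _ = b * v * b⁻¹ := by rw [hv]; group
    rw [e2] at hzK
    have h5 := hend b hbL hzK (by
      rcases hu0 with h | h
      · rw [h, hbu]; exact mul_mem hwT huT
      · rw [h, hbwu]; exact hwT)
    rcases hu0 with h | h
    · rw [h, hbu] at h5
      exact O.w1 (mul_eq_right.1 h5)
    · rw [h, hbwu] at h5
      exact hu1 (left_eq_mul.1 h5)

end Base

end Cfsg.Agent.OddHalf.D6.TypeA
end

-- part: OddHalf/D6/FieldInv
section
/-!
# ODD D6, `K = L₂(q)`, `|Q| = 2`: the field involution (helper708)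
-/

set_option autoImplicit false

namespace Cfsg.Agent.OddHalf.D6

open Subgroup Cfsg.Agent.GH Cfsg.Agent.GH.L2Aut

variable {G : Type*} [Group G]

theorem four_card {a b : G} (h : Four a b) : Nat.card h.sub = 4 := by
  have h1 : ((h.sub : Subgroup G) : Set G) = {1, a, b, a * b} := by
    ext x
    show (x = 1 ∨ x = a ∨ x = b ∨ x = a * b) ↔ _
    simp only [Set.mem_insert_iff, Set.mem_singleton_iff]
  have h2 : Nat.card h.sub = ((h.sub : Subgroup G) : Set G).ncard := rfl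
  have hab1 : a * b ≠ 1 := h.right.b1
  have haba : a ≠ a * b := h.right.ne
  have habb : b ≠ a * b := fun h3 => h.a1 (by simpa using h3.symm)
  rw [h2, h1, Set.ncard_insert_of_notMem, Set.ncard_insert_of_notMem, Set.ncard_insert_of_notMem,
    Set.ncard_singleton]
  · simpa using habb
  · simp only [Set.mem_insert_iff, Set.mem_singleton_iff, not_or]
    exact ⟨h.ne, haba⟩
  · simp only [Set.mem_insert_iff, Set.mem_singleton_iff, not_or]
    exact ⟨h.a1.symm, h.b1.symm, hab1.symm⟩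

theorem four_sq {a b : G} (h : Four a b) {v : G} (hv : v ∈ h.sub) : v * v = 1 := by
  rcases hv with rfl | rfl | rfl | rfl
  · exact one_mul 1
  · exact h.aa
  · exact h.bb
  · exact h.right.bb

theorem four_comm {a b c : G} (h : Four a b) (ca : c * a = a * c) (cb : c * b = b * c)
    {v : G} (hv : v ∈ h.sub) : c * v = v * c := by
  rcases hv with rfl | rfl | rfl | rfl
  · simp
  · exact ca
  · exact cb
  · rw [← mul_assoc, ca, mul_assoc, cb, mul_assoc]

theorem four_comm' {a b c : G} (h : Four a b) (ca : c * a = a * c) (cb : c * b = b * c)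
    {v : G} (hv : v * c ∈ h.sub) : c * v = v * c := by
  have h1 := four_comm h ca cb hv
  rw [← mul_assoc] at h1
  exact mul_right_cancel h1

/-- the elementary abelian group `⟨a, b⟩ × ⟨c⟩` -/
def eight {a b c : G} (h : Four a b) (cc : c * c = 1) (ca : c * a = a * c) (cb : c * b = b * c) :
    Subgroup G where
  carrier := {g | g ∈ h.sub ∨ g * c ∈ h.sub}
  one_mem' := Or.inl (one_mem _)
  mul_mem' := by
    rintro g k (hg | hg) (hk | hk)
    · exact Or.inl (h.sub.mul_mem hg hk)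
    · right
      rw [mul_assoc]; exact h.sub.mul_mem hg hk
    · right
      rw [mul_assoc, ← four_comm h ca cb hk, ← mul_assoc]; exact h.sub.mul_mem hg hk
    · left
      have h1 := h.sub.mul_mem hg hk
      rw [mul_assoc, ← mul_assoc c, four_comm' h ca cb hk, mul_assoc k, cc, mul_one] at h1
      exact h1
  inv_mem' := by
    intro g hg
    have h1 : g * g = 1 := by
      rcases hg with hg | hg
      · exact four_sq h hg
      · have h2 := four_sq h hg
        rw [mul_assoc, ← mul_assoc c, four_comm' h ca cb hg, mul_assoc g, cc, mul_one] at h2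
        exact h2
    rw [inv_eq_of_mul_eq_one_left h1]
    exact hg

theorem eight_comm {a b c : G} {h : Four a b} {cc : c * c = 1} {ca : c * a = a * c}
    {cb : c * b = b * c} {d : G} (ha : d * a = a * d) (hb : d * b = b * d) (hc : d * c = c * d)
    {g : G} (hg : g ∈ eight h cc ca cb) : d * g = g * d := by
  rcases hg with hg | hg
  · exact four_comm h ha hb hg
  · have h1 := four_comm h ha hb hg
    rw [← mul_assoc, mul_assoc g, ← hc, ← mul_assoc] at h1
    exact mul_right_cancel h1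

theorem eight_mem {a b c : G} {h : Four a b} {cc : c * c = 1} {ca : c * a = a * c}
    {cb : c * b = b * c} : a ∈ eight h cc ca cb ∧ b ∈ eight h cc ca cb ∧ c ∈ eight h cc ca cb :=
  ⟨Or.inl (Or.inr (Or.inl rfl)), Or.inl (Or.inr (Or.inr (Or.inl rfl))),
    Or.inr (by rw [cc]; exact one_mem _)⟩

theorem eight_cases {a b c : G} {h : Four a b} {cc : c * c = 1} {ca : c * a = a * c}
    {cb : c * b = b * c} {g : G} (hg : g ∈ eight h cc ca cb) :
    ∃ v ∈ h.sub, g = v ∨ g = v * c := by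
  rcases hg with hg | hg
  · exact ⟨g, hg, Or.inl rfl⟩
  · exact ⟨_, hg, Or.inr (by rw [mul_assoc, cc, mul_one])⟩

theorem eight_card {a b c : G} {h : Four a b} {cc : c * c = 1} {ca : c * a = a * c}
    {cb : c * b = b * c} (hc : c ∉ h.sub) : Nat.card (eight h cc ca cb) = 8 := by
  have h1 : Nat.card (h.sub × Bool) = 8 := by
    rw [Nat.card_prod, four_card h]
    simp
  rw [← h1]
  symm
  refine Nat.card_congr (Equiv.ofBijective
    (fun p : h.sub × Bool => (⟨if p.2 then (p.1 : G) * c else p.1, ?_⟩ : eight h cc ca cb)) ⟨?_, ?_⟩)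
  · show _ ∈ h.sub ∨ _ ∈ h.sub
    by_cases hp : p.2 = true
    · right
      rw [if_pos hp, mul_assoc, cc, mul_one]; exact p.1.2
    · left
      rw [if_neg hp]; exact p.1.2
  · rintro ⟨⟨v, hv⟩, i⟩ ⟨⟨w, hw⟩, j⟩ hij
    have h2 : (if i = true then v * c else v) = (if j = true then w * c else w) :=
      congrArg Subtype.val hij
    cases i <;> cases j
    · simp only [Bool.false_eq_true, if_false] at h2
      subst h2; rfl
    · exfalso
      simp only [Bool.false_eq_true, if_false, if_true] at h2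
      apply hc
      have h3 : c = w⁻¹ * v := by rw [h2, inv_mul_cancel_left]
      rw [h3]; exact h.sub.mul_mem (h.sub.inv_mem hw) hv
    · exfalso
      simp only [Bool.false_eq_true, if_false, if_true] at h2
      apply hc
      have h3 : c = v⁻¹ * w := by rw [← h2, inv_mul_cancel_left]
      rw [h3]; exact h.sub.mul_mem (h.sub.inv_mem hv) hw
    · simp only [if_true] at h2
      have h3 := mul_right_cancel h2
      subst h3; rfl
  · rintro ⟨g, hg⟩
    obtain ⟨v, hv, rfl | rfl⟩ := eight_cases hg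
    · exact ⟨(⟨g, hv⟩, false), Subtype.ext (by simp)⟩
    · exact ⟨(⟨v, hv⟩, true), Subtype.ext (by simp)⟩

theorem four_coe {K : Subgroup G} {a b : K} (h : Four a b) : Four (a : G) (b : G) where
  aa := congrArg Subtype.val h.aa
  bb := congrArg Subtype.val h.bb
  a1 := fun h1 => h.a1 (Subtype.ext h1)
  b1 := fun h1 => h.b1 (Subtype.ext h1)
  ne := fun h1 => h.ne (Subtype.ext h1)
  comm := congrArg Subtype.val h.comm

theorem pow_of_mem {T : Subgroup G} (hT : IsPGroup 2 T) {t : G} (ht : t ∈ T) :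
    ∃ n, t ^ 2 ^ n = 1 := by
  obtain ⟨n, hn⟩ := hT ⟨t, ht⟩
  exact ⟨n, congrArg Subtype.val hn⟩

theorem exists_pow_two {A : Type*} [Group A] {σ : A} (h : ∃ n, σ ^ 2 ^ n = 1) (h1 : σ ≠ 1) :
    ∃ m, σ ^ 2 ^ m ≠ 1 ∧ σ ^ 2 ^ m * σ ^ 2 ^ m = 1 := by
  obtain ⟨n, hn⟩ := h
  induction n with
  | zero => rw [pow_zero, pow_one] at hn; exact absurd hn h1
  | succ n ih =>
    by_cases h2 : σ ^ 2 ^ n = 1
    · exact ih h2
    · refine ⟨n, h2, ?_⟩
      rw [← pow_add, ← two_mul, ← pow_succ', hn]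

theorem Acts.pow_one {K : Subgroup G} {t : G} {α : MulAut K} (h : Acts K t α)
    (ht : ∃ n, t ^ 2 ^ n = 1) : ∃ n, α ^ 2 ^ n = 1 := by
  obtain ⟨n, hn⟩ := ht
  refine ⟨n, ?_⟩
  have h1 := h.pow (2 ^ n)
  rw [hn] at h1
  exact h1.unique Acts.one

namespace Setup

variable {x : G} {K T : Subgroup G}

/-- `T ∩ K` is a Sylow 2-subgroup of `K` -/
theorem sylK [Finite G] (S : Setup x K T) :
    ∃ P : Sylow 2 K, (P : Subgroup K) = T.subgroupOf K := by
  have h2 : IsPGroup 2 (T.subgroupOf K) := by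
    have h3 : IsPGroup 2 ((T.subgroupOf K).map K.subtype) := by
      refine S.pT.to_le ?_
      rintro _ ⟨y, hy, rfl⟩
      exact hy
    exact IsPGroup.of_injective h3 ((T.subgroupOf K).equivMapOfInjective K.subtype
      K.subtype_injective).toMonoidHom (MulEquiv.injective _)
  obtain ⟨P, hP⟩ := h2.exists_le_sylow
  refine ⟨P, (Subgroup.eq_of_le_of_card_ge hP ?_).symm⟩
  have h3 : IsPGroup 2 ((P : Subgroup K).map K.subtype) := P.isPGroup'.map _
  obtain ⟨g, hg, h⟩ := S.syl _ h3 (by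
    rintro _ ⟨y, -, rfl⟩
    exact S.Kx y y.2)
  refine Nat.card_le_card_of_injective
    (fun y : (P : Subgroup K) => (⟨⟨g * ((y : K) : G) * g⁻¹, S.Kn g hg _ (y : K).2⟩,
      mem_subgroupOf.2 (h _ ⟨y, y.2, rfl⟩)⟩ : T.subgroupOf K)) ?_
  intro a b hab
  have h4 : g * ((a : K) : G) * g⁻¹ = g * ((b : K) : G) * g⁻¹ :=
    congrArg (fun z : T.subgroupOf K => ((z : K) : G)) hab
  exact Subtype.ext (Subtype.ext (mul_left_cancel (mul_right_cancel h4)))

theorem mem_of_comm [Finite G] (S : Setup x K T) {U : Subgroup G} (hU : IsPGroup 2 U) (hTU : T ≤ U)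
    {s : G} (hs : s ∈ U) (hsx : s * x = x * s) : s ∈ T := by
  have h1 := S.max (P := U ⊓ centralizer ({x} : Set G)) (hU.to_le inf_le_left)
    (le_inf hTU (fun t ht => mem_centralizer_singleton_iff.2 (S.cx t ht)))
    (fun y hy => mem_centralizer_singleton_iff.1 hy.2)
  exact h1 ⟨hs, mem_centralizer_singleton_iff.2 hsx⟩

theorem xK (S : Setup x K T) {F : Type*} [Field F] [Finite F] (R : L2Aut.Rep F K) : x ∉ K := by
  intro h
  have h1 : (⟨x, h⟩ : K) ∈ Subgroup.center K := by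
    rw [Subgroup.mem_center_iff]
    intro k
    exact Subtype.ext (S.Kx k k.2)
  rw [R.center_eq_bot, mem_bot] at h1
  exact S.x1 (congrArg Subtype.val h1)

/-- the four-group part -/
theorem self_cent [Finite G] (S : Setup x K T) {F : Type*} [Field F] [Finite F] (R : L2Aut.Rep F K)
    (h : ∀ t ∈ T, ∀ α, Acts K t α → α * α = 1 → R.fld α = 1) {a b : K} (hab : Four a b)
    (ha : (a : G) ∈ T) (hb : (b : G) ∈ T) {s : G} (hs : s ∈ T) (hsa : s * a = a * s)
    (hsb : s * b = b * s) : ∃ u : G, (u = 1 ∨ u = a ∨ u = b ∨ u = a * b) ∧ (s = u ∨ s = u * x) := by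
  obtain ⟨Φ, -, -, hΦf, -, -, -, -, -, -, -, -, -, -, -, -, hfr, -⟩ := R.exists_frame hab
  obtain ⟨α, hα⟩ := S.acts (S.cx s hs)
  obtain ⟨u, hu, hu'⟩ := hfr α (hα.fix hsa) (hα.fix hsb)
  have huT : (u : G) ∈ T := by
    rcases hu with rfl | rfl | rfl | rfl
    · exact one_mem T
    · exact ha
    · exact hb
    · exact T.mul_mem ha hb
  have hσ : R.fld α = 1 := by
    by_contra hσ
    have h3 : ∃ n, (R.fld α) ^ 2 ^ n = 1 := by
      obtain ⟨n, hn⟩ := hα.pow_one (pow_of_mem S.pT hs)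
      exact ⟨n, by rw [← map_pow, hn, map_one]⟩
    obtain ⟨m, hm1, hm2⟩ := exists_pow_two h3 hσ
    have h4 : Acts K ((u⁻¹ : G) * s) (Φ (R.fld α)) := by
      have h5 : Acts K ((u : G)⁻¹ * s) ((MulAut.conj u)⁻¹ * α) := ((Acts.conj u.2).inv).mul hα
      rw [hu'] at h5
      rw [inv_mul_cancel_left] at h5
      exact h5
    have h5 := h4.pow (2 ^ m)
    rw [← map_pow] at h5
    have h6 := h _ (T.pow_mem (T.mul_mem (T.inv_mem huT) hs) (2 ^ m)) _ h5
      (by rw [← map_mul, hm2, map_one])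
    rw [hΦf] at h6
    exact hm1 h6
  refine ⟨u, ?_, ?_⟩
  · rcases hu with rfl | rfl | rfl | rfl
    · left; rfl
    · right; left; rfl
    · right; right; left; rfl
    · right; right; right; rfl
  · rw [hσ, map_one, mul_one] at hu'
    rw [hu'] at hα
    exact S.eq_or (S.cx s hs) (S.Kx u u.2) hα (Acts.conj u.2)

/-- **(B1)** no element of field type: sectional rank at most 4 -/
theorem harada [Finite G] (S : Setup x K T) {F : Type*} [Field F] [Finite F] (R : L2Aut.Rep F K)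
    (h : ∀ t ∈ T, ∀ α, Acts K t α → α * α = 1 → R.fld α = 1) : SectionalPRankLE 2 4 G := by
  obtain ⟨P, hP⟩ := S.sylK
  obtain ⟨a, b, ha, hb, hab⟩ := R.exists_four_mem P
  have haT : (a : G) ∈ T := by
    have : a ∈ T.subgroupOf K := by rw [← hP]; exact ha
    exact this
  have hbT : (b : G) ∈ T := by
    have : b ∈ T.subgroupOf K := by rw [← hP]; exact hb
    exact this
  have hab' := four_coe hab
  obtain ⟨S2, hTS⟩ := S.pT.exists_le_sylow
  have hxa : x * (a : G) = a * x := (S.Kx a a.2).symm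
  have hxb : x * (b : G) = b * x := (S.Kx b b.2).symm
  have hxV : x ∉ hab'.sub := by
    intro hx
    apply S.xK R
    rcases hx with hx | hx | hx | hx <;> rw [hx]
    · exact one_mem K
    · exact a.2
    · exact b.2
    · exact K.mul_mem a.2 b.2
  have hVT : hab'.sub ≤ T := by
    rintro v (rfl | rfl | rfl | rfl)
    · exact one_mem T
    · exact haT
    · exact hbT
    · exact T.mul_mem haT hbT
  refine Harada.rank_of_self S2 (eight hab' S.xx hxa hxb) ?_ ?_ ?_ (eight_card hxV) ?_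
  · intro g hg
    obtain ⟨v, hv, rfl | rfl⟩ := eight_cases hg
    · exact hTS (hVT hv)
    · exact hTS (T.mul_mem (hVT hv) S.xT)
  · intro c hc d hd
    have hcs : ∀ y, y = (a : G) ∨ y = (b : G) ∨ y = x → c * y = y * c := by
      rintro y (rfl | rfl | rfl)
      · exact (eight_comm (d := (a : G)) rfl hab'.comm (S.Kx a a.2) hc).symm
      · exact (eight_comm (d := (b : G)) hab'.comm.symm rfl (S.Kx b b.2) hc).symm
      · exact (eight_comm hxa hxb rfl hc).symm
    exact eight_comm (hcs _ (Or.inl rfl)) (hcs _ (Or.inr (Or.inl rfl)))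
      (hcs _ (Or.inr (Or.inr rfl))) hd
  · intro g hg
    obtain ⟨v, hv, rfl | rfl⟩ := eight_cases hg
    · exact four_sq hab' hv
    · rw [mul_assoc, ← mul_assoc x, four_comm hab' hxa hxb hv, mul_assoc v, S.xx, mul_one]
      exact four_sq hab' hv
  · intro s hs hsE
    have hsx := hsE x eight_mem.2.2
    have hsT : s ∈ T := S.mem_of_comm S2.isPGroup' hTS hs hsx
    obtain ⟨u, hu, hu'⟩ := S.self_cent R h hab haT hbT hsT (hsE _ eight_mem.1)
      (hsE _ eight_mem.2.1)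
    have huV : u ∈ hab'.sub := hu
    rcases hu' with rfl | rfl
    · exact Or.inl huV
    · right
      rw [mul_assoc, S.xx, mul_one]; exact huV

end Setup

theorem rank_cyclic {A : Type*} [Group A] [IsCyclic A] : SectionalPRankLE 2 1 A := by
  intro H N _ E _ hE
  have h0 : IsCyclic (H ⧸ N) :=
    isCyclic_of_surjective (QuotientGroup.mk' N) (QuotientGroup.mk'_surjective N)
  obtain ⟨g, hg⟩ := IsCyclic.exists_generator (α := E)
  have h1 : Nat.card E = orderOf g := (orderOf_eq_card_of_forall_mem_zpowers hg).symm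
  rw [h1]
  apply orderOf_le_of_pow_eq_one (by norm_num)
  rw [pow_one]
  exact Subtype.ext (hE g g.2)

theorem rank_of_zpowers {A : Type*} [Group A] {P : Subgroup A} {c : A}
    (hc : ∀ y ∈ P, y ∈ zpowers c) : SectionalPRankLE 2 1 P := by
  have h1 : IsCyclic P := by
    have h2 : P ≤ zpowers c := fun y hy => hc y hy
    exact isCyclic_of_injective (Subgroup.inclusion h2) (Subgroup.inclusion_injective h2)
  exact rank_cyclic

theorem rank_dih {A : Type*} [Group A] [Finite A] {P : Subgroup A} {c r : A} (h : Dih P c r) :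
    SectionalPRankLE 2 2 P := by
  have hle : zpowers c ≤ P := zpowers_le.2 h.d_mem
  have h3 : IsCyclic (zpowers c) := inferInstance
  have h2 : IsCyclic ((zpowers c).subgroupOf P) :=
    isCyclic_of_injective ((subgroupOfEquivOfLe hle).toMonoidHom) (MulEquiv.injective _)
  refine Rank.of_index_le (K := (zpowers c).subgroupOf P) (a := 1) (b := 1) rank_cyclic ?_
  have h5 := Subgroup.card_mul_index ((zpowers c).subgroupOf P)
  rw [Nat.card_congr (subgroupOfEquivOfLe hle).toEquiv, Nat.card_zpowers, h.card] at h5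
  have h6 := orderOf_pos c
  have h7 : orderOf c * ((zpowers c).subgroupOf P).index = orderOf c * 2 := by rw [h5]; ring
  rw [Nat.eq_of_mul_eq_mul_left h6 h7]
  norm_num

/-- 2-subgroups of `Aut(L)` have sectional rank at most 3 -/
theorem rank_aut {F L : Type*} [Field F] [Finite F] [Group L] (R : L2Aut.Rep F L)
    (P : Subgroup (MulAut L)) (hP : IsPGroup 2 P) : SectionalPRankLE 2 3 P := by
  have hfin : Finite L := R.finite
  have hfin' : Finite (MulAut L) := R.finite_aut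
  have hcyc : IsCyclic (F ≃+* F) := LieRecognition.FieldSemilinear.isCyclic_ringAut F
  let f : P →* (F ≃+* F) := R.fld.comp P.subtype
  have h1 : SectionalPRankLE 2 2 f.ker := by
    have h2 : SectionalPRankLE 2 2 ((f.ker).map P.subtype) := by
      rcases R.pgl_two_group ((f.ker).map P.subtype)
        (hP.to_le (by rintro _ ⟨y, -, rfl⟩; exact y.2)) (by
          rintro _ ⟨y, hy, rfl⟩
          exact R.mem_PGL_iff_fld.2 hy) with ⟨c, -, hc⟩ | ⟨c, r, hd⟩
      · exact Rank.le_mono (by norm_num) (rank_of_zpowers hc) (by norm_num)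
      · exact rank_dih hd
    exact Rank.of_equiv h2 ((f.ker).equivMapOfInjective P.subtype P.subtype_injective).symm
  have h3 : SectionalPRankLE 2 1 f.range := by
    have : IsCyclic f.range := inferInstance
    exact rank_cyclic
  exact Rank.of_extension f h1 h3

namespace Setup

variable {x : G} {K T : Subgroup G}

/-- **(B2)** `T` has sectional rank at most 4 -/
theorem rank_T [Finite G] (S : Setup x K T) {F : Type*} [Field F] [Finite F]
    (R : L2Aut.Rep F K) : SectionalPRankLE 2 4 T := by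
  have hle : T ≤ normalizer (K : Set G) := fun t ht =>
    mem_normalizer_fintype fun k hk => S.Kn t (S.cx t ht) k hk
  let f : T →* MulAut K := K.normalizerMonoidHom.comp (Subgroup.inclusion hle)
  have hf : ∀ t : T, Acts K t (f t) := fun t k => rfl
  have h1 : SectionalPRankLE 2 1 f.ker := by
    refine rank_of_zpowers (c := (⟨x, S.xT⟩ : T)) ?_
    intro t ht
    have h2 := hf t
    rw [MonoidHom.mem_ker] at ht
    rw [ht] at h2
    rcases S.ker (S.cx t t.2) h2 with h3 | h3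
    · have : t = 1 := Subtype.ext h3
      rw [this]; exact one_mem _
    · have : t = ⟨x, S.xT⟩ := Subtype.ext h3
      rw [this]; exact mem_zpowers _
  have h2 : SectionalPRankLE 2 3 f.range := by
    exact rank_aut R _ (IsPGroup.of_surjective S.pT f.rangeRestrict f.rangeRestrict_surjective)
  exact Rank.of_extension f h1 h2

theorem exists_grow [Finite G] (S : Setup x K T) {F : Type*} [Field F] [Finite F]
    (R : L2Aut.Rep F K) (h : ¬ SectionalPRankLE 2 4 G) :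
    ∃ s, (∀ t ∈ T, s * t * s⁻¹ ∈ T) ∧ s * s ∈ T ∧ s ∉ T ∧ s * x ≠ x * s ∧ ∃ n, s ^ 2 ^ n = 1 := by
  obtain ⟨S2, hTS⟩ := S.pT.exists_le_sylow
  have hlt : T < (S2 : Subgroup G) := by
    refine lt_of_le_of_ne hTS ?_
    rintro rfl
    exact h ((Rank.sylow_iff S2).1 (S.rank_T R))
  have : Group.IsNilpotent (S2 : Subgroup G) := S2.isPGroup'.isNilpotent
  obtain ⟨y, hyS, hyT, hyN⟩ :=
    Cfsg.Agent.Transfer.FrobeniusFusion.exists_mem_normalizer_notMem hlt
  obtain ⟨n, hn⟩ := pow_of_mem S2.isPGroup' hyS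
  obtain ⟨m, hm1, hm2⟩ : ∃ m, y ^ 2 ^ m ∉ T ∧ y ^ 2 ^ (m + 1) ∈ T := by
    have h1 : y ^ 2 ^ n ∈ T := by rw [hn]; exact one_mem T
    clear hn
    induction n with
    | zero => rw [pow_zero, pow_one] at h1; exact absurd h1 hyT
    | succ n ih =>
      by_cases h2 : y ^ 2 ^ n ∈ T
      · exact ih h2
      · exact ⟨n, h2, h1⟩
  have hN : y ^ 2 ^ m ∈ normalizer (T : Set G) := (normalizer (T : Set G)).pow_mem hyN _
  have hc : ∀ t ∈ T, y ^ 2 ^ m * t * (y ^ 2 ^ m)⁻¹ ∈ T := fun t ht =>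
    (mem_normalizer_iff.1 hN t).1 ht
  obtain ⟨k, hk⟩ := pow_of_mem S2.isPGroup' ((S2 : Subgroup G).pow_mem hyS (2 ^ m))
  refine ⟨y ^ 2 ^ m, hc, ?_, hm1, ?_, k, hk⟩
  · rw [← pow_add, ← two_mul, ← pow_succ']; exact hm2
  · intro h3
    exact hm1 (S.mem_of_norm ⟨k, hk⟩ h3 hc)

end Setup

end Cfsg.Agent.OddHalf.D6
end

private theorem dce_8e9b4922abfe : _root_.True := by
  try have : _root_.True := by simp only [_root_.Cfsg.Agent.OddHalf.D6.TypeA.act.congr_simp]
  exact _root_.True.intro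
end

-- part: OddHalf/D6/FieldInvB
section
set_option linter.all false
open scoped Cfsg.Agent.FastGrp

/-!
# ODD D6, `K = L₂(q)`, `|Q| = 2`: the field involution centralizing `D` (helper708)
-/

set_option autoImplicit false

namespace Cfsg.Agent.OddHalf.D6

open Subgroup Cfsg.Agent.GH Cfsg.Agent.GH.L2Aut

variable {G : Type*} [Group G]

/-- two 2-groups, one normalizing the other -/
theorem isPGroup_sup {A B : Subgroup G} (hA : IsPGroup 2 A) (hB : IsPGroup 2 B)
    (h : B ≤ normalizer (A : Set G)) : IsPGroup 2 (A ⊔ B : Subgroup G) := by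
  rw [sup_comm]
  exact IsPGroup.to_sup_of_normal_right' hB hA h

theorem isPGroup_zp {y : G} (h : ∃ n, y ^ 2 ^ n = 1) : IsPGroup 2 (zpowers y) :=
  TypeA.isPGroup_zpowers h

namespace Setup

variable {x : G} {K T : Subgroup G}

/-- a field involution of `C(x)/⟨x⟩` in `T` centralizing `T ∩ K` -/
theorem exists_field [Finite G] (S : Setup x K T) {F : Type*} [Field F] [Finite F]
    (R : L2Aut.Rep F K) (h : ∃ t ∈ T, ∃ α, Acts K t α ∧ α * α = 1 ∧ R.fld α ≠ 1) :
    ∃ f ∈ T, ∃ α, Acts K f α ∧ α * α = 1 ∧ R.fld α ≠ 1 ∧ ∀ d ∈ T, d ∈ K → f * d = d * f := by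
  obtain ⟨t, ht, α, hα, hαα, hfα⟩ := h
  obtain ⟨P, hP⟩ := S.sylK
  obtain ⟨Q, hQ⟩ := R.ftype_syl (fun h1 => hfα (R.mem_PGL_iff_fld.1 h1)) hαα
  -- the 2-group generated by `Q` and `t`
  have hQt : ∀ q ∈ (Q : Subgroup K), t * (q : G) = q * t := fun q hq =>
    hα.comm_of_fix (hQ q hq)
  have hQ2 : IsPGroup 2 ((Q : Subgroup K).map K.subtype) := Q.isPGroup'.map _
  have hU : IsPGroup 2 ((Q : Subgroup K).map K.subtype ⊔ zpowers t : Subgroup G) := by
    refine isPGroup_sup hQ2 (isPGroup_zp (pow_of_mem S.pT ht)) ?_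
    rw [zpowers_le]
    refine mem_normalizer_fintype ?_
    rintro _ ⟨q, hq, rfl⟩
    refine ⟨q, hq, ?_⟩
    show (q : G) = t * q * t⁻¹
    rw [hQt q hq]; group
  obtain ⟨g, hg, hgU⟩ := S.syl _ hU (by
    have h5 : (Q : Subgroup K).map K.subtype ⊔ zpowers t ≤ centralizer ({x} : Set G) := by
      refine sup_le ?_ ?_
      · rintro _ ⟨q, -, rfl⟩
        exact mem_centralizer_singleton_iff.2 (S.Kx q q.2)
      · rw [zpowers_le]
        exact mem_centralizer_singleton_iff.2 (S.cx t ht)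
    intro y hy
    exact mem_centralizer_singleton_iff.1 (h5 hy))
  obtain ⟨γ, hγ⟩ := S.acts hg
  refine ⟨g * t * g⁻¹, hgU t (mem_sup_right (mem_zpowers t)), γ * α * γ⁻¹,
    (hγ.mul hα).mul hγ.inv, ?_, ?_, ?_⟩
  · rw [show γ * α * γ⁻¹ * (γ * α * γ⁻¹) = γ * (α * α) * γ⁻¹ by group, hαα]; group
  · intro h1
    apply hfα
    rw [map_mul, map_mul, map_inv, mul_inv_eq_one] at h1
    exact mul_eq_left.1 h1
  · -- `T ∩ K` is the conjugate of `Q`
    have hsub : ((Q : Subgroup K).map γ.toMonoidHom) = (P : Subgroup K) := by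
      have h1 : (Q : Subgroup K).map γ.toMonoidHom ≤ (P : Subgroup K) := by
        rintro _ ⟨q, hq, rfl⟩
        rw [hP, mem_subgroupOf]
        have h2 := hγ q
        show ((γ q : K) : G) ∈ T
        rw [h2]
        exact hgU _ (mem_sup_left ⟨q, hq, rfl⟩)
      apply Subgroup.eq_of_le_of_card_ge h1
      have h3 : Nat.card ((Q : Subgroup K).map γ.toMonoidHom) = Nat.card (Q : Subgroup K) :=
        Nat.card_congr ((Q : Subgroup K).equivMapOfInjective γ.toMonoidHom γ.injective).symm.toEquiv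
      rw [h3, Q.card_eq_multiplicity, P.card_eq_multiplicity]
    intro d hd hdK
    have h4 : (⟨d, hdK⟩ : K) ∈ (Q : Subgroup K).map γ.toMonoidHom := by
      rw [hsub, hP]; exact hd
    obtain ⟨q, hq, hqd⟩ := h4
    have h5 : g * (q : G) * g⁻¹ = d := by
      have h6 := hγ q
      rw [← h6]
      exact congrArg Subtype.val hqd
    rw [← h5]
    calc g * t * g⁻¹ * (g * q * g⁻¹) = g * (t * q) * g⁻¹ := by group
      _ = g * (q * t) * g⁻¹ := by rw [hQt q hq]
      _ = g * q * g⁻¹ * (g * t * g⁻¹) := by group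

end Setup

end Cfsg.Agent.OddHalf.D6
end

-- part: UGT/L2Inner/WBTriple
section
set_option linter.all false
open scoped Cfsg.Agent.FastGrp

/-!
# UGT, inner L2: triples

* `mem_PGL`: the involution of a triple `(x, a, L)`, `L / O(L) ≅ PSL(2,F)`, acts on `L / O(L)` by `PGL(2,F)`.
-/

set_option autoImplicit false

open Cfsg Subgroup
open Cfsg.Agent.SignalizersComponents Cfsg.Agent.Lib
open Cfsg.Agent.SignalizersComponents.IntrinsicBasic
open Cfsg.Agent.SignalizersComponents.PLayerAut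
open Cfsg.Agent.Intrinsic.Basic Cfsg.Agent.Intrinsic.Cen Cfsg.Agent.Intrinsic.Diag
open Cfsg.Agent.McLLyComp.Act
open Cfsg.Agent.UGT.Triple Cfsg.Agent.UGT.TriBase
open scoped commutatorElement

namespace Cfsg.Agent.UGT.L2Inner.WBTriple

variable {G : Type*} [Group G]

/-- fixed points of an involution on `L / O(L)` lift -/
theorem exists_lift [Finite G] {L : Subgroup G} {x : G} (hxL : x ∈ normalizer (L : Set G)) (hx : x * x = 1)
    {y : ↥L ⧸ oddCore ↥L} (hy : act L ⟨x, hxL⟩ y = y) :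
    ∃ (l : G) (hl : l ∈ L), l * x = x * l ∧ QuotientGroup.mk ⟨l, hl⟩ = y := by
  obtain ⟨⟨l, hl⟩, rfl⟩ := QuotientGroup.mk_surjective y
  rw [act_mk hxL hl, mk_eq_iff (conj_mem hxL hl) hl] at hy
  have hxi : x⁻¹ = x := inv_eq_of_mul_eq_one_left hx
  obtain ⟨w, hw, hc⟩ := SL.exists_fix_lift (W := core L) (odd_card_core L) (a := x) (x := l) hx (by
    have h1 : (x * l * x⁻¹)⁻¹ * l = x * (l⁻¹ * x * l) := by
      rw [mul_inv_rev, mul_inv_rev, inv_inv, hxi]
      group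
    rwa [h1] at hy)
  refine ⟨l * w, L.mul_mem hl (core_le L hw), hc, ?_⟩
  rw [mk_eq_iff (L.mul_mem hl (core_le L hw)) hl]
  have h1 : (l * w)⁻¹ * l = w⁻¹ := by group
  rw [h1]
  exact inv_mem hw

variable [Finite G]

/-- **the involution of a triple acts by `PGL(2,F)`** -/
theorem mem_PGL {x a : G} {L : Subgroup G} (T : IsTriple x a L) {F : Type*} [Field F] [Finite F]
    (R : GH.L2Aut.Rep F (↥L ⧸ oddCore ↥L)) : act L ⟨x, T.x_mem⟩ ∈ R.PGL := by
  by_contra hcon
  obtain ⟨d, hd, hda, hf⟩ := T.bad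
  have hx2 := sq_of_order T.invx
  have hdL := T.mem_normalizer_of_core hd hda
  have hdC := inf_le_core hd hda
  obtain ⟨D, hD⟩ : ∃ D, D = core (centralizer ({a} : Set G) ⊓ centralizer ({x} : Set G)) := ⟨_, rfl⟩
  rw [← hD] at hdC
  have hDx : ∀ y ∈ D, y * x = x * y := by
    intro y hy
    rw [hD] at hy
    exact comm_c (core_le _ hy).2
  have hDn : ∀ l ∈ L, l * x = x * l → ∀ y ∈ D, l * y * l⁻¹ ∈ D := by
    intro l hl hlx y hy
    rw [hD] at hy ⊢
    exact conj_core ⟨T.comp.le hl, mem_c hlx⟩ hy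
  have hlift := fun {y} (hy : act L ⟨x, T.x_mem⟩ y = y) => exists_lift T.x_mem hx2 hy
  apply hf
  rw [← act_eq_one_iff hdL]
  refine WBAut.field_bal R (φ := act L ⟨x, T.x_mem⟩) (β := act L ⟨d, hdL⟩)
    (N := ((D ⊓ L).subgroupOf L).map (QuotientGroup.mk' (oddCore ↥L))) ?_ ?_ ?_ ?_ ?_ ?_ ?_
  · rw [← map_mul]
    have h1 : (⟨x, T.x_mem⟩ : ↥(normalizer (L : Set G))) * ⟨x, T.x_mem⟩ = 1 := Subtype.ext hx2
    rw [h1, map_one]
  · intro h
    exact hcon (R.mem_PGL_iff_fld.mpr h)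
  · refine Odd.of_dvd_nat (odd_card_core (centralizer ({a} : Set G) ⊓ centralizer ({x} : Set G))) ?_
    refine (card_map_dvd _ _).trans ?_
    rw [Nat.card_congr (subgroupOfEquivOfLe (inf_le_right : D ⊓ L ≤ L)).toEquiv, ← hD]
    exact card_dvd_of_le inf_le_left
  · rintro _ ⟨⟨l, hl⟩, hlD, rfl⟩
    rw [SetLike.mem_coe, mem_subgroupOf] at hlD
    change act L ⟨x, T.x_mem⟩ (QuotientGroup.mk ⟨l, hl⟩) = QuotientGroup.mk ⟨l, hl⟩
    rw [act_mk T.x_mem hl, mk_eq_iff (conj_mem T.x_mem hl) hl, ← hDx l hlD.1,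
      mul_inv_cancel_right, inv_mul_cancel]
    exact one_mem _
  · rintro y hy _ ⟨⟨n, hn⟩, hnD, rfl⟩
    rw [SetLike.mem_coe, mem_subgroupOf] at hnD
    obtain ⟨l, hl, hlx, rfl⟩ := hlift hy
    refine ⟨⟨l, hl⟩ * ⟨n, hn⟩ * ⟨l, hl⟩⁻¹, ?_, rfl⟩
    rw [SetLike.mem_coe, mem_subgroupOf]
    exact ⟨hDn l hl hlx n hnD.1, L.mul_mem (L.mul_mem hl hn) (L.inv_mem hl)⟩
  · have h1 : orderOf (act L ⟨d, hdL⟩) ∣ orderOf d := by
      have h2 : orderOf (⟨d, hdL⟩ : ↥(normalizer (L : Set G))) = orderOf d := Subgroup.orderOf_mk _ _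
      rw [← h2]
      exact orderOf_map_dvd _ _
    refine Odd.of_dvd_nat (odd_card_core (centralizer ({x} : Set G))) (h1.trans ?_)
    rw [← Subgroup.orderOf_mk d hd]
    exact orderOf_dvd_natCard _
  · intro y hy
    obtain ⟨l, hl, hlx, rfl⟩ := hlift hy
    rw [act_mk hdL hl]
    refine ⟨⟨d * l * d⁻¹, conj_mem hdL hl⟩ * ⟨l, hl⟩⁻¹, ?_, rfl⟩
    rw [SetLike.mem_coe, mem_subgroupOf]
    refine ⟨?_, L.mul_mem (conj_mem hdL hl) (L.inv_mem hl)⟩
    have h2 := hDn l hl hlx d⁻¹ (inv_mem hdC)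
    have h3 : d * (l * d⁻¹ * l⁻¹) = d * l * d⁻¹ * l⁻¹ := by group
    change d * l * d⁻¹ * l⁻¹ ∈ D
    rw [← h3]
    exact mul_mem hdC h2

end Cfsg.Agent.UGT.L2Inner.WBTriple
end

-- part: UGT/Q2/Facts
section
prune_inst 0x10200500140000000000000000000400000000020040000000400000000000400000000000000010000080002000002000000000400000000a000000000000000000020290480000000000000000000000000000000000000000000000000000000000000
set_option linter.all false
open scoped Cfsg.Agent.FastGrp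

/-!
# UGT, inner `L₂(q)`, `|Q| = 2`: facts on involutory automorphisms of `L = PSL(2,F)`

`R : Rep F L`; `Fd R φ M`: `φ` is an involutory automorphism of field type, `M = C_L(φ)^∞ ≅ PSL(2,E)`,
`|F| = |E|²`.

* `exists_fd` : existence of `M` (`9 < |F|`); `Fd.unique`.
* `Fd.cent` : `C_{Aut L}(M) = {1, φ}`.
* `Fd.normal`, `Fd.pgl` : fixed points of `φ` normalize `M`; those outside `M` induce outer automorphisms of `M`.
* `inner_or_field` : an involutory automorphism commuting with `φ` is inner or of field type.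
* `one_or_field` : an involutory automorphism fixing a perfect subgroup `≠ 1` is trivial or of field type.
* `Fd.syl` : `S ∈ Syl₂(L)` fixed by `φ`: `S` dihedral of order at least 8 and `S ∩ M` is one of the two noncyclic
  maximal subgroups.
* `Fd.ne_zmul` : `z ∈ Z(S)` an involution, `M'` the group belonging to `φ ∘ conj z`: `S ∩ M`, `S ∩ M'` are different.
* `Fd.orderOf_mul` : the product of noncentral involutions of `S ∩ M` and `S ∩ M'` has order `|S|/2`.
-/

set_option autoImplicit false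
set_option linter.unusedSectionVars false

open Cfsg.Agent.GH.L2Aut Cfsg.Agent.OddHalf.D6 Cfsg.Agent.Lib.SL2Mat
open scoped commutatorElement

namespace Cfsg.Agent.UGT.Q2.Facts

variable {F : Type*} [Field F] [Finite F] {L : Type*} [Group L] (R : Cfsg.Agent.GH.L2Aut.Rep F L)

/-- an automorphism fixing the fixed field of the involutory `σ` is `1` or `σ` -/
theorem fld_cases {σ τ : F ≃+* F} (hσ2 : σ * σ = 1) (hσ : σ ≠ 1) (h2 : (2 : F) ≠ 0)
    (h : ∀ a, σ a = a → τ a = a) : τ = 1 ∨ τ = σ := by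
  obtain ⟨u, hu, hu'⟩ := Cfsg.Agent.GH.L2Aut.Rep.exists_anti hσ2 hσ
  have hss : ∀ a, σ (σ a) = a := fun a => congrArg (fun ρ : F ≃+* F => ρ a) hσ2
  have h1 : τ (u * u) = u * u := h _ (by rw [map_mul, hu']; ring)
  have h3 : (τ u - u) * (τ u + u) = 0 := by
    rw [map_mul] at h1
    linear_combination h1
  have e2 : σ 2 = 2 := map_ofNat σ 2
  have hu2 : (2 : F) * u ≠ 0 := mul_ne_zero h2 hu
  have h5 : ∀ a : F, a = (a + σ a) / 2 + (a - σ a) / (2 * u) * u := by
    intro a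
    field_simp
    ring
  have h6 : ∀ a, τ a = (a + σ a) / 2 + (a - σ a) / (2 * u) * τ u := by
    intro a
    conv_lhs => rw [h5 a]
    rw [map_add, map_mul, h ((a + σ a) / 2), h ((a - σ a) / (2 * u))]
    · rw [map_div₀, map_mul, map_sub, hss, hu', e2]
      field_simp
      ring
    · rw [map_div₀, map_add, hss, e2, add_comm]
  rcases mul_eq_zero.1 h3 with h4 | h4
  · left
    have h7 : τ u = u := by linear_combination h4
    ext a
    rw [h6 a, h7, ← h5 a]
    rfl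
  · right
    have h7 : τ u = -u := by linear_combination h4
    ext a
    rw [h6 a, h7]
    field_simp
    ring

/-- `φ` is an involutory automorphism of field type of `L = PSL(2,F)`, `M = C_L(φ)^∞`. -/
structure Fd (φ : MulAut L) (M : Subgroup L) : Prop where
  sq : φ * φ = 1
  fld : R.fld φ ≠ 1
  le : ∀ m ∈ M, φ m = m
  perf : ⁅M, M⁆ = M
  max : ∀ P : Subgroup L, (∀ p ∈ P, φ p = p) → ⁅P, P⁆ = P → P ≤ M
  /-- index two in the group of fixed points -/
  idx : ∀ x y, φ x = x → φ y = y → x ∉ M → y ∉ M → x * y ∈ M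
  cent : ∀ β : MulAut L, (∀ m ∈ M, β m = m) → β = 1 ∨ β = φ
  odd : ¬ 2 ∣ (fixSub φ).index
  /-- `M ≅ PSL(2,E)`; fixed points outside `M` are of PGL type on `M` -/
  rep : ∃ (E : Subfield F) (R₀ : Cfsg.Agent.GH.L2Aut.Rep E M), Nat.card F = Nat.card E ^ 2 ∧
    ∀ x, φ x = x → x ∉ M → ∀ β : MulAut M, (∀ n, (β n : L) = x * n * x⁻¹) →
      β ∈ R₀.PGL ∧ R₀.o1 β = -1

/-- **existence** -/
theorem exists_fd (h9 : 9 < Nat.card F) {φ : MulAut L} (hφ : φ * φ = 1) (hf : R.fld φ ≠ 1) :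
    ∃ M, Fd R φ M := by
  obtain ⟨R', hP, hfl, hR', hord⟩ := R.ftype_rep (fun h => hf (R.mem_PGL_iff_fld.1 h)) hφ
  obtain ⟨σ, hσ⟩ : ∃ σ, σ = R.fld φ := ⟨_, rfl⟩
  rw [← hσ] at hR' hord
  have hf' : σ ≠ 1 := hσ ▸ hf
  have hσ2 : σ * σ = 1 := by rw [hσ, ← map_mul, hφ, map_one]
  have heven : Even (orderOf σ) := by rw [hord]; decide
  obtain ⟨K₀, hK₀, hcard⟩ := exists_fixed_field σ
  have h3 : 3 < Nat.card K₀ := by
    have hc2 := hcard
    rw [hord] at hc2
    rw [hc2] at h9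
    by_contra hcon
    push Not at hcon
    have := Nat.pow_le_pow_left hcon 2
    omega
  have hsim := SubFix.isSimple (R'.subRep K₀) h3
  have hfix : ∀ m ∈ R'.sub K₀, φ m = m := by
    intro m hm
    rw [hR']
    exact R'.sub_le_fix hK₀ hm
  obtain ⟨w, hw, hwn, hwx⟩ := R'.exists_outer heven hK₀ hcard
  refine ⟨R'.sub K₀, hφ, hf, hfix, ?_, ?_, ?_, ?_, ?_, K₀, R'.subRep K₀, by rw [hcard, hord], ?_⟩
  · -- perfect
    have hq := SubFix.isQuasisimple (R'.subRep K₀) h3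
    exact Subgroup.isPerfect_iff.1 hq.1
  · intro P hP hp
    refine A7.PumpL2.le_sub_of_perfect R' heven hK₀ hcard ?_ hp
    intro p hpP
    rw [mem_fixSub, ← hR']
    exact hP p hpP
  · intro x y hx hy hxn hyn
    have hx' : x ∈ fixSub (R'.fa σ) := by rw [mem_fixSub, ← hR']; exact hx
    have hy' : y ∈ fixSub (R'.fa σ) := by rw [mem_fixSub, ← hR']; exact hy
    have hxi : x⁻¹ ∉ R'.sub K₀ := fun h => hxn (inv_mem_iff.1 h)
    have h1 := hwx _ (inv_mem hx') hxi
    have h2 := hwx y hy' hyn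
    have h4 : x * y = (w * x⁻¹)⁻¹ * (w * y) := by group
    rw [h4]
    exact mul_mem (inv_mem h1) h2
  · intro β hβ
    have hup : ∀ a : F, σ a = a → β (R'.π (up a)) = R'.π (up a) := by
      intro a ha
      apply hβ
      rw [R'.mem_sub]
      refine ⟨up ⟨a, (hK₀ a).2 ha⟩, ?_⟩
      congr 1
      apply Subtype.ext
      apply mat_ext <;> rfl
    have hlo : β (R'.π (lo 1)) = R'.π (lo 1) := by
      apply hβ
      rw [R'.mem_sub]
      refine ⟨lo ⟨1, (hK₀ 1).2 (map_one σ)⟩, ?_⟩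
      congr 1
      apply Subtype.ext
      apply mat_ext <;> rfl
    have h1 := SubFix.eq_fa R' (hup 1 (map_one σ)) hlo
    have h2 : ∀ a, σ a = a → R'.fld β a = a := by
      intro a ha
      have h4 := hup a ha
      rw [h1, SubFix.fa_up, R'.π_eq_iff] at h4
      rcases h4 with h4 | h4
      · exact congrArg (fun x => ent x 0 1) h4
      · exfalso
        have h5 := congrArg (fun x => ent x 0 0) h4
        have h6 : (1 : F) = -1 := h5
        exact R'.two (by linear_combination h6)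
    rcases fld_cases hσ2 hf' R'.two h2 with h4 | h4
    · left
      rw [h1, h4, map_one]
    · right
      rw [h1, h4, hR']
  · rw [hR']
    exact R'.odd_index hord
  · intro x hx hxn β hβ
    have hx' : x ∈ fixSub (R'.fa σ) := by rw [mem_fixSub, ← hR']; exact hx
    obtain ⟨h1, h2⟩ := R'.outer_act heven hK₀ hcard hx' hxn hβ
    refine ⟨h1, ?_⟩
    rcases Int.units_eq_one_or ((R'.subRep K₀).o1 β) with h4 | h4
    · exact absurd ((R'.subRep K₀).mem_inn_iff.2 ⟨((R'.subRep K₀).mem_PGL_iff_fld).1 h1, h4⟩) h2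
    · exact h4

/-! ### involutory automorphisms -/

/-! ### four-groups -/

include R in
/-- `C_L(V) = V` -/
theorem four_cent {a b h : L} (hF : Four a b) (ha : h * a = a * h) (hb : h * b = b * h) :
    h = 1 ∨ h = a ∨ h = b ∨ h = a * b := by
  have h1 : MulAut.conj h a = a := by rw [MulAut.conj_apply, ha, mul_inv_cancel_right]
  have h2 : MulAut.conj h b = b := by rw [MulAut.conj_apply, hb, mul_inv_cancel_right]
  rcases R.fix_four hF (R.conj_mem_PGL h) h1 h2 with h3 | h3 | h3 | h3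
  · left
    apply R.conj_injective
    rw [h3, map_one]
  · exact Or.inr (Or.inl (R.conj_injective h3))
  · exact Or.inr (Or.inr (Or.inl (R.conj_injective h3)))
  · exact Or.inr (Or.inr (Or.inr (R.conj_injective h3)))

include R in
/-- some element maps `a` to `b` and `b` to `a b` -/
theorem rho {a b : L} (hF : Four a b) : ∃ y : L, y * a * y⁻¹ = b ∧ y * b * y⁻¹ = a * b := by
  obtain ⟨Φ, y, δ, -, -, -, -, -, -, h1, h2, -⟩ := R.exists_frame hF
  exact ⟨y, h1, h2⟩

include R in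
/-- the centralizer of a four-group in `Aut(L)` is abelian -/
theorem four_comm {a b : L} (hF : Four a b) {α β : MulAut L} (ha : α a = a) (hb : α b = b)
    (ha' : β a = a) (hb' : β b = b) : α * β = β * α := by
  obtain ⟨Φ, y, δ, -, hΦa, hΦb, -, -, -, -, -, -, -, -, -, -, hfix, -⟩ := R.exists_frame hF
  obtain ⟨u, hu, h1⟩ := hfix α ha hb
  obtain ⟨v, hv, h2⟩ := hfix β ha' hb'
  have hΦ : ∀ σ, ∀ w, (w = 1 ∨ w = a ∨ w = b ∨ w = a * b) → Φ σ w = w := by
    rintro σ w (rfl | rfl | rfl | rfl)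
    · exact map_one _
    · exact hΦa σ
    · exact hΦb σ
    · rw [map_mul, hΦa, hΦb]
  have huv : u * v = v * u := by
    have e1 : a * (a * b) = a * b * a := by rw [hF.comm, ← mul_assoc, hF.comm]
    have e2 : b * (a * b) = a * b * b := by rw [← mul_assoc, ← hF.comm]
    rcases hu with rfl | rfl | rfl | rfl <;> rcases hv with rfl | rfl | rfl | rfl <;>
      first
        | rfl
        | rw [one_mul, mul_one]
        | rw [mul_one, one_mul]
        | exact hF.comm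
        | exact hF.comm.symm
        | exact e1
        | exact e1.symm
        | exact e2
        | exact e2.symm
  have hc : ∀ σ w, (w = 1 ∨ w = a ∨ w = b ∨ w = a * b) →
      Φ σ * MulAut.conj w = MulAut.conj w * Φ σ := by
    intro σ w hw
    have h3 := conj_conj (Φ σ) w
    rw [hΦ σ w hw] at h3
    calc Φ σ * MulAut.conj w = Φ σ * MulAut.conj w * (Φ σ)⁻¹ * Φ σ := by group
      _ = MulAut.conj w * Φ σ := by rw [h3]
  rw [h1, h2]
  obtain ⟨σ, hσ⟩ : ∃ σ, σ = R.fld α := ⟨_, rfl⟩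
  obtain ⟨τ, hτ⟩ : ∃ τ, τ = R.fld β := ⟨_, rfl⟩
  rw [← hσ, ← hτ]
  have h4 : Φ σ * Φ τ = Φ τ * Φ σ := by
    rw [← map_mul, ← map_mul, Cfsg.Agent.Lib.AutSL2Out.ringEquiv_comm]
  calc MulAut.conj u * Φ σ * (MulAut.conj v * Φ τ) =
      MulAut.conj u * (Φ σ * MulAut.conj v) * Φ τ := by group
    _ = MulAut.conj (u * v) * (Φ σ * Φ τ) := by
      rw [hc _ v hv, map_mul]; group
    _ = MulAut.conj (v * u) * (Φ τ * Φ σ) := by rw [huv, h4]
    _ = MulAut.conj v * (MulAut.conj u * Φ τ) * Φ σ := by rw [map_mul]; group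
    _ = MulAut.conj v * Φ τ * (MulAut.conj u * Φ σ) := by
      rw [← hc _ u hu]; group

/-! ### Sylow 2-subgroups -/

namespace Fd

variable {R} {φ : MulAut L} {M : Subgroup L} (h : Fd R φ M)
include h

/-- `M` is determined by `φ` -/
theorem unique {M' : Subgroup L} (h' : Fd R φ M') : M = M' :=
  le_antisymm (h'.max M h.le h.perf) (h.max M' h'.le h'.perf)

theorem sq_mem {x : L} (hx : φ x = x) : x * x ∈ M := by
  by_cases hxM : x ∈ M
  · exact mul_mem hxM hxM
  · exact h.idx x x hx hx hxM hxM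

/-- fixed points normalize `M` -/
theorem normal {c m : L} (hc : φ c = c) (hm : m ∈ M) : c * m * c⁻¹ ∈ M := by
  by_cases hcM : c ∈ M
  · exact mul_mem (mul_mem hcM hm) (inv_mem hcM)
  · have h1 : φ (c * m) = c * m := by rw [map_mul, hc, h.le m hm]
    have h2 : c * m ∉ M := fun h3 => hcM ((Subgroup.mul_mem_cancel_right _ hm).1 h3)
    have h3 : c⁻¹ ∉ M := fun h4 => hcM (inv_mem_iff.1 h4)
    exact h.idx _ _ h1 (by rw [map_inv, hc]) h2 h3

theorem card_eq : ∃ k, Odd k ∧ Nat.card L = Nat.card M * (2 * k) := by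
  obtain ⟨E, R₀, hE, -⟩ := h.rep
  have h1 := R.card_mul_two
  have h2 := R₀.card_mul_two
  obtain ⟨q, hq⟩ : ∃ q, q = Nat.card E := ⟨_, rfl⟩
  rw [hE, ← hq] at h1
  rw [← hq] at h2
  have hodd : Odd q := hq ▸ odd_card (two_sub R.two E)
  have hq1 : 1 < q := hq ▸ Finite.one_lt_card
  obtain ⟨t, ht⟩ := hodd
  have h3 : (q ^ 2 + 1) = 2 * (2 * (t ^ 2 + t) + 1) := by rw [ht]; ring
  refine ⟨q * (2 * (t ^ 2 + t) + 1), ⟨2 * t * t ^ 2 + 2 * t * t + t + (t ^ 2 + t) , ?_⟩, ?_⟩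
  · rw [ht]; ring
  · have h4 : q ^ 2 * ((q ^ 2) ^ 2 - 1) = q * (q ^ 2 - 1) * (q * (q ^ 2 + 1)) := by
      have h5 : (q ^ 2) ^ 2 - 1 = (q ^ 2 - 1) * (q ^ 2 + 1) := by
        obtain ⟨n, hn⟩ : ∃ n, q ^ 2 = n + 1 := ⟨q ^ 2 - 1, by
          have : 0 < q ^ 2 := by positivity
          omega⟩
        rw [hn, Nat.add_sub_cancel]
        have : (n + 1) ^ 2 = n * (n + 1 + 1) + 1 := by ring
        rw [this, Nat.add_sub_cancel]
      rw [h5]
      ring
    rw [h4, ← h2, h3] at h1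
    have h6 : Nat.card L * 2 = Nat.card M * (2 * (q * (2 * (t ^ 2 + t) + 1))) * 2 := by
      rw [h1]; ring
    exact Nat.eq_of_mul_eq_mul_right (by norm_num) h6

/-- a Sylow 2-subgroup is not contained in `M` -/
theorem not_le (S : Sylow 2 L) : ¬ (S : Subgroup L) ≤ M := by
  intro hle
  have hfin : Finite L := R.finite
  obtain ⟨k, -, hk⟩ := h.card_eq
  obtain ⟨j, hj⟩ := Subgroup.card_dvd_of_le hle
  have h1 := (S : Subgroup L).card_mul_index
  have h2 : ¬ 2 ∣ (S : Subgroup L).index := S.not_dvd_index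
  apply h2
  rw [hk, hj, mul_assoc] at h1
  have h3 := Nat.eq_of_mul_eq_mul_left Nat.card_pos h1
  rw [h3]
  exact ⟨j * k, by ring⟩

section syl

variable (S : Sylow 2 L)

theorem exists_not_mem : ∃ s ∈ S, s ∉ M := by
  by_contra hcon
  push Not at hcon
  exact h.not_le S hcon

variable (hS : ∀ s ∈ S, φ s = s)
include hS

/-- `S ∩ M` contains a four-group -/
theorem exists_four : ∃ a b : L, Four a b ∧ a ∈ S ∧ b ∈ S ∧ a ∈ M ∧ b ∈ M := by
  have hfin : Finite L := R.finite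
  obtain ⟨E, R₀, -, -⟩ := h.rep
  obtain ⟨a, b, hab⟩ := R₀.exists_four
  have hF := four_coe hab
  have hsyl : TriBase.IsSyl (fixSub φ) (S : Subgroup L) :=
    ⟨S.2, hS, fun R' h1 _ h3 => S.3 h1 h3⟩
  have hle : hF.sub ≤ fixSub φ := by
    rintro x (rfl | rfl | rfl | rfl)
    · exact one_mem _
    · exact h.le _ a.2
    · exact h.le _ b.2
    · exact mul_mem (h.le _ a.2) (h.le _ b.2)
  obtain ⟨g, hg, hle'⟩ := hsyl.conj hF.sub_two hle
  have hgi : φ g⁻¹ = g⁻¹ := by rw [map_inv, (hg : φ g = g)]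
  have key : ∀ x : L, x ∈ hF.sub → x ∈ M → g⁻¹ * x * g ∈ S ∧ g⁻¹ * x * g ∈ M := by
    intro x hx hxM
    constructor
    · have h1 := hle' hx
      rw [SignalizersComponents.IntrinsicBasic.mem_cj] at h1
      exact h1
    · have h1 := h.normal hgi hxM
      rwa [inv_inv] at h1
  have ha := key a (Or.inr (Or.inl rfl)) a.2
  have hb := key b (Or.inr (Or.inr (Or.inl rfl))) b.2
  have hF' := hF.map (MulAut.conj g⁻¹)
  rw [MulAut.conj_apply, MulAut.conj_apply, inv_inv] at hF'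
  exact ⟨_, _, hF', ha.1, hb.1, ha.2, hb.2⟩

/-- the dihedral frame: `d ∉ M`, `r ∈ M`, `d² ≠ 1` -/
theorem exists_dih : ∃ d r : L, Dih (S : Subgroup L) d r ∧ d * d ≠ 1 ∧ d ∉ M ∧ r ∈ M := by
  obtain ⟨d, r, hd⟩ := R.exists_dih S
  have hdd : d * d ≠ 1 := R.ftype_dd (fun hp => h.fld (R.mem_PGL_iff_fld.1 hp)) h.sq S hd
  have hd2 : d * d ∈ M := h.sq_mem (hS d hd.d_mem)
  obtain ⟨a, b, hF, haS, hbS, haM, hbM⟩ := h.exists_four S hS
  have hfin : Finite L := R.finite
  -- some involution of `S ∩ M` is a reflection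
  obtain ⟨v, hvS, hvM, hvd⟩ : ∃ v ∈ S, v ∈ M ∧ v ∉ Subgroup.zpowers d := by
    by_contra hcon
    push Not at hcon
    exact four_not_cyc hF (hcon a haS haM) (hcon b hbS hbM)
  obtain ⟨k, rfl⟩ := (hd.cov v hvS).resolve_left hvd
  refine ⟨d, d ^ k * r, hd.change k, hdd, ?_, hvM⟩
  intro hdM
  apply h.not_le S
  intro s hs
  rcases (hd.change k).cov s hs with ⟨j, rfl⟩ | ⟨j, rfl⟩
  · exact M.zpow_mem hdM j
  · exact M.mul_mem (M.zpow_mem hdM j) hvM

omit hS in
/-- a central involution of `S` is a rotation -/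
theorem central_rot {d r : L} (hd : Dih (S : Subgroup L) d r) (hdd : d * d ≠ 1) {z : L} (hz : z ∈ S)
    (hc : ∀ s ∈ S, s * z = z * s) : z ∈ Subgroup.zpowers d := by
  rcases hd.cov z hz with h1 | ⟨k, rfl⟩
  · exact h1
  · exfalso
    have h1 := hd.pow_r_conj k 1
    rw [zpow_one, ← hc d hd.d_mem, mul_inv_cancel_right, zpow_neg, zpow_one] at h1
    exact hdd (mul_eq_one_iff_eq_inv.2 h1)

theorem pow_even_mem {d : L} (hd : d ∈ S) {k : ℤ} (hk : Even k) : d ^ k ∈ M := by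
  obtain ⟨j, hj⟩ := hk
  have hd2 : d * d ∈ M := h.sq_mem (hS d hd)
  have h2 : d ^ k = (d * d) ^ j := by
    rw [hj, zpow_add, ← (Commute.refl d).mul_zpow]
  rw [h2]
  exact M.zpow_mem hd2 j

/-- the central involution of `S` lies in `M` -/
theorem z_mem {z : L} (hz : z ∈ S) (hzz : z * z = 1) (hc : ∀ s ∈ S, s * z = z * s) : z ∈ M := by
  have hfin : Finite L := R.finite
  obtain ⟨d, r, hd, hdd, hdM, hrM⟩ := h.exists_dih S hS
  obtain ⟨k, rfl⟩ := central_rot h S hd hdd hz hc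
  refine h.pow_even_mem S hS hd.d_mem ?_
  obtain ⟨n, hn, h1, h2⟩ := hd.exists_z S.2
  change d ^ k * d ^ k = 1 at hzz
  rw [← zpow_add, ← orderOf_dvd_iff_zpow_eq_one, hn] at hzz
  have hn1 : n ≠ 0 := by
    rintro rfl
    apply hdd
    rw [pow_zero, pow_one] at h1
    exact h1
  obtain ⟨m, rfl⟩ := Nat.exists_eq_succ_of_ne_zero hn1
  obtain ⟨j, hj⟩ := hzz
  refine ⟨2 ^ m * j, ?_⟩
  have h3 : (((2 : ℕ) ^ (m.succ + 1) : ℕ) : ℤ) = 4 * 2 ^ m := by
    push_cast
    rw [Nat.succ_eq_add_one]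
    ring
  rw [h3] at hj
  linarith

/-- a noncentral involution of `S ∩ M` -/
theorem exists_v (z : L) : ∃ v ∈ S, v ∈ M ∧ v * v = 1 ∧ v ≠ 1 ∧ v ≠ z := by
  obtain ⟨a, b, hF, haS, hbS, haM, hbM⟩ := h.exists_four S hS
  by_cases h1 : a = z
  · exact ⟨b, hbS, hbM, hF.bb, hF.b1, fun h2 => hF.ne (h1.trans h2.symm)⟩
  · exact ⟨a, haS, haM, hF.aa, hF.a1, h1⟩

end syl

/-- `z ∈ M ∩ M'` an involution, `M'` the group belonging to `φ ∘ conj z`: no other involution commuting with `z` lies in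
`M ∩ M'`. -/
theorem eq_z {z : L} {M' : Subgroup L} (h' : Fd R (MulAut.conj z * φ) M') (hzz : z * z = 1)
    (hz1 : z ≠ 1) (hzM : z ∈ M) (hzM' : z ∈ M') {v : L} (hvv : v * v = 1) (hv1 : v ≠ 1)
    (hvz : v * z = z * v) (hvM : v ∈ M) (hvM' : v ∈ M') : v = z := by
  by_contra hne
  have hF : Four z v := ⟨hzz, hvv, hz1, hv1, fun h1 => hne h1.symm, hvz.symm⟩
  have hsub : ∀ N : Subgroup L, (∃ (E : Subfield F) (_ : Cfsg.Agent.GH.L2Aut.Rep E N), True) →
      z ∈ N → v ∈ N → ∃ ρ ∈ N, ρ * z * ρ⁻¹ = v ∧ ρ * v * ρ⁻¹ = z * v := by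
    rintro N ⟨E, R₀, -⟩ hzN hvN
    have hF' : Four (⟨z, hzN⟩ : N) ⟨v, hvN⟩ :=
      ⟨Subtype.ext hzz, Subtype.ext hvv, fun h1 => hz1 (congrArg Subtype.val h1),
        fun h1 => hv1 (congrArg Subtype.val h1), fun h1 => hne (congrArg Subtype.val h1).symm,
        Subtype.ext hvz.symm⟩
    obtain ⟨ρ, h1, h2⟩ := rho R₀ hF'
    exact ⟨ρ, ρ.2, congrArg Subtype.val h1, congrArg Subtype.val h2⟩
  obtain ⟨ρ, hρ, h1, h2⟩ := hsub M (by obtain ⟨E, R₀, -⟩ := h.rep; exact ⟨E, R₀, trivial⟩) hzM hvM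
  obtain ⟨τ, hτ, h3, h4⟩ := hsub M' (by obtain ⟨E, R₀, -⟩ := h'.rep; exact ⟨E, R₀, trivial⟩) hzM' hvM'
  -- `τ ρ⁻¹` centralizes the four-group
  have h5 : ρ⁻¹ * v * ρ = z := by rw [← h1]; group
  have h6 : ρ⁻¹ * (z * v) * ρ = v := by rw [← h2]; group
  have hv : τ * ρ⁻¹ * v = v * (τ * ρ⁻¹) := by
    calc τ * ρ⁻¹ * v = τ * (ρ⁻¹ * v * ρ) * τ⁻¹ * (τ * ρ⁻¹) := by group
      _ = v * (τ * ρ⁻¹) := by rw [h5, h3]
  have hzv : τ * ρ⁻¹ * (z * v) = z * v * (τ * ρ⁻¹) := by
    calc τ * ρ⁻¹ * (z * v) = τ * (ρ⁻¹ * (z * v) * ρ) * τ⁻¹ * (τ * ρ⁻¹) := by group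
      _ = z * v * (τ * ρ⁻¹) := by rw [h6, h4]
  have hz : τ * ρ⁻¹ * z = z * (τ * ρ⁻¹) := by
    have hzz' : z = z * v * v := by rw [mul_assoc, hvv, mul_one]
    calc τ * ρ⁻¹ * z = τ * ρ⁻¹ * (z * v) * v := by rw [mul_assoc (τ * ρ⁻¹), ← hzz']
      _ = z * v * (τ * ρ⁻¹ * v) := by rw [hzv, mul_assoc]
      _ = z * v * v * (τ * ρ⁻¹) := by rw [hv]; group
      _ = z * (τ * ρ⁻¹) := by rw [← hzz']
  have h7 : φ (τ * ρ⁻¹) = τ * ρ⁻¹ := by
    rcases four_cent R hF hz hv with h8 | h8 | h8 | h8 <;> rw [h8]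
    · exact map_one _
    · exact h.le z hzM
    · exact h.le v hvM
    · rw [map_mul, h.le z hzM, h.le v hvM]
  have h8 : φ τ = τ := by
    rw [map_mul, map_inv, h.le ρ hρ] at h7
    exact mul_right_cancel h7
  have h9 := h'.le τ hτ
  rw [MulAut.mul_apply, h8, MulAut.conj_apply, mul_inv_eq_iff_eq_mul] at h9
  apply hne
  rw [← h3, ← h9, mul_inv_cancel_right]

/-- **the product of noncentral involutions of `S ∩ M` and `S ∩ M'`** -/
theorem mul_odd {z : L} {M' : Subgroup L} (h' : Fd R (MulAut.conj z * φ) M') (S : Sylow 2 L)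
    (hS : ∀ s ∈ S, φ s = s) (hzS : z ∈ S) (hzz : z * z = 1) (hz1 : z ≠ 1)
    (hc : ∀ s ∈ S, s * z = z * s) {v u : L} (hvS : v ∈ S) (huS : u ∈ S) (hvM : v ∈ M) (huM : u ∈ M')
    (hvv : v * v = 1) (hv1 : v ≠ 1) (hvz : v ≠ z) (huu : u * u = 1) (hu1 : u ≠ 1) (huz : u ≠ z) :
    ∃ (d r : L) (k : ℤ), Dih (S : Subgroup L) d r ∧ d * d ≠ 1 ∧ Odd k ∧ v * u = d ^ k := by
  have hfin : Finite L := R.finite
  have hS' : ∀ s ∈ S, (MulAut.conj z * φ) s = s := by
    intro s hs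
    rw [MulAut.mul_apply, hS s hs, MulAut.conj_apply, ← hc s hs, mul_inv_cancel_right]
  have hzM := h.z_mem S hS hzS hzz hc
  have hzM' := h'.z_mem S hS' hzS hzz hc
  obtain ⟨d, r, hd, hdd, hdM, hrM⟩ := h.exists_dih S hS
  have hrefl : ∀ w ∈ S, w * w = 1 → w ≠ 1 → w ≠ z → ∃ k : ℤ, w = d ^ k * r := by
    intro w hw hww hw1 hwz
    refine (hd.cov w hw).resolve_left fun h1 => ?_
    have h2 := central_rot h S hd hdd hzS hc
    exact four_not_cyc ⟨hww, hzz, hw1, hz1, hwz, hc w hw⟩ h1 h2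
  obtain ⟨i, rfl⟩ := hrefl v hvS hvv hv1 hvz
  obtain ⟨j, rfl⟩ := hrefl u huS huu hu1 huz
  have h1 : d ^ i * r * (d ^ j * r) = d ^ (i - j) := by
    have h2 := hd.pow_r_sq j
    calc d ^ i * r * (d ^ j * r) = d ^ (i - j) * (d ^ j * r * (d ^ j * r)) := by
          rw [zpow_sub]; group
      _ = d ^ (i - j) := by rw [h2, mul_one]
  refine ⟨d, r, i - j, hd, hdd, ?_, h1⟩
  by_contra hcon
  rw [Int.not_odd_iff_even] at hcon
  have h2 := h'.pow_even_mem S hS' hd.d_mem hcon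
  rw [← h1] at h2
  have h3 : d ^ i * r ∈ M' := (Subgroup.mul_mem_cancel_right _ huM).1 h2
  exact hvz (h.eq_z h' hzz hz1 hzM hzM' hvv hv1 (hc _ hvS) hvM h3)

/-- the order of the product -/
theorem orderOf_mul {z : L} {M' : Subgroup L} (h' : Fd R (MulAut.conj z * φ) M') (S : Sylow 2 L)
    (hS : ∀ s ∈ S, φ s = s) (hzS : z ∈ S) (hzz : z * z = 1) (hz1 : z ≠ 1)
    (hc : ∀ s ∈ S, s * z = z * s) {v u : L} (hvS : v ∈ S) (huS : u ∈ S) (hvM : v ∈ M) (huM : u ∈ M')
    (hvv : v * v = 1) (hv1 : v ≠ 1) (hvz : v ≠ z) (huu : u * u = 1) (hu1 : u ≠ 1) (huz : u ≠ z) :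
    2 * orderOf (v * u) = Nat.card S ∧ ∃ k : ℕ, (v * u) ^ (2 * k) = z := by
  have hfin : Finite L := R.finite
  obtain ⟨d, r, k, hd, hdd, hk, hvu⟩ :=
    h.mul_odd h' S hS hzS hzz hz1 hc hvS huS hvM huM hvv hv1 hvz huu hu1 huz
  obtain ⟨n, hn, h1, h2⟩ := hd.exists_z S.2
  have hd2 : ∃ n, d ^ 2 ^ n = 1 := ⟨n + 1, by rw [← hn, pow_orderOf_eq_one]⟩
  obtain ⟨j, hj⟩ := zpowers_odd hd2 hk
  change (d ^ k) ^ j = d at hj
  rw [hvu]
  constructor
  · have h3 : orderOf (d ^ k) = orderOf d := by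
      apply Nat.dvd_antisymm
      · exact orderOf_dvd_of_mem_zpowers ⟨k, rfl⟩
      · exact orderOf_dvd_of_mem_zpowers ⟨j, hj⟩
    rw [h3]
    exact (hd.card).symm
  · obtain ⟨m, rfl⟩ := central_rot h S hd hdd hzS hc
    have h3 : Even m := by
      change d ^ m * d ^ m = 1 at hzz
      rw [← zpow_add, ← orderOf_dvd_iff_zpow_eq_one, hn] at hzz
      have hn1 : n ≠ 0 := by
        rintro rfl
        apply hdd
        rw [pow_zero, pow_one] at h1
        exact h1
      obtain ⟨l, rfl⟩ := Nat.exists_eq_succ_of_ne_zero hn1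
      obtain ⟨i, hi⟩ := hzz
      refine ⟨2 ^ l * i, ?_⟩
      have h3 : (((2 : ℕ) ^ (l.succ + 1) : ℕ) : ℤ) = 4 * 2 ^ l := by
        push_cast
        rw [Nat.succ_eq_add_one]
        ring
      rw [h3] at hi
      linarith
    obtain ⟨l, hl⟩ := h3
    -- `d ^ m = (d ^ k) ^ (j m) = ((d ^ k) ^ 2) ^ (j l)`
    have h4 : d ^ m = ((d ^ k) ^ 2) ^ (j * l) := by
      rw [← zpow_natCast, ← zpow_mul]
      have : ((2 : ℕ) : ℤ) * (j * l) = j * m := by rw [hl]; push_cast; ring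
      rw [this, zpow_mul (d ^ k) j m, hj]
    have h5 : d ^ m ∈ Subgroup.zpowers ((d ^ k) ^ 2) := ⟨j * l, h4.symm⟩
    obtain ⟨i, hi⟩ := (mem_powers_iff_mem_zpowers).2 h5
    exact ⟨i, by rw [pow_mul]; exact hi⟩

end Fd

end Cfsg.Agent.UGT.Q2.Facts
end

-- part: UGT/L2i/FactsRep
section
set_option linter.all false
open scoped Cfsg.Agent.FastGrp

/-!
# P0 (SETUP): facts on `PSL₂(q)`

`rep_four`, `rep_refl`, `rep_eleven`, `qfacts` : facts on `X ≅ PSL₂(F)`, `F` finite of odd characteristic.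
-/

set_option autoImplicit false

open Cfsg Subgroup
open Cfsg.Agent.UGT.Iface (Bar IsInner IsL2)
open Cfsg.Agent.UGT.L2Inner
open scoped commutatorElement

universe u

namespace Cfsg.Agent.UGT.L2i

section rep

variable {F : Type*} [Field F] [Finite F] {X : Type*} [Group X] (R : Cfsg.Agent.GH.L2Aut.Rep F X)

include R

/-- every involution commutes with another one -/
theorem rep_four {e : X} (hee : e * e = 1) (he1 : e ≠ 1) : ∃ f : X, f * f = 1 ∧ f ≠ 1 ∧ f ≠ e ∧ e * f = f * e := by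
  obtain ⟨a, b, h⟩ := R.exists_four
  obtain ⟨g, hg⟩ := R.inv_conj h.aa h.a1 hee he1
  refine ⟨g * b * g⁻¹, ?_, ?_, ?_, ?_⟩
  · calc g * b * g⁻¹ * (g * b * g⁻¹) = g * (b * b) * g⁻¹ := by group
      _ = 1 := by rw [h.bb]; group
  · intro h1
    apply h.b1
    calc b = g⁻¹ * (g * b * g⁻¹) * g := by group
      _ = 1 := by rw [h1]; group
  · intro h1
    apply h.ne
    rw [← hg] at h1
    calc a = g⁻¹ * (g * a * g⁻¹) * g := by group
      _ = g⁻¹ * (g * b * g⁻¹) * g := by rw [h1]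
      _ = b := by group
  · rw [← hg]
    calc g * a * g⁻¹ * (g * b * g⁻¹) = g * (a * b) * g⁻¹ := by group
      _ = g * (b * a) * g⁻¹ := by rw [h.comm]
      _ = _ := by group

/-- an automorphism `δ ≠ 1` of odd order fixing the involution `l` moves an involution commuting with `l` -/
theorem rep_refl {l : X} (hll : l * l = 1) (hl1 : l ≠ 1) {δ : MulAut X} (hδ : Odd (orderOf δ)) (hδ1 : δ ≠ 1)
    (hδl : δ l = l) : ∃ t : X, t * t = 1 ∧ t * l = l * t ∧ t ≠ l ∧ t ≠ 1 ∧ δ t ≠ t := by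
  by_contra hcon
  push Not at hcon
  have hcP : MulAut.conj l ∈ R.PGL := R.conj_mem_PGL l
  have hc1 : MulAut.conj l ≠ 1 := fun h => hl1 (R.conj_injective (by rw [h, map_one]))
  have hcc : MulAut.conj l * MulAut.conj l = 1 := by rw [← map_mul, hll, map_one]
  have hcomm : δ * MulAut.conj l = MulAut.conj l * δ := by
    have h1 : δ * MulAut.conj l * δ⁻¹ = MulAut.conj (δ l) := by
      ext y
      simp [MulAut.conj_apply]
    rw [hδl] at h1
    exact mul_inv_eq_iff_eq_mul.mp h1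
  apply hδ1
  refine R.eq_one_of_fix hcP hc1 hcc hδ hcomm fun y hy => ?_
  have hyl : y * l = l * y := by
    have h1 : l * y * l⁻¹ = y := by simpa [MulAut.conj_apply] using hy
    rw [mul_inv_eq_iff_eq_mul] at h1
    exact h1.symm
  obtain ⟨B, hlB, hBc, hB2, hcov⟩ := R.inner_cent hll hl1
  obtain ⟨b, hbb, hb1, hbl, hlb⟩ := rep_four R hll hl1
  have hbB : b ∉ B := by
    intro h
    rcases hB2 b h hbb with h1 | h1
    · exact hb1 h1
    · exact hbl h1
  -- elements of `C(l) ∖ B` are fixed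
  have hout : ∀ z : X, z * l = l * z → z ∉ B → δ z = z := by
    intro z hz hzB
    rcases hcov z hz with h | ⟨hzz, -⟩
    · exact absurd h hzB
    · exact hcon z hzz hz (fun h => hzB (h ▸ hlB)) (fun h => hzB (h ▸ one_mem B))
  by_cases hyB : y ∈ B
  · have h1 : y * b ∉ B := fun h => hbB (by
      have := mul_mem (inv_mem hyB) h
      rwa [inv_mul_cancel_left] at this)
    have h2 := hout b hlb.symm hbB
    have h3 := hout (y * b) (by rw [mul_assoc, ← hlb, ← mul_assoc, hyl, mul_assoc]) h1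
    rw [map_mul, h2] at h3
    exact mul_right_cancel h3
  · exact hout y hyl hyB

/-- an element of odd order commuting with an involution -/
theorem rep_eleven {l s : X} (hll : l * l = 1) (hl1 : l ≠ 1) (hs : s * l = l * s) (hs1 : s ≠ 1)
    (hodd : Odd (orderOf s)) : 11 ≤ Nat.card F := by
  by_contra hlt
  push Not at hlt
  obtain ⟨g, hg⟩ := R.mem_PGL.1 (R.conj_mem_PGL l)
  have hg1 : R.gl g ≠ 1 := by
    rw [← hg]
    exact fun h => hl1 (R.conj_injective (by rw [h, map_one]))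
  have htr := OddCyclic.PGLTorus.trace_of_sq R hg1 (by rw [← hg, ← map_mul, hll, map_one])
  have hc := OddCyclic.PGLTorus.card_Tor_inn R htr ⟨l, hg⟩
  have hF := OddCyclic.PGLTorus.odd_card R
  have hgs : R.gl g s = s := by
    rw [← hg, MulAut.conj_apply, ← hs, mul_inv_cancel_right]
  have hss : s * s ≠ 1 := by
    intro h
    have h1 : orderOf s = 2 := orderOf_eq_prime (by rw [pow_two, h]) hs1
    rw [h1] at hodd
    exact absurd hodd (by decide)
  have h3 := (OddCyclic.PGLTorus.mem_Cp_or_sq R hgs).resolve_right hss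
  have h4 : orderOf (MulAut.conj s) ∣ Nat.card (OddCyclic.PGLTorus.Tor R g) := by
    have := orderOf_dvd_natCard (⟨MulAut.conj s, OddCyclic.PGLTorus.mem_Cp R |>.mp h3⟩ : OddCyclic.PGLTorus.Tor R g)
    rwa [orderOf_mk] at this
  rw [orderOf_injective _ R.conj_injective] at h4
  have h5 : orderOf s ≠ 1 := fun h => hs1 (orderOf_eq_one_iff.mp h)
  have h6 : 3 ≤ Nat.card F := by
    have : 1 < Nat.card F := Finite.one_lt_card
    omega
  have key : ∀ m : ℕ, orderOf s ∣ 2 ^ m → False := by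
    intro m h
    have h7 : Nat.Coprime (orderOf s) (2 ^ m) := Nat.Coprime.pow_right m (Nat.coprime_two_right.mpr hodd)
    exact h5 (Nat.eq_one_of_dvd_coprimes h7 dvd_rfl h)
  rw [hc] at h4
  obtain ⟨q, hq⟩ : ∃ q, q = Nat.card F := ⟨_, rfl⟩
  rw [← hq] at h4 h6 hlt hF
  unfold OddCyclic.PGLTorus.nu at h4
  have h7 : q = 3 ∨ q = 5 ∨ q = 7 ∨ q = 9 := by omega
  rcases h7 with rfl | rfl | rfl | rfl
  · exact key 2 (by simpa using h4)
  · exact key 2 (by simpa using h4)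
  · exact key 3 (by simpa using h4)
  · exact key 3 (by simpa using h4)

end rep

/-- `PSL₂(q)`, `q ≥ 11` odd, satisfies `QFacts`. -/
theorem qfacts {F : Type*} [Field F] [Finite F] {X : Type u} [Group X] (R : Cfsg.Agent.GH.L2Aut.Rep F X)
    (hq : 11 ≤ Nat.card F) : QFacts X where
  simple := OddHalf.D6.SubFix.isSimple R (by omega)
  nab := by
    intro h
    obtain ⟨a, b, hab⟩ := R.exists_four
    have h1 : a ∈ center X := mem_center_iff.mpr fun g => h g a
    rw [R.center_eq_bot, mem_bot] at h1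
    exact hab.a1 h1
  even := even_iff_two_dvd.mp (WBAut.even_card R)
  gam := SL.gamAut_rep R hq
  conj s t h1 h2 h3 h4 := R.inv_conj h1 h2 h3 h4
  four e h1 h2 := rep_four R h1 h2

theorem exists_rep {K : Type u} [Group K] (h : IsL2 K) :
    ∃ (F : Type) (_ : Field F) (_ : Finite F), 5 ≤ Nat.card F ∧
      Nonempty (Cfsg.Agent.GH.L2Aut.Rep F K) := by
  obtain ⟨F, i1, i2, h1, h2, ⟨e⟩⟩ := h
  refine ⟨F, i1, inferInstance, ?_, ⟨Cfsg.Agent.GH.L2Aut.Rep.ofEquiv
    (Cfsg.Agent.GH.L2Aut.two_ne_zero_of_odd h1) e⟩⟩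
  rwa [Nat.card_eq_fintype_card]

theorem center_of_L2 {K : Type*} [Group K] (h : IsL2 K) : center K = ⊥ := by
  obtain ⟨F, i1, i2, hodd, h5, ⟨e⟩⟩ := h
  exact (GH.L2Aut.Rep.ofEquiv (GH.L2Aut.two_ne_zero_of_odd hodd) e).center_eq_bot

theorem isL2_congr {K K' : Type*} [Group K] [Group K'] (h : IsL2 K) (e : K ≃* K') : IsL2 K' := by
  obtain ⟨F, i1, i2, h1, h2, ⟨f⟩⟩ := h
  exact ⟨F, i1, i2, h1, h2, ⟨e.symm.trans f⟩⟩

/-- the order of `C / O(C)` divides the order of `J / O(J)` for `C ≤ J` -/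
theorem card_bar_dvd {G : Type*} [Group G] [Finite G] {C J : Subgroup G} (h : C ≤ J) :
    Nat.card (↥C ⧸ oddCore ↥C) ∣ Nat.card (↥J ⧸ oddCore ↥J) := by
  have h2 : Fact (Nat.Prime 2) := ⟨Nat.prime_two⟩
  have h1 : (oddCore ↥J).relIndex (C.subgroupOf J) ∣ (oddCore ↥J).index :=
    relIndex_dvd_index_of_normal _ _
  refine dvd_trans ?_ h1
  let e : ↥(C.subgroupOf J) ≃* ↥C := subgroupOfEquivOfLe h
  let N : Subgroup ↥C := ((oddCore ↥J).subgroupOf (C.subgroupOf J)).map e.toMonoidHom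
  have hN : N ≤ oddCore ↥C := by
    refine Lib.Cores.le_pPrimeCore ?_ ?_
    · exact Normal.map inferInstance _ e.surjective
    · change (Nat.card N).Coprime 2
      have h3 : (Nat.card (oddCore ↥J)).Coprime 2 := Lib.Cores.pPrimeCore_coprime 2
      refine Nat.Coprime.coprime_dvd_left ?_ h3
      refine (card_map_dvd _ _).trans ?_
      exact card_comap_dvd_of_injective _ _ (subtype_injective _)
  have h4 : (oddCore ↥C).index ∣ N.index := index_dvd_of_le hN
  have h5 : N.index = (oddCore ↥J).relIndex (C.subgroupOf J) := by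
    rw [Subgroup.relIndex]
    exact index_map_equiv _ e
  rwa [h5] at h4

end Cfsg.Agent.UGT.L2i
end

-- part: UGT/L2i/Pre
section
prune_inst 0x2000000000020000000000000024400200000000030000514105020486142105002600f0000b014900002400380008110000090010000000000200411800a0802260809308000426000f80b803180c00000000000000000000000000041000000000000
set_option linter.all false
open scoped Cfsg.Agent.FastGrp

-- part: UGT/L2i/Fam
section
/-!
# P0 (SETUP), part 1: the family of the inner triples of maximal order is closed under pump-up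

`FF M0 x t N`: `(x, t, N)` is a triple of type `PSL₂(q)`, `x` is inner on `N / O(N)`, `|N / O(N)| = M0`.
`UpOk G`: if `(x, t, N)` is an inner triple of type `PSL₂(q)` and `(x, y, J)` a triple such that `|N / O(N)|`
divides `|J / O(J)|`, then `(x, y, J)` is of type `PSL₂(q')` (true if all triples are of type `PSL₂(q)` or `A₇`).
-/

set_option autoImplicit false

open Cfsg Subgroup
open Cfsg.Agent.SignalizersComponents Cfsg.Agent.Lib
open Cfsg.Agent.SignalizersComponents.IntrinsicBasic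
open Cfsg.Agent.SignalizersComponents.IntrinsicIntr
open Cfsg.Agent.SignalizersComponents.PLayerAut
open Cfsg.Agent.Intrinsic.Basic Cfsg.Agent.Intrinsic.Cen Cfsg.Agent.Intrinsic.Diag
open Cfsg.Agent.McLLyComp.Act
open Cfsg.Agent.UGT.TMCBase Cfsg.Agent.UGT.TMCSyl Cfsg.Agent.UGT.TMCMax Cfsg.Agent.UGT.TMCBad
open Cfsg.Agent.UGT.Triple (IsTriple)
open Cfsg.Agent.UGT.Iface (Bar IsInner IsL2)
open Cfsg.Agent.UGT.L2Inner
open scoped commutatorElement

universe u

namespace Cfsg.Agent.UGT.L2i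

variable {G : Type u} [Group G]

/-- a triple `(x, y, J)` above an inner triple `(x, t, N)` of type `PSL₂(q)` is of type `PSL₂(q')` -/
def UpOk (G : Type u) [Group G] : Prop :=
  ∀ (x t : G) (N : Subgroup G), IsTriple x t N → IsInner x N → IsL2 (Bar N) →
    ∀ (y : G) (J : Subgroup G), IsTriple x y J → Nat.card (Bar N) ∣ Nat.card (Bar J) → IsL2 (Bar J)

/-- the family of the inner triples of type `PSL₂(q)` of order `M0` -/
structure FF (M0 : ℕ) (x t : G) (N : Subgroup G) : Prop where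
  tri : IsTriple x t N
  inn : IsInner x N
  ty : IsL2 (Bar N)
  card : Nat.card (Bar N) = M0

theorem FF.ctr {M0 : ℕ} {x t : G} {N : Subgroup G} (h : FF M0 x t N) : center (Bar N) = ⊥ := center_of_L2 h.ty

/-- `{g ∈ X : [g, r] ∈ O(X)}` -/
def cmod (X : Subgroup G) {r : G} (hr : r ∈ X) : Subgroup G :=
  ((centralizer ({QuotientGroup.mk' (oddCore ↥X) ⟨r, hr⟩} : Set (↥X ⧸ oddCore ↥X))).comap
    (QuotientGroup.mk' (oddCore ↥X))).map X.subtype

theorem mem_cmod {X : Subgroup G} {r : G} (hr : r ∈ X) {g : G} :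
    g ∈ cmod X hr ↔ g ∈ X ∧ ⁅g, r⁆ ∈ core X := by
  constructor
  · rintro ⟨⟨y, hy⟩, h, rfl⟩
    refine ⟨hy, (commutator_mem_core_iff hy hr).mpr ?_⟩
    exact mem_centralizer_singleton_iff.mp h
  · rintro ⟨hg, h⟩
    refine ⟨⟨g, hg⟩, ?_, rfl⟩
    exact mem_centralizer_singleton_iff.mpr ((commutator_mem_core_iff hg hr).mp h)

section

variable {x : G} {L : Subgroup G}

/-- the square of the element of `L` acting as `x` lies in `O(L)`, and it commutes with `x` modulo `O(L)` -/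
theorem sq_of_inner (hZ : center (Bar L) = ⊥)
    (hx : x * x = 1) (hxL : x ∈ normalizer (L : Set G)) {r : G} (hr : r ∈ L)
    (hf : Fixes (x * r⁻¹) L) : r * r ∈ core L ∧ ⁅x, r⁆ ∈ core L := by
  constructor
  · have h1 : Fixes (r * r) L := by
      have h2 : Fixes (x * (x * r⁻¹)⁻¹ * x⁻¹) L := fixes_conj (fixes_inv hf) hxL
      have h3 := fixes_mul (fixes_inv hf) h2
      have h4 : (x * r⁻¹)⁻¹ * (x * (x * r⁻¹)⁻¹ * x⁻¹) = r * (r * (x * x)⁻¹) := by group
      rw [h4, hx] at h3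
      simpa using h3
    have h2 := (mk_center_iff (L.mul_mem hr hr)).mpr h1
    have h3 : (QuotientGroup.mk' (oddCore ↥L)) ⟨r * r, L.mul_mem hr hr⟩ ∈ center (Bar L) := h2
    rw [hZ, mem_bot] at h3
    exact (mem_core_iff (L.mul_mem hr hr)).mpr ((QuotientGroup.eq_one_iff _).mp h3)
  · have h1 := hf.2 r hr
    have h2 : ⁅x, r⁆ = ⁅x * r⁻¹, r⁆ := by
      rw [commutatorElement_def, commutatorElement_def]; group
    rw [h2]
    exact h1

end

variable [Finite G] {x a : G} {L : Subgroup G}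

/-- **Lifting the inner part of `x`.** -/
theorem exists_l (T : IsTriple x a L) (hZ : center (Bar L) = ⊥) (hin : IsInner x L) {Q : Subgroup G}
    (hQ2 : IsPGroup 2 ↥Q) (hQa : ∀ q ∈ Q, q * a = a * q) (hQx : ∀ q ∈ Q, q * x = x * q)
    (hQL : ∀ q ∈ Q, Fixes q L) :
    ∃ l ∈ L, l * l = 1 ∧ l ≠ 1 ∧ (∀ q ∈ Q, q * l = l * q) ∧ x * l = l * x ∧ Fixes (x * l) L := by
  have h2 : Fact (Nat.Prime 2) := ⟨Nat.prime_two⟩
  have hx2 := Triple.sq_of_order T.invx
  obtain ⟨r, hr, hf⟩ := hin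
  obtain ⟨h1, h3⟩ := sq_of_inner hZ hx2 T.x_mem hr hf
  have hrX : r ∈ centralizer ({a} : Set G) := T.comp.le hr
  obtain ⟨P, hP⟩ : ∃ P, P = Q ⊔ zpowers x := ⟨_, rfl⟩
  have hxP : x ∈ P := hP ▸ mem_sup_right (mem_zpowers x)
  have hP2 : IsPGroup 2 ↥P := by
    rw [hP]
    have h4 : IsPGroup 2 ↥(zpowers x) := by
      have : Nat.card (zpowers x) = 2 ^ 1 := by rw [Nat.card_zpowers, T.invx]; norm_num
      exact IsPGroup.of_card this
    refine hQ2.to_sup_of_normal_left' h4 ?_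
    rw [zpowers_le]
    apply mem_normalizer_iff_cj.mpr
    exact cj_of_comm fun q hq => mem_c (hQx q hq)
  have hPle : P ≤ cmod (centralizer ({a} : Set G)) hrX := by
    rw [hP]
    refine sup_le (fun q hq => ?_) ?_
    · exact (mem_cmod hrX).mpr ⟨mem_c (hQa q hq), T.comp.core_le_core ((hQL q hq).2 r hr)⟩
    · rw [zpowers_le]
      exact (mem_cmod hrX).mpr ⟨mem_c T.comm.symm, T.comp.core_le_core h3⟩
  obtain ⟨w, hw, hww, hwr, hwP⟩ := _root_.Cfsg.Agent.UGT.TMCMax.exists_lift T.comp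
    (fun p hp => ((mem_cmod hrX).mp (hPle hp)).1) hP2 hr (T.comp.core_le_core h1)
    (fun p hp => ((mem_cmod hrX).mp (hPle hp)).2)
  have hfw : Fixes (x * w) L := by
    have h4 : x * w = (x * r⁻¹) * ((r * r) * (r⁻¹ * w)) := by group
    rw [h4]
    refine fixes_mul hf (fixes_mul (T.comp.fixes_of_core (T.comp.core_le_core h1))
      (T.comp.fixes_of_core hwr))
  refine ⟨w, hw, hww, ?_, fun q hq => hwP q (hP ▸ mem_sup_left hq), hwP x hxP, hfw⟩
  rintro rfl
  rw [mul_one] at hfw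
  exact T.not_fixes hfw

omit [Finite G] in
/-- conjugates of the family -/
theorem FF.cj' {M0 : ℕ} {x t : G} {N : Subgroup G} (h : FF M0 x t N) (g : G) :
    FF M0 (g * x * g⁻¹) (g * t * g⁻¹) (IntrinsicBasic.cj g N) := by
  refine ⟨h.tri.cj g, ?_, isL2_congr h.ty (cjQuot g N), ?_⟩
  · obtain ⟨r, hr, hf⟩ := h.inn
    refine ⟨g * r * g⁻¹, conj_mem_cj hr, ?_⟩
    have h2 := hf.cj g
    have h3 : (g * x * g⁻¹) * (g * r * g⁻¹)⁻¹ = g * (x * r⁻¹) * g⁻¹ := by group
    rw [h3]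
    exact h2
  · rw [← h.card]
    exact (Nat.card_congr (cjQuot g N).toEquiv).symm

/-- conjugates under `C(x)` -/
theorem FF.cj {M0 : ℕ} {x t : G} {N : Subgroup G} (h : FF M0 x t N) {g : G} (hg : g * x = x * g) :
    FF M0 x (g * t * g⁻¹) (IntrinsicBasic.cj g N) := by
  have h1 := h.cj' g
  rwa [conj_of_comm hg] at h1

/-- If `(x, a, L)` is a triple of type `PSL₂(q)` and `l ∈ L` is an involution commuting with `x` such that `x l`
centralises a perfect subgroup of `L` not contained in `O(L)`, then `x l` centralises `L / O(L)`. -/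
theorem perf_ok (T : IsTriple x a L) (hty : IsL2 (Bar L)) {l : G} (hl : l ∈ L) (hll : l * l = 1)
    (hxl : x * l = l * x) {J : Subgroup G} (hJL : J ≤ L) (hJ : ⁅J, J⁆ = J) (hJc : ¬ J ≤ core L)
    (hcomm : ∀ j ∈ J, (x * l) * j = j * (x * l)) : Fixes (x * l) L := by
  obtain ⟨F, _, _, -, ⟨R⟩⟩ := exists_rep hty
  have hxx := Triple.sq_of_order T.invx
  have hxL := T.x_mem
  have hlL : l ∈ normalizer (L : Set G) := le_normalizer hl
  have hxlL : x * l ∈ normalizer (L : Set G) := mul_mem hxL hlL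
  have hxl2 : (x * l) * (x * l) = 1 := by
    calc (x * l) * (x * l) = x * (l * x) * l := by group
      _ = (x * x) * (l * l) := by rw [← hxl]; group
      _ = 1 := by rw [hxx, hll, one_mul]
  rw [← act_eq_one_iff hxlL]
  by_contra hne
  have hP : act L ⟨x * l, hxlL⟩ ∈ R.PGL := by
    have h1 : (⟨x * l, hxlL⟩ : ↥(normalizer (L : Set G))) = ⟨x, hxL⟩ * ⟨l, hlL⟩ := rfl
    rw [h1, map_mul]
    refine mul_mem (WBTriple.mem_PGL T R) ?_
    have h2 : act L ⟨l, hlL⟩ = MulAut.conj (QuotientGroup.mk ⟨l, hl⟩) := act_of_mem hl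
    rw [h2]
    exact R.conj_mem_PGL _
  obtain ⟨P, hPdef⟩ : ∃ P, P = ((J.subgroupOf L).map (QuotientGroup.mk' (oddCore ↥L))).map
    (MulAut.conj : Bar L →* MulAut (Bar L)) := ⟨_, rfl⟩
  have hperf : ⁅P, P⁆ = P := by
    have h1 : ⁅J.subgroupOf L, J.subgroupOf L⁆ = J.subgroupOf L := by
      apply map_injective (subtype_injective L)
      rw [map_commutator, subgroupOf_map_subtype, inf_of_le_left hJL, hJ]
    rw [hPdef, ← map_commutator, ← map_commutator, h1]
  have hbot := WBAut.perfect_comm R hP hne (by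
    rw [← map_mul]
    have : (⟨x * l, hxlL⟩ : ↥(normalizer (L : Set G))) * ⟨x * l, hxlL⟩ = 1 := Subtype.ext hxl2
    rw [this, map_one]) hperf (by
    intro y hy
    rw [hPdef] at hy
    obtain ⟨_, ⟨⟨j, hj⟩, hjJ, rfl⟩, rfl⟩ := hy
    have h2 : act L ⟨j, le_normalizer hj⟩ = MulAut.conj (QuotientGroup.mk ⟨j, hj⟩) := act_of_mem hj
    change MulAut.conj (QuotientGroup.mk ⟨j, hj⟩ : Bar L) * _ = _ * MulAut.conj (QuotientGroup.mk ⟨j, hj⟩ : Bar L)
    rw [← h2, ← map_mul, ← map_mul]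
    congr 1
    exact Subtype.ext (hcomm j hjJ).symm)
  apply hJc
  intro j hj
  have h3 : MulAut.conj (QuotientGroup.mk' (oddCore ↥L) ⟨j, hJL hj⟩) ∈ P := by
    rw [hPdef]
    exact ⟨_, ⟨⟨j, hJL hj⟩, hj, rfl⟩, rfl⟩
  rw [hbot, mem_bot] at h3
  have h4 : QuotientGroup.mk' (oddCore ↥L) ⟨j, hJL hj⟩ = 1 := R.conj_injective (by rw [h3, map_one])
  exact (mem_core_iff (hJL hj)).mpr ((QuotientGroup.eq_one_iff _).mp h4)

/-- the family is closed under pump-up -/
theorem fam (hU : UpOk G) {M0 : ℕ}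
    (hmax : ∀ (x a : G) (L : Subgroup G), IsTriple x a L → IsInner x L → IsL2 (Bar L) → Nat.card (Bar L) ≤ M0)
    (x : G) : Fam (centralizer ({x} : Set G)) (FF M0 x) where
  mem h := mem_c h.tri.comm
  sq h := Triple.sq_of_order h.tri.inva
  comp h := h.tri.comp
  conj h g hg := h.cj (comm_c hg)
  pump := by
    intro t N hN y hyx hyy hy1 hyt hf
    have hy : orderOf y = 2 := orderOf_eq_prime (by rw [pow_two, hyy]) hy1
    have hyx' : y * x = x * y := comm_c hyx
    have htt := Triple.sq_of_order hN.tri.inva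
    have hxx := Triple.sq_of_order hN.tri.invx
    have hy2 : IsPGroup 2 ↥(zpowers y) := by
      have : Nat.card (zpowers y) = 2 ^ 1 := by rw [Nat.card_zpowers, hy]; norm_num
      exact IsPGroup.of_card this
    -- the involution `l`
    have hzy : ∀ {P : G → Prop}, P 1 → P y → ∀ q ∈ zpowers y, P q := by
      intro P h1 h2 q hq
      obtain ⟨n, rfl⟩ := mem_zpowers_iff.mp hq
      rcases Int.even_or_odd n with ⟨k, rfl⟩ | ⟨k, rfl⟩
      · have : y ^ (k + k) = 1 := by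
          rw [← two_mul, zpow_mul, zpow_two, hyy, one_zpow]
        rwa [this]
      · have : y ^ (2 * k + 1) = y := by
          rw [zpow_add, zpow_mul, zpow_two, hyy, one_zpow, one_mul, zpow_one]
        rwa [this]
    obtain ⟨l, hl, hll, hl1, hlq, hxl, hfl⟩ := exists_l hN.tri hN.ctr hN.inn hy2
      (hzy (P := fun q => q * t = t * q) (by rw [one_mul, mul_one]) hyt)
      (hzy (P := fun q => q * x = x * q) (by rw [one_mul, mul_one]) hyx')
      (hzy (P := fun q => Fixes q N) (fixes_one N) hf)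
    have hly : l * y = y * l := (hlq y (mem_zpowers y)).symm
    have hlt : l * t = t * l := comm_c (hN.tri.comp.le hl)
    obtain ⟨hc, hs⟩ := isComp_cen hN.tri.comp (mem_c hyt) hyy hf
    obtain ⟨C, hC⟩ : ∃ C, C = cen N y := ⟨_, rfl⟩
    have hlC : l ∈ C := hC ▸ mem_cen_of_sq hl hly hll
    have hxly : (x * l) * y = y * (x * l) := by
      rw [mul_assoc, hly, ← mul_assoc, ← hyx', mul_assoc]
    have hxlt : (x * l) * t = t * (x * l) := by
      rw [mul_assoc, hlt, ← mul_assoc, ← hN.tri.comm, mul_assoc]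
    have hxl2 : (x * l) * (x * l) = 1 := by
      calc (x * l) * (x * l) = x * (l * x) * l := by group
        _ = (x * x) * (l * l) := by rw [← hxl]; group
        _ = 1 := by rw [hxx, hll, one_mul]
    have hflC : Fixes (x * l) C := by
      rw [hC]
      exact (fixes_iff_of_sup hs (mem_normalizer_cen hfl.1 hxly) hfl.1).mpr hfl
    have hZcard : Nat.card (Bar C) = M0 := by
      obtain ⟨e, -⟩ := exists_quotEquiv hs
      rw [← hN.card, hC]; exact Nat.card_congr e.toEquiv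
    obtain ⟨J, hJ, hor⟩ := hN.tri.pump hy hyt hyx' hf
    rw [← hC] at hc hs hor
    rcases hor with ⟨-, hle⟩ | ⟨hne, heq⟩
    · left
      -- `x l` centralises a perfect subgroup
      have hxlH : (x * l) ∈ centralizer ({t} : Set G) ⊓ centralizer ({y} : Set G) :=
        ⟨mem_c hxlt, mem_c hxly⟩
      obtain ⟨hc2, hs2⟩ := isComp_cen hc hxlH hxl2 hflC
      have hJty : IsL2 (Bar J) := hU _ _ _ hN.tri hN.inn hN.ty y J hJ (by
        rw [hN.card, ← hZcard]; exact card_bar_dvd (hle))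
      have hfJ : Fixes (x * l) J := by
        refine perf_ok hJ hJty (hle hlC) hll hxl (J := cen C (x * l)) ((cen_le _ _).trans hle)
          hc2.perfect (hc2.not_odd (odd_card_core J)) fun j hj => ?_
        exact (comm_of_mem_cen hj).symm
      have hin : IsInner x J := by
        refine ⟨l, hle hlC, ?_⟩
        rwa [inv_of_sq hll]
      have h1 := sup_of_card hle (by
        change Nat.card (Bar J) ≤ Nat.card (Bar C)
        rw [hZcard]; exact hmax x y J hJ hin hJty)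
      refine ⟨J, ⟨hJ, hin, hJty, ?_⟩, hC ▸ h1⟩
      obtain ⟨e', -⟩ := exists_quotEquiv h1
      rw [← hZcard]; exact (Nat.card_congr e'.toEquiv).symm
    · right
      have htC : t ∈ centralizer ({y} : Set G) := mem_c hyt.symm
      obtain ⟨h1, h3, -, h4, f, hf1, -, -, hf4⟩ := exists_diag hJ.comp htC htt hne
      -- `x l` fixes `J`
      have hxJ := hJ.x_mem
      have hxJt : x ∈ normalizer (IntrinsicBasic.cj t J : Set G) := by
        rw [mem_normalizer_iff_cj] at hxJ ⊢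
        rw [← cj_mul, ← hN.tri.comm, cj_mul, hxJ]
      have hlX : l ∈ centralizer ({y} : Set G) := mem_c hly
      have hl' : l ∈ diag (centralizer ({y} : Set G)) J t := heq ▸ hlC
      obtain ⟨k, hk, hlk⟩ := h3 l hl'
      have hlk' : Fixes (k⁻¹ * l) J := fixes_inv_mul hJ.comp htC hne hk hlX hlk
      have hlJ : l ∈ normalizer (J : Set G) := by
        have h5 := mul_mem (le_normalizer (H := J) hk) hlk'.1
        rwa [mul_inv_cancel_left] at h5
      have hlJt : l ∈ normalizer (IntrinsicBasic.cj t J : Set G) := by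
        rw [mem_normalizer_iff_cj] at hlJ ⊢
        rw [← cj_mul, hlt, cj_mul, hlJ]
      have hfJ : Fixes (x * l) J := by
        refine fixes_of_comm_diag hJ.comp htC htt hne (mem_c hxly) (mul_mem hxJ hlJ)
          (mul_mem hxJt hlJt) fun m hm => ?_
        have h5 := hflC.2 m (heq ▸ hm)
        rw [heq, h4] at h5
        exact h5.2
      have hin : IsInner x J := by
        refine ⟨k, hk, ?_⟩
        have h5 := fixes_mul hfJ (fixes_conj hlk' (le_normalizer (H := J) hk))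
        have h6 : x * k⁻¹ = (x * l) * (k * (k⁻¹ * l) * k⁻¹) := by
          calc x * k⁻¹ = x * (l * l) * k⁻¹ := by rw [hll, mul_one]
            _ = _ := by group
        rw [h6]
        exact h5
      have hJty : IsL2 (Bar J) := hU _ _ _ hN.tri hN.inn hN.ty y J hJ (by
        rw [hN.card, ← hZcard, heq]; exact Subgroup.card_dvd_of_surjective f hf1)
      have hcardJ : Nat.card (Bar J) = M0 := by
        apply le_antisymm (hmax x y J hJ hin hJty)
        rw [← hZcard, heq]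
        exact Nat.card_le_card_of_surjective f hf1
      have hFJ : FF M0 x y J := ⟨hJ, hin, hJty, hcardJ⟩
      refine ⟨J, hFJ, ?_, hne, hC ▸ heq⟩
      have h5 := hFJ.cj (g := t) hN.tri.comm
      rwa [conj_of_comm hyt.symm] at h5

end Cfsg.Agent.UGT.L2i
end

-- part: UGT/L2i/Tor
section
/-!
# P0 (SETUP): lifting involutions; the elements `d`, `t'`; `q ≥ 11`

* `lift_inv`: involutions of `C_{L/O(L)}(l)` lift to involutions commuting with `Q⟨x, l⟩`.
* `exists_dt`: `d ∈ O(C(x))` and an involution `t' ∈ L`, both commuting with `Q`, with `[d, t'] ∉ O(L)`.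
* `eleven`: inner triples of type `PSL₂(q)` have `q ≥ 11`; `upOk`: `UpOk G` for the types `PSL₂(q)`, `A₇`.
-/

set_option autoImplicit false

open Cfsg Subgroup
open Cfsg.Agent.SignalizersComponents Cfsg.Agent.Lib
open Cfsg.Agent.SignalizersComponents.IntrinsicBasic
open Cfsg.Agent.SignalizersComponents.IntrinsicIntr
open Cfsg.Agent.SignalizersComponents.PLayerAut
open Cfsg.Agent.Intrinsic.Basic Cfsg.Agent.Intrinsic.Cen Cfsg.Agent.Intrinsic.Diag
open Cfsg.Agent.McLLyComp.Act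
open Cfsg.Agent.UGT.TMCBase Cfsg.Agent.UGT.TMCSyl Cfsg.Agent.UGT.TMCMax Cfsg.Agent.UGT.TMCBad
open Cfsg.Agent.UGT.Triple (IsTriple)
open Cfsg.Agent.UGT.Iface (Bar IsInner IsL2 IsAlt)
open Cfsg.Agent.UGT.L2Inner
open scoped commutatorElement

universe u

namespace Cfsg.Agent.UGT.L2i

variable {G : Type u} [Group G]

theorem isPGroup_zp {x : G} (hx : x * x = 1) : IsPGroup 2 ↥(zpowers x) := by
  intro a
  obtain ⟨n, hn⟩ := mem_zpowers_iff.mp a.2
  refine ⟨1, Subtype.ext ?_⟩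
  change (a : G) ^ 2 ^ 1 = 1
  rw [pow_one, pow_two, ← hn, ← zpow_add, ← two_mul, zpow_mul, zpow_two, hx, one_zpow]

/-- `l` = the inner part of `x`, `Q` a 2-group fixing `L`, everything commuting -/
structure Lx (x a l : G) (L Q : Subgroup G) : Prop where
  tri : IsTriple x a L
  ty : IsL2 (Bar L)
  mem : l ∈ L
  ll : l * l = 1
  l1 : l ≠ 1
  xl : x * l = l * x
  fix : Fixes (x * l) L
  two : IsPGroup 2 ↥Q
  Qa : ∀ q ∈ Q, q * a = a * q
  Qx : ∀ q ∈ Q, q * x = x * q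
  Ql : ∀ q ∈ Q, q * l = l * q
  QL : ∀ q ∈ Q, Fixes q L

variable [Finite G] {x a l : G} {L Q : Subgroup G}

theorem exists_Lx (T : IsTriple x a L) (hty : IsL2 (Bar L)) (hin : IsInner x L) (hQ2 : IsPGroup 2 ↥Q)
    (hQa : ∀ q ∈ Q, q * a = a * q) (hQx : ∀ q ∈ Q, q * x = x * q) (hQL : ∀ q ∈ Q, Fixes q L) :
    ∃ l, Lx x a l L Q := by
  obtain ⟨l, hl, hll, hl1, hlq, hxl, hfl⟩ := exists_l T (center_of_L2 hty) hin hQ2 hQa hQx hQL
  exact ⟨l, T, hty, hl, hll, hl1, hxl, hfl, hQ2, hQa, hQx, hlq, hQL⟩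

/-- **Lifting of involutions of `C_{L / O(L)}(l)`.** -/
theorem Lx.lift_inv (h : Lx x a l L Q) {v₀ : G} (hv₀ : v₀ ∈ L) (hv2 : v₀ * v₀ ∈ core L)
    (hlv0 : ⁅l, v₀⁆ ∈ core L) : ∃ (v : G) (hv : v ∈ L), v * v = 1 ∧
      (QuotientGroup.mk ⟨v₀, hv₀⟩ : Bar L) = QuotientGroup.mk ⟨v, hv⟩ ∧
      (∀ q ∈ Q, q * v = v * q) ∧ x * v = v * x ∧ l * v = v * l := by
  have T := h.tri
  have hv₀X : v₀ ∈ centralizer ({a} : Set G) := T.comp.le hv₀
  obtain ⟨P, hP⟩ : ∃ P, P = (Q ⊔ zpowers x) ⊔ zpowers l := ⟨_, rfl⟩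
  have hQP : Q ≤ P := hP ▸ (le_sup_left.trans le_sup_left)
  have hxP : x ∈ P := hP ▸ mem_sup_left (mem_sup_right (mem_zpowers x))
  have hlP : l ∈ P := hP ▸ mem_sup_right (mem_zpowers l)
  have hP2 : IsPGroup 2 ↥P := by
    rw [hP]
    have h4 : IsPGroup 2 ↥(Q ⊔ zpowers x) := by
      refine h.two.to_sup_of_normal_left' (isPGroup_zp (Triple.sq_of_order T.invx)) ?_
      rw [zpowers_le]
      apply mem_normalizer_iff_cj.mpr
      exact cj_of_comm fun q hq => mem_c (h.Qx q hq)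
    refine h4.to_sup_of_normal_left' (isPGroup_zp h.ll) ?_
    rw [zpowers_le]
    apply mem_normalizer_iff_cj.mpr
    refine cj_of_comm (sup_le (fun q hq => mem_c (h.Ql q hq)) ?_)
    rw [zpowers_le]
    exact mem_c h.xl
  have hPle : P ≤ cmod (centralizer ({a} : Set G)) hv₀X := by
    have hlm : l ∈ cmod (centralizer ({a} : Set G)) hv₀X :=
      (mem_cmod hv₀X).mpr ⟨T.comp.le h.mem, T.comp.core_le_core hlv0⟩
    rw [hP]
    refine sup_le (sup_le (fun q hq => ?_) ?_) ?_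
    · exact (mem_cmod hv₀X).mpr ⟨mem_c (h.Qa q hq), T.comp.core_le_core ((h.QL q hq).2 v₀ hv₀)⟩
    · rw [zpowers_le]
      have h5 : x * l ∈ cmod (centralizer ({a} : Set G)) hv₀X :=
        (mem_cmod hv₀X).mpr ⟨mul_mem (mem_c T.comm.symm) (T.comp.le h.mem),
          T.comp.core_le_core (h.fix.2 v₀ hv₀)⟩
      have h6 := mul_mem h5 (inv_mem hlm)
      rwa [mul_inv_cancel_right] at h6
    · rw [zpowers_le]; exact hlm
  obtain ⟨v, hv, hvv, hvr, hvP⟩ := _root_.Cfsg.Agent.UGT.TMCMax.exists_lift T.comp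
    (fun p hp => ((mem_cmod hv₀X).mp (hPle hp)).1) hP2 hv₀ (T.comp.core_le_core hv2)
    (fun p hp => ((mem_cmod hv₀X).mp (hPle hp)).2)
  refine ⟨v, hv, hvv, ?_, fun q hq => hvP q (hQP hq), hvP x hxP, hvP l hlP⟩
  refine (mk_eq_iff hv₀ hv).mpr ?_
  rw [T.comp.core_eq]
  exact ⟨L.mul_mem (L.inv_mem hv₀) hv, hvr⟩

/-- lifting in terms of the quotient -/
theorem Lx.lift_bar (h : Lx x a l L Q) {v : Bar L} (hv : v * v = 1)
    (hlv : (QuotientGroup.mk ⟨l, h.mem⟩ : Bar L) * v = v * QuotientGroup.mk ⟨l, h.mem⟩) :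
    ∃ (w : G) (hw : w ∈ L), w * w = 1 ∧ (QuotientGroup.mk ⟨w, hw⟩ : Bar L) = v ∧
      (∀ q ∈ Q, q * w = w * q) ∧ x * w = w * x ∧ l * w = w * l := by
  obtain ⟨⟨v₀, hv₀⟩, rfl⟩ := QuotientGroup.mk_surjective v
  have h1 : v₀ * v₀ ∈ core L :=
    (mem_core_iff (L.mul_mem hv₀ hv₀)).mpr ((QuotientGroup.eq_one_iff _).mp hv)
  have h2 : ⁅l, v₀⁆ ∈ core L := by
    refine (mem_core_iff (commutator_mem' h.mem hv₀)).mpr ?_
    refine (QuotientGroup.eq_one_iff _).mp ?_
    have h3 : (QuotientGroup.mk' (oddCore ↥L)) ⁅(⟨l, h.mem⟩ : ↥L), ⟨v₀, hv₀⟩⁆ = 1 := by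
      rw [map_commutatorElement, commutatorElement_eq_one_iff_mul_comm]
      exact hlv
    exact h3
  obtain ⟨w, hw, h3, h4, h5⟩ := h.lift_inv hv₀ h1 h2
  exact ⟨w, hw, h3, h4.symm, h5⟩

omit [Finite G] in
theorem Lx.bar_ll (h : Lx x a l L Q) :
    (QuotientGroup.mk ⟨l, h.mem⟩ : Bar L) * QuotientGroup.mk ⟨l, h.mem⟩ = 1 := by
  have : (⟨l, h.mem⟩ : ↥L) * ⟨l, h.mem⟩ = 1 := Subtype.ext h.ll
  exact congrArg (QuotientGroup.mk' (oddCore ↥L)) this

theorem Lx.bar_l1 (h : Lx x a l L Q) : (QuotientGroup.mk ⟨l, h.mem⟩ : Bar L) ≠ 1 := by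
  intro h1
  exact h.l1 (eq_one_of_mem_core_sq ((mem_core_iff h.mem).mpr ((QuotientGroup.eq_one_iff _).mp h1)) h.ll)

/-- `x` acts on `L / O(L)` as conjugation by `l` -/
theorem Lx.act_x (h : Lx x a l L Q) :
    act L ⟨x, h.tri.x_mem⟩ = MulAut.conj (QuotientGroup.mk ⟨l, h.mem⟩ : Bar L) := by
  have hlL : l ∈ normalizer (L : Set G) := le_normalizer h.mem
  have h1 : act L ⟨x * l, mul_mem h.tri.x_mem hlL⟩ = 1 := (act_eq_one_iff _).mpr h.fix
  have h2 : (⟨x * l, mul_mem h.tri.x_mem hlL⟩ : ↥(normalizer (L : Set G))) = ⟨x, h.tri.x_mem⟩ * ⟨l, hlL⟩ := rfl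
  have h3 : act L ⟨l, hlL⟩ = MulAut.conj (QuotientGroup.mk ⟨l, h.mem⟩ : Bar L) := act_of_mem h.mem
  rw [h2, map_mul, h3] at h1
  rw [eq_inv_of_mul_eq_one_left h1, ← map_inv]
  congr 1
  exact inv_eq_of_mul_eq_one_left h.bar_ll

/-- `d ∈ O(C(x)) ∩ C(a) ∩ C(Q)` not fixing `L` -/
theorem Lx.exists_d (h : Lx x a l L Q) : ∃ d ∈ core (centralizer ({x} : Set G)),
    d ∈ centralizer ({a} : Set G) ∧ (∀ q ∈ Q, q * d = d * q) ∧ ¬ Fixes d L := by
  have hp2 : Fact (Nat.Prime 2) := ⟨Nat.prime_two⟩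
  have T := h.tri
  obtain ⟨d, hd, hda, hf⟩ := T.bad
  obtain ⟨F, hF⟩ : ∃ F : Subgroup G, ∀ e, e ∈ F ↔ e ∈ core (centralizer ({x} : Set G)) ∧
      e ∈ centralizer ({a} : Set G) ∧ Fixes e L := by
    refine ⟨{ carrier := {e | e ∈ core (centralizer ({x} : Set G)) ∧
        e ∈ centralizer ({a} : Set G) ∧ Fixes e L}
              mul_mem' := ?_
              one_mem' := ?_
              inv_mem' := ?_ }, fun e => Iff.rfl⟩
    · rintro e e' ⟨h1, h2, h3⟩ ⟨h1', h2', h3'⟩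
      exact ⟨mul_mem h1 h1', mul_mem h2 h2', fixes_mul h3 h3'⟩
    · exact ⟨one_mem _, one_mem _, fixes_one L⟩
    · rintro e ⟨h1, h2, h3⟩
      exact ⟨inv_mem h1, inv_mem h2, fixes_inv h3⟩
  have hFodd : Odd (Nat.card F) :=
    Odd.of_dvd_nat (odd_card_core (centralizer ({x} : Set G)))
      (card_dvd_of_le fun e he => ((hF e).mp he).1)
  obtain ⟨X, hX⟩ : ∃ X : Subgroup G, X = (centralizer ({a} : Set G) ⊓ centralizer ({x} : Set G)) ⊓
    normalizer (L : Set G) := ⟨_, rfl⟩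
  have hmemX : ∀ {g : G}, g ∈ X ↔ (g ∈ centralizer ({a} : Set G) ∧ g ∈ centralizer ({x} : Set G)) ∧
      g ∈ normalizer (L : Set G) := by
    intro g; rw [hX, mem_inf, mem_inf]
  have hFX : ∀ g ∈ X, ∀ e ∈ F, g * e * g⁻¹ ∈ F := by
    intro g hg e he
    obtain ⟨⟨h1, h2⟩, h3⟩ := hmemX.mp hg
    obtain ⟨h4, h5, h6⟩ := (hF e).mp he
    exact (hF _).mpr ⟨Triple.conj_core h2 h4, mul_mem (mul_mem h1 h5) (inv_mem h1), fixes_conj h6 h3⟩
  have hn : (F.subgroupOf X).Normal := ⟨fun e he g => hFX g g.2 e he⟩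
  have hdX : d ∈ X := hmemX.mpr ⟨⟨hda, core_le _ hd⟩, T.mem_normalizer_of_core hd hda⟩
  have hQX : Q ≤ X := fun q hq => hmemX.mpr ⟨⟨mem_c (h.Qa q hq), mem_c (h.Qx q hq)⟩, (h.QL q hq).1⟩
  have hQ' : IsPGroup 2 ↥(Q.subgroupOf X) := h.two.comap_of_injective _ X.subtype_injective
  have hNp' : ¬ 2 ∣ Nat.card (F.subgroupOf X) := by
    intro h1
    have h2 : 2 ∣ Nat.card F := h1.trans (card_comap_dvd_of_injective _ _ (subtype_injective _))
    exact (Nat.not_even_iff_odd.mpr hFodd) (even_iff_two_dvd.mpr h2)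
  obtain ⟨g, hg1, hg2⟩ := CoreOfCentralizer.exists_centralizing_of_quotient (Q.subgroupOf X) hQ'
    (F.subgroupOf X) hNp' (QuotientGroup.mk' (F.subgroupOf X) ⟨d, hdX⟩) (by
      rintro ⟨p, hpX⟩ hp
      rw [← map_mul, ← map_mul]
      refine (QuotientGroup.eq.mpr ?_)
      change ((⟨p, hpX⟩ * ⟨d, hdX⟩ : ↥X)⁻¹ * (⟨d, hdX⟩ * ⟨p, hpX⟩) : ↥X) ∈ F.subgroupOf X
      change (p * d)⁻¹ * (d * p) ∈ F
      have hpd : (p * d)⁻¹ * (d * p) = d⁻¹ * (p⁻¹ * d * p) := by group
      have hpL := h.QL p hp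
      have hdn := T.mem_normalizer_of_core hd hda
      have hpi : p⁻¹ ∈ X := inv_mem hpX
      refine (hF _).mpr ⟨?_, ?_, ?_⟩
      · rw [hpd]
        refine mul_mem (inv_mem hd) ?_
        have := Triple.conj_core (hmemX.mp hpi).1.2 hd
        rwa [inv_inv] at this
      · exact mul_mem (inv_mem (mul_mem (hmemX.mp hpX).1.1 hda)) (mul_mem hda (hmemX.mp hpX).1.1)
      · have e1 : (p * d)⁻¹ * (d * p) = d⁻¹ * p⁻¹ * d⁻¹⁻¹ * p := by group
        rw [e1]
        exact fixes_mul (fixes_conj (fixes_inv hpL) (inv_mem hdn)) hpL)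
  have hg3 : d⁻¹ * (g : G) ∈ F := by
    have h1 : (⟨d, hdX⟩ : ↥X)⁻¹ * g ∈ F.subgroupOf X := QuotientGroup.eq.mp hg2.symm
    exact h1
  obtain ⟨h1, h2, h3⟩ := (hF _).mp hg3
  have hgd : (g : G) = d * (d⁻¹ * g) := by group
  refine ⟨g, ?_, ?_, ?_, ?_⟩
  · rw [hgd]; exact mul_mem hd h1
  · rw [hgd]; exact mul_mem hda h2
  · intro q hq
    exact congrArg Subtype.val (hg1 ⟨q, hQX hq⟩ hq)
  · intro h4
    apply hf
    have h5 : d = (g : G) * (d⁻¹ * g)⁻¹ := by group
    rw [h5]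
    exact fixes_mul h4 (fixes_inv h3)

/-- **The elements `d`, `t'`.** -/
theorem Lx.exists_dt (h : Lx x a l L Q) : ∃ d ∈ core (centralizer ({x} : Set G)),
    d ∈ centralizer ({a} : Set G) ∧ (∀ q ∈ Q, q * d = d * q) ∧ ⁅d, l⁆ ∈ core L ∧
    ∃ t' ∈ L, t' * t' = 1 ∧ t' ≠ 1 ∧ t' ≠ l ∧ l * t' = t' * l ∧ (∀ q ∈ Q, q * t' = t' * q) ∧
      x * t' = t' * x ∧ d * t' * d⁻¹ * t'⁻¹ ∉ core L := by
  obtain ⟨d, hd, hda, hdQ, hdf⟩ := h.exists_d
  have T := h.tri
  have hdL := T.mem_normalizer_of_core hd hda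
  obtain ⟨F, _, _, h5, ⟨R⟩⟩ := exists_rep h.ty
  have hne : act L ⟨d, hdL⟩ ≠ 1 := fun h1 => hdf ((act_eq_one_iff hdL).mp h1)
  have hodd : Odd (orderOf (act L ⟨d, hdL⟩)) := by
    have h3 : orderOf (act L ⟨d, hdL⟩) ∣ orderOf (⟨d, hdL⟩ : ↥(normalizer (L : Set G))) :=
      orderOf_map_dvd _ _
    rw [Subgroup.orderOf_mk] at h3
    refine Odd.of_dvd_nat ?_ h3
    have h4 := _root_.orderOf_dvd_natCard (⟨d, hd⟩ : ↥(core (centralizer ({x} : Set G))))
    rw [Subgroup.orderOf_mk] at h4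
    exact Odd.of_dvd_nat (odd_card_core _) h4
  have hfix : act L ⟨d, hdL⟩ (QuotientGroup.mk ⟨l, h.mem⟩) = QuotientGroup.mk ⟨l, h.mem⟩ := by
    apply R.conj_injective
    have h6 : (⟨d, hdL⟩ : ↥(normalizer (L : Set G))) * ⟨x, T.x_mem⟩ = ⟨x, T.x_mem⟩ * ⟨d, hdL⟩ :=
      Subtype.ext (comm_c (core_le _ hd))
    have h7 := congrArg (act L) h6
    rw [map_mul, map_mul, h.act_x] at h7
    have h8 : MulAut.conj (act L ⟨d, hdL⟩ (QuotientGroup.mk ⟨l, h.mem⟩)) =
        act L ⟨d, hdL⟩ * MulAut.conj (QuotientGroup.mk ⟨l, h.mem⟩ : Bar L) * (act L ⟨d, hdL⟩)⁻¹ := by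
      ext y
      simp only [MulAut.conj_apply, _root_.MulAut.mul_apply, _root_.MulAut.inv_apply, _root_.map_mul, _root_.MulEquiv.apply_symm_apply, _root_.map_inv]
    rw [h8, h7, mul_inv_cancel_right]
  obtain ⟨t, htt, htl, htl', ht1, hdt⟩ := rep_refl R h.bar_ll h.bar_l1 hodd hne hfix
  obtain ⟨w, hw, hww, hwt, hwQ, hwx, hwl⟩ := h.lift_bar htt htl.symm
  refine ⟨d, hd, hda, hdQ, ?_, w, hw, hww, ?_, ?_, hwl, hwQ, hwx, ?_⟩
  · have h6 : (d * l * d⁻¹) * l⁻¹ ∈ core L := by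
      rw [act_mk hdL h.mem] at hfix
      have h7 := (mk_eq_iff h.mem (conj_mem hdL h.mem)).mp hfix.symm
      have h8 : (d * l * d⁻¹) * l⁻¹ = l * (l⁻¹ * (d * l * d⁻¹)) * l⁻¹ := by group
      rw [h8]
      exact conj_mem_core (le_normalizer h.mem) h7
    rw [commutatorElement_def]
    exact h6
  · rintro rfl
    apply ht1
    rw [← hwt]
    exact congrArg (QuotientGroup.mk' (oddCore ↥L)) (Subtype.ext rfl : (⟨1, hw⟩ : ↥L) = 1)
  · rintro rfl
    exact htl' hwt.symm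
  · intro h6
    apply hdt
    rw [← hwt, act_mk hdL hw]
    refine (mk_eq_iff _ _).mpr ?_
    have h7 : (d * w * d⁻¹)⁻¹ * w = w⁻¹ * (d * w * d⁻¹ * w⁻¹)⁻¹ * w⁻¹⁻¹ := by group
    rw [h7]
    exact conj_mem_core (inv_mem (le_normalizer hw)) (inv_mem h6)

/-- inner triples of type `PSL₂(q)` have `q ≥ 11` -/
theorem Lx.eleven (h : Lx x a l L Q) {F : Type*} [Field F] [Finite F]
    (R : Cfsg.Agent.GH.L2Aut.Rep F (Bar L)) : 11 ≤ Nat.card F := by
  obtain ⟨d, hd, hda, -, hdl, t', ht', htt, ht1, htl, hlt, -, hxt, hm⟩ := h.exists_dt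
  have T := h.tri
  have hdL := T.mem_normalizer_of_core hd hda
  have hmL : d * t' * d⁻¹ * t'⁻¹ ∈ L := L.mul_mem (conj_mem hdL ht') (L.inv_mem ht')
  have hmx : d * t' * d⁻¹ * t'⁻¹ ∈ core (centralizer ({x} : Set G)) := by
    have e : d * t' * d⁻¹ * t'⁻¹ = d * (t' * d⁻¹ * t'⁻¹) := by group
    rw [e]
    exact mul_mem hd (Triple.conj_core (mem_c hxt.symm) (inv_mem hd))
  refine rep_eleven R h.bar_ll h.bar_l1 (s := QuotientGroup.mk ⟨d * t' * d⁻¹ * t'⁻¹, hmL⟩) ?_ ?_ ?_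
  · -- it commutes with `l` modulo the core
    have h1 : (QuotientGroup.mk ⟨d * t' * d⁻¹ * t'⁻¹, hmL⟩ : Bar L) =
        act L ⟨d, hdL⟩ (QuotientGroup.mk ⟨t', ht'⟩) * (QuotientGroup.mk ⟨t', ht'⟩)⁻¹ := rfl
    have h2 : act L ⟨d, hdL⟩ (QuotientGroup.mk ⟨l, h.mem⟩) = QuotientGroup.mk ⟨l, h.mem⟩ := by
      rw [act_mk hdL h.mem]
      refine (mk_eq_iff _ _).mpr ?_
      have h7 : (d * l * d⁻¹)⁻¹ * l = l⁻¹ * ⁅d, l⁆⁻¹ * l⁻¹⁻¹ := by
        rw [commutatorElement_def]; group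
      rw [h7]
      exact conj_mem_core (inv_mem (le_normalizer h.mem)) (inv_mem hdl)
    have h3 : (QuotientGroup.mk ⟨t', ht'⟩ : Bar L) * QuotientGroup.mk ⟨l, h.mem⟩ =
        QuotientGroup.mk ⟨l, h.mem⟩ * QuotientGroup.mk ⟨t', ht'⟩ :=
      congrArg (QuotientGroup.mk' (oddCore ↥L)) (Subtype.ext hlt.symm :
        (⟨t', ht'⟩ : ↥L) * ⟨l, h.mem⟩ = ⟨l, h.mem⟩ * ⟨t', ht'⟩)
    have h4 : act L ⟨d, hdL⟩ (QuotientGroup.mk ⟨t', ht'⟩) * QuotientGroup.mk ⟨l, h.mem⟩ =
        QuotientGroup.mk ⟨l, h.mem⟩ * act L ⟨d, hdL⟩ (QuotientGroup.mk ⟨t', ht'⟩) := by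
      have h8 := congrArg (act L ⟨d, hdL⟩) h3
      rwa [map_mul, map_mul, h2] at h8
    rw [h1]
    have c1 : Commute (act L ⟨d, hdL⟩ (QuotientGroup.mk ⟨t', ht'⟩)) (QuotientGroup.mk ⟨l, h.mem⟩ : Bar L) := h4
    have c2 : Commute (QuotientGroup.mk ⟨t', ht'⟩ : Bar L)⁻¹ (QuotientGroup.mk ⟨l, h.mem⟩) :=
      (show Commute (QuotientGroup.mk ⟨t', ht'⟩ : Bar L) (QuotientGroup.mk ⟨l, h.mem⟩) from h3).inv_left
    exact c1.mul_left c2
  · intro h1
    exact hm ((mem_core_iff hmL).mpr ((QuotientGroup.eq_one_iff _).mp h1))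
  · have h3 : orderOf (QuotientGroup.mk' (oddCore ↥L) ⟨d * t' * d⁻¹ * t'⁻¹, hmL⟩) ∣
        orderOf (⟨d * t' * d⁻¹ * t'⁻¹, hmL⟩ : ↥L) := orderOf_map_dvd _ _
    rw [Subgroup.orderOf_mk] at h3
    refine Odd.of_dvd_nat ?_ h3
    have h4 := _root_.orderOf_dvd_natCard (⟨_, hmx⟩ : ↥(core (centralizer ({x} : Set G))))
    rw [Subgroup.orderOf_mk] at h4
    exact Odd.of_dvd_nat (odd_card_core _) h4

theorem card_alt7 : Nat.card (alternatingGroup (Fin 7)) = 2520 := by
  rw [nat_card_alternatingGroup, Nat.card_eq_fintype_card, Fintype.card_fin]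
  decide

/-- **`UpOk G` for the types `PSL₂(q)`, `A₇`** -/
theorem upOk (hT : ∀ (x a : G) (L : Subgroup G), IsTriple x a L → IsL2 (Bar L) ∨ IsAlt 7 (Bar L)) :
    UpOk G := by
  intro x t N T hin hty y J T' hdvd
  rcases hT x y J T' with h | ⟨⟨e⟩⟩
  · exact h
  exfalso
  obtain ⟨l, h⟩ := exists_Lx (Q := ⊥) T hty hin IsPGroup.of_bot
    (by intro q hq; rw [mem_bot.mp hq, one_mul, mul_one])
    (by intro q hq; rw [mem_bot.mp hq, one_mul, mul_one])
    (by intro q hq; rw [mem_bot.mp hq]; exact fixes_one N)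
  obtain ⟨F, _, _, -, ⟨R⟩⟩ := exists_rep hty
  have h11 := h.eleven R
  have hc := R.card_mul_two
  rw [Nat.card_congr e.toEquiv, card_alt7] at hdvd
  obtain ⟨q, hq⟩ : ∃ q, q = Nat.card F := ⟨_, rfl⟩
  have hodd := OddCyclic.PGLTorus.odd_card R
  have hle := Nat.le_of_dvd (by norm_num) hdvd
  obtain ⟨n, hn⟩ : ∃ n, n = Nat.card (Bar N) := ⟨_, rfl⟩
  rw [← hn] at hc hdvd hle
  rw [← hq] at hc h11 hodd
  have h17 : q ≤ 17 := by
    by_contra hlt
    push Not at hlt
    have h1 : 18 * (18 ^ 2 - 1) ≤ q * (q ^ 2 - 1) :=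
      Nat.mul_le_mul hlt (Nat.sub_le_sub_right (Nat.pow_le_pow_left hlt 2) 1)
    omega
  have h2 : q = 11 ∨ q = 13 ∨ q = 15 ∨ q = 17 := by (clear * - h11 hodd h17; omega)
  rcases h2 with rfl | rfl | rfl | rfl
  · have : n = 660 := by norm_num at hc; omega
    subst this; norm_num at hdvd
  · have : n = 1092 := by norm_num at hc; omega
    subst this; norm_num at hdvd
  · have : n = 1680 := by norm_num at hc; omega
    subst this; norm_num at hdvd
  · have : n = 2448 := by norm_num at hc; omega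
    subst this; norm_num at hdvd

end Cfsg.Agent.UGT.L2i
end

-- part: UGT/L2i/Wt
section
/-!
# P0 (SETUP), part 2: the weights

`TermX M0 x a L Q`: the inner triple `(x, a, L)` has maximal order `M0` and maximal weight
(rank, 2-part of the order) of `{g ∈ C(a) ∩ C(x) : g fixes L}`, `Q` is a Sylow 2-subgroup of this group, and all
pump-ups of `L` through the involutions of `Q` are trivial.
-/

set_option autoImplicit false

open Cfsg Subgroup
open Cfsg.Agent.SignalizersComponents Cfsg.Agent.Lib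
open Cfsg.Agent.SignalizersComponents.IntrinsicBasic
open Cfsg.Agent.SignalizersComponents.IntrinsicIntr
open Cfsg.Agent.SignalizersComponents.PLayerAut
open Cfsg.Agent.Intrinsic.Basic Cfsg.Agent.Intrinsic.Cen Cfsg.Agent.Intrinsic.Diag
open Cfsg.Agent.McLLyComp.Act
open Cfsg.Agent.UGT.TMCBase Cfsg.Agent.UGT.TMCSyl Cfsg.Agent.UGT.TMCMax Cfsg.Agent.UGT.TMCBad
open Cfsg.Agent.UGT.Triple (IsTriple)
open Cfsg.Agent.UGT.Iface (Bar IsInner IsL2)
open scoped commutatorElement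

universe u

namespace Cfsg.Agent.UGT.L2i

variable {G : Type u} [Group G]

/-- `{g ∈ C(t) ∩ C(x) : g fixes N}` -/
def FXx (x t : G) (N : Subgroup G) : Subgroup G := FX t N ⊓ centralizer ({x} : Set G)

theorem mem_FXx {x t : G} {N : Subgroup G} {g : G} :
    g ∈ FXx x t N ↔ (g * t = t * g ∧ Fixes g N) ∧ g * x = x * g := by
  rw [FXx, mem_inf, mem_FX, mem_centralizer_singleton_iff]

theorem fixes_self {t : G} {N : Subgroup G} (h : IsComp (centralizer ({t} : Set G)) N) : Fixes t N := by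
  have h1 : ∀ y ∈ N, t * y = y * t := fun y hy => (comm_c (h.le hy)).symm
  refine ⟨mem_normalizer_iff_cj.mpr (cj_of_comm h.le), fun y hy => ?_⟩
  rw [commutatorElement_eq_one_iff_mul_comm.mpr (h1 y hy)]
  exact one_mem _

variable [Finite G]

/-- an involution of `L` does not fix `L` if `L / O(L)` has trivial centre -/
theorem not_fixes_inv {L : Subgroup G} (hZ : center (Bar L) = ⊥) {l : G} (hl : l ∈ L)
    (hll : l * l = 1) (hl1 : l ≠ 1) : ¬ Fixes l L := by
  intro h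
  have h3 : (QuotientGroup.mk' (oddCore ↥L)) ⟨l, hl⟩ ∈ center (Bar L) := (mk_center_iff hl).mpr h
  rw [hZ, mem_bot] at h3
  exact hl1 (eq_one_of_mem_core_sq ((mem_core_iff hl).mpr ((QuotientGroup.eq_one_iff _).mp h3)) hll)

/-- a four-group `⟨l, v⟩` of `L` centralising `Q` and `x` -/
theorem Lx.exists_v {x a l : G} {L Q : Subgroup G} (h : Lx x a l L Q) : ∃ v ∈ L, v * v = 1 ∧ v ≠ 1 ∧ v ≠ l ∧
    l * v = v * l ∧ (∀ q ∈ Q, q * v = v * q) ∧ x * v = v * x ∧ ¬ Fixes v L ∧ ¬ Fixes (l * v) L := by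
  have hZ := center_of_L2 h.ty
  obtain ⟨F, _, _, -, ⟨R⟩⟩ := exists_rep h.ty
  obtain ⟨f, hff, hf1, hfl, hcf⟩ := rep_four R h.bar_ll h.bar_l1
  obtain ⟨v, hv, hvv, hvf, hvQ, hxv, hlv⟩ := h.lift_bar hff hcf
  have hv1 : v ≠ 1 := by
    rintro rfl
    apply hf1
    rw [← hvf]
    exact congrArg (QuotientGroup.mk' (oddCore ↥L)) (Subtype.ext rfl : (⟨1, hv⟩ : ↥L) = 1)
  have hvl : v ≠ l := by
    rintro rfl
    exact hfl hvf.symm
  have hlv1 : l * v ≠ 1 := by
    intro h1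
    apply hvl
    calc v = l * (l * v) := by rw [← mul_assoc, h.ll, one_mul]
      _ = l := by rw [h1, mul_one]
  have hlv2 : (l * v) * (l * v) = 1 := by
    calc (l * v) * (l * v) = l * (v * l) * v := by group
      _ = (l * l) * (v * v) := by rw [← hlv]; group
      _ = 1 := by rw [h.ll, hvv, one_mul]
  exact ⟨v, hv, hvv, hv1, hvl, hlv, hvQ, hxv, not_fixes_inv hZ hv hvv hv1,
    not_fixes_inv hZ (L.mul_mem h.mem hv) hlv2 hlv1⟩

/-- two components `J ≠ Y` of `C(z)`, `(x, z, Y)` an inner triple: the rank of `FXx x z J` is large -/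
theorem four_le {x z : G} {J Y : Subgroup G} (hJ : IsComp (centralizer ({z} : Set G)) J)
    (hY : IsTriple x z Y) (hin : IsInner x Y) (hty : IsL2 (Bar Y)) (hne : J ≠ Y) {A : Subgroup G} (hA : Elem A)
    (hAz : ∀ a ∈ A, a * z = z * a) (hAx : ∀ a ∈ A, a * x = x * a) (hAJ : ∀ a ∈ A, Fixes a J)
    (hAY : ∀ a ∈ A, Fixes a Y) : 4 * Nat.card A ≤ el (FXx x z J) := by
  obtain ⟨l, h⟩ := exists_Lx hY hty hin hA.isPGroup hAz hAx hAY
  obtain ⟨v, hv, hvv, hv1, hvl, hlv, hvq, hxv, hnv, hnlv⟩ := h.exists_v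
  have hl := h.mem
  have hll := h.ll
  have hlq := h.Ql
  have hxl := h.xl
  have hnl := not_fixes_inv (center_of_L2 hty) hl hll h.l1
  obtain ⟨B₁, hAB₁, hlB₁, hB₁m, hB₁E, hB₁c⟩ := elem_insert hA hll hlq (fun h => hnl (hAY l h))
  have hB₁v : ∀ b ∈ B₁, b * v = v * b := by
    intro b hb
    rcases hB₁m b hb with h | h
    · exact hvq b h
    · have h1 := hvq _ h
      have h2 : l * (b * v) = l * (v * b) := by
        calc l * (b * v) = (l * b) * v := by group
          _ = v * (l * b) := h1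
          _ = (v * l) * b := by group
          _ = (l * v) * b := by rw [hlv]
          _ = l * (v * b) := by group
      exact mul_left_cancel h2
  have hvB₁ : v ∉ B₁ := by
    intro h
    rcases hB₁m v h with h | h
    · exact hnv (hAY v h)
    · exact hnlv (hAY _ h)
  obtain ⟨B₂, hB₁₂, hvB₂, hB₂m, hB₂E, hB₂c⟩ := elem_insert hB₁E hvv hB₁v hvB₁
  have hcard : Nat.card B₂ = 4 * Nat.card A := by rw [hB₂c, hB₁c]; ring
  rw [← hcard]
  have hAF : ∀ b ∈ A, b ∈ FXx x z J := fun b hb => mem_FXx.mpr ⟨⟨hAz b hb, hAJ b hb⟩, hAx b hb⟩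
  have hYF : ∀ y ∈ Y, x * y = y * x → y ∈ FXx x z J := fun y hy h =>
    mem_FXx.mpr ⟨⟨comm_c (hY.comp.le hy), hJ.fixes_of_mem hY.comp hne hy⟩, h.symm⟩
  have hB₁F : ∀ b ∈ B₁, b ∈ FXx x z J := by
    intro b hb
    rcases hB₁m b hb with h | h
    · exact hAF b h
    · have h1 := mul_mem (inv_mem (hYF l hl hxl)) (hAF _ h)
      rwa [inv_mul_cancel_left] at h1
  refine le_el (fun b hb => ?_) hB₂E
  rcases hB₂m b hb with h | h
  · exact hB₁F b h
  · have h1 := mul_mem (inv_mem (hYF v hv hxv)) (hB₁F _ h)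
    rwa [inv_mul_cancel_left] at h1

/-- the rank grows if a central involution of `Q` is bad -/
theorem el_badx {M0 : ℕ} {x t z : G} {L J Q A : Subgroup G}
    (hF : Fam (centralizer ({x} : Set G)) (FF M0 x))
    (hQ : Base (centralizer ({x} : Set G)) (FF M0 x) t L Q) (hz : z ∈ Q) (hzz : z * z = 1)
    (hzQ : ∀ q ∈ Q, q * z = z * q) (hB : BadW (FF M0 x) t L z J) (hAQ : A ≤ Q) (hA : Elem A) :
    2 * Nat.card A ≤ el (FXx x z J) := by
  have hL := hQ.fam
  have htt := hF.sq hL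
  have hzt := hQ.comm z hz
  have hzL := hQ.fix z hz
  have hJ := hB.fam.tri.comp
  have hfix : ∀ q ∈ Q, cj q J = J → Fixes q J ∧ Fixes q (cj t J) := by
    intro q h1 h2
    have h3 := hB.fixes_of_normalizes hF hL hzz hzt hzL (hQ.comm q h1) (hzQ q h1) (hQ.fix q h1)
      (mem_normalizer_iff_cj.mpr h2)
    refine ⟨h3, ?_⟩
    have h4 := h3.cj t
    rwa [show t * q * t⁻¹ = q from conj_of_comm (hQ.comm q h1).symm] at h4
  obtain ⟨A₁, hA₁⟩ : ∃ A₁, A₁ = A ⊓ normalizer (J : Set G) := ⟨_, rfl⟩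
  have hmem : ∀ {q : G}, q ∈ A₁ ↔ q ∈ A ∧ cj q J = J := by
    intro q
    rw [hA₁, mem_inf, mem_normalizer_iff_cj]
  have hA₁E : Elem A₁ := fun q hq => hA q (hmem.mp hq).1
  have hA₁Q : A₁ ≤ Q := fun q hq => hAQ (hmem.mp hq).1
  have h4 : 4 * Nat.card A₁ ≤ el (FXx x z J) :=
    four_le hJ hB.fam'.tri hB.fam'.inn hB.fam'.ty hB.ne.symm hA₁E (fun a ha => hzQ a (hA₁Q ha))
      (fun a ha => comm_c (hQ.le (hA₁Q ha)))
      (fun a ha => (hfix a (hA₁Q ha) (hmem.mp ha).2).1) (fun a ha => (hfix a (hA₁Q ha) (hmem.mp ha).2).2)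
  refine le_trans ?_ h4
  by_cases hall : ∀ q ∈ A, cj q J = J
  · have : A₁ = A := le_antisymm (fun q hq => (hmem.mp hq).1) fun q hq => hmem.mpr ⟨hq, hall q hq⟩
    rw [this]; omega
  push Not at hall
  obtain ⟨g, hgA, hgJ⟩ := hall
  have hcases : ∀ q ∈ A, cj q J = J ∨ cj q J = cj t J := fun q hq =>
    hQ.perm hF hzt hB (hAQ hq) (hzQ q (hAQ hq))
  have hle : A₁ ≤ A := hA₁ ▸ inf_le_left
  have hgJ' := (hcases g hgA).resolve_left hgJ
  have h1 : A₁.relIndex A = 2 := by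
    rw [Subgroup.relIndex_eq_two_iff]
    refine ⟨g, hgA, fun q hq => ?_⟩
    rcases hcases q hq with h | h
    · right
      refine ⟨hmem.mpr ⟨hq, h⟩, fun h' => ?_⟩
      have h3 := (hmem.mp h').2
      rw [cj_mul, hgJ'] at h3
      apply hB.ne
      have h4 : cj q (cj t J) = cj q J := by rw [h3, h]
      exact cj_injective q h4
    · left
      refine ⟨hmem.mpr ⟨mul_mem hq hgA, ?_⟩, fun h' => ?_⟩
      · rw [cj_mul, hgJ', ← cj_mul, hQ.comm q (hAQ hq), cj_mul, h, cj_cj_self htt]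
      · exact hB.ne (h.symm.trans (hmem.mp h').2)
  have h2 := Subgroup.card_mul_index (A₁.subgroupOf A)
  have h3 : (A₁.subgroupOf A).index = 2 := h1
  rw [h3, Nat.card_congr (Subgroup.subgroupOfEquivOfLe hle).toEquiv] at h2
  omega

/-- The output of the first part of SETUP. -/
structure TermX (M0 : ℕ) (x a : G) (L Q : Subgroup G) : Prop where
  base : Base (centralizer ({x} : Set G)) (FF M0 x) a L Q
  le : Q ≤ FXx x a L
  card : Nat.card Q = tp (FXx x a L)
  syl : ∀ R : Subgroup G, R ≤ FXx x a L → IsPGroup 2 R → ∃ h ∈ FXx x a L, cj h R ≤ Q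
  good : ∀ b ∈ Q, b * b = 1 → b ≠ 1 → Good (FF M0 x) L b
  /-- the weight is maximal among all inner triples of order `M0` -/
  max : ∀ (x' e : G) (N : Subgroup G), FF M0 x' e N → Q ≤ FXx x' e N → tp (FXx x' e N) ≤ Nat.card Q
  /-- the rank is maximal among all inner triples of order `M0` -/
  rk : ∀ (x' e : G) (N : Subgroup G), FF M0 x' e N → el (FXx x' e N) ≤ el Q
  /-- the 2-part is maximal among all inner triples of order `M0` and the same rank -/
  uni : ∀ (x' e : G) (N : Subgroup G), FF M0 x' e N → el (FXx x' e N) = el Q → tp (FXx x' e N) ≤ Nat.card Q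

/-- **SETUP, first part.** -/
theorem exists_termx (hU : UpOk G)
    (hne : ∃ (x a : G) (L : Subgroup G), IsTriple x a L ∧ IsInner x L ∧ IsL2 (Bar L)) :
    ∃ (M0 : ℕ) (x a : G) (L Q : Subgroup G), TermX M0 x a L Q ∧
      ∀ (x a : G) (L : Subgroup G), IsTriple x a L → IsInner x L → IsL2 (Bar L) → Nat.card (Bar L) ≤ M0 := by
  have hp2 : Fact (Nat.Prime 2) := ⟨Nat.prime_two⟩
  -- the maximal order
  obtain ⟨M0, hM0, hex⟩ : ∃ M0 : ℕ, (∀ (x a : G) (L : Subgroup G), IsTriple x a L → IsInner x L →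
      IsL2 (Bar L) → Nat.card (Bar L) ≤ M0) ∧ ∃ (x a : G) (L : Subgroup G), FF M0 x a L := by
    obtain ⟨x₀, a₀, L₀, h₀, h₀', h₀''⟩ := hne
    obtain ⟨⟨x, a, L⟩, hmem, hmax⟩ := Set.Finite.exists_maximalFor
      (fun p : G × G × Subgroup G => Nat.card (Bar p.2.2))
      {p : G × G × Subgroup G | IsTriple p.1 p.2.1 p.2.2 ∧ IsInner p.1 p.2.2 ∧ IsL2 (Bar p.2.2)}
      (Set.toFinite _) ⟨(x₀, a₀, L₀), h₀, h₀', h₀''⟩
    refine ⟨Nat.card (Bar L), fun x' a' L' h h' h'' => ?_, x, a, L, hmem.1, hmem.2.1, hmem.2.2, rfl⟩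
    rcases le_total (Nat.card (Bar L')) (Nat.card (Bar L)) with h1 | h1
    · exact h1
    · exact hmax (j := (x', a', L')) ⟨h, h', h''⟩ h1
  -- the maximal weight
  obtain ⟨x, a, L, hL, hmax⟩ : ∃ (x a : G) (L : Subgroup G), FF M0 x a L ∧
      ∀ (x' a' : G) (L' : Subgroup G), FF M0 x' a' L' → el (FXx x' a' L') ≤ el (FXx x a L) ∧
      (el (FXx x' a' L') = el (FXx x a L) → tp (FXx x' a' L') ≤ tp (FXx x a L)) := by
    obtain ⟨x₀, a₀, L₀, h₀⟩ := hex
    obtain ⟨⟨x, a, L⟩, hmem, hmax⟩ := Set.Finite.exists_maximalFor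
      (fun p : G × G × Subgroup G => el (FXx p.1 p.2.1 p.2.2) * (Nat.card G + 1) + tp (FXx p.1 p.2.1 p.2.2))
      {p : G × G × Subgroup G | FF M0 p.1 p.2.1 p.2.2} (Set.toFinite _) ⟨(x₀, a₀, L₀), h₀⟩
    refine ⟨x, a, L, hmem, fun x' a' L' h' => ?_⟩
    have h1 : el (FXx x' a' L') * (Nat.card G + 1) + tp (FXx x' a' L') ≤
        el (FXx x a L) * (Nat.card G + 1) + tp (FXx x a L) := by
      rcases le_total (el (FXx x' a' L') * (Nat.card G + 1) + tp (FXx x' a' L'))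
        (el (FXx x a L) * (Nat.card G + 1) + tp (FXx x a L)) with h | h
      · exact h
      · exact hmax (j := (x', a', L')) h' h
    have h2 : tp (FXx x a L) ≤ Nat.card G := tp_le
    constructor
    · by_contra hlt
      push Not at hlt
      have h3 : (el (FXx x a L) + 1) * (Nat.card G + 1) ≤ el (FXx x' a' L') * (Nat.card G + 1) :=
        Nat.mul_le_mul_right _ hlt
      have h4 : (el (FXx x a L) + 1) * (Nat.card G + 1) = el (FXx x a L) * (Nat.card G + 1) +
        (Nat.card G + 1) := by ring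
      omega
    · intro heq
      rw [heq] at h1
      omega
  have hF := fam hU hM0 x
  have haa := Triple.sq_of_order hL.tri.inva
  have ha1 := Triple.ne_one_of_order hL.tri.inva
  obtain ⟨Q, hQ, h2, hcard, hsyl⟩ := exists_syl (FXx x a L)
  have haX : a ∈ FXx x a L := mem_FXx.mpr ⟨⟨rfl, fixes_self hL.tri.comp⟩, hL.tri.comm⟩
  have haQ : a ∈ Q := by
    have h4 : IsPGroup 2 (zpowers a) := by
      have : Nat.card (zpowers a) = 2 ^ 1 := by rw [Nat.card_zpowers, hL.tri.inva]; norm_num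
      exact IsPGroup.of_card this
    obtain ⟨h, hh, hle⟩ := hsyl _ (zpowers_le.mpr haX) h4
    apply hle
    rw [mem_cj]
    have h5 : h⁻¹ * a * h = a := by
      have := (mem_FXx.mp hh).1.1
      rw [mul_assoc, ← this, ← mul_assoc, inv_mul_cancel, one_mul]
    rw [h5]
    exact mem_zpowers a
  have hB : Base (centralizer ({x} : Set G)) (FF M0 x) a L Q :=
    ⟨hL, h2, haQ, fun q hq => (hQ hq).2, fun q hq => (mem_FXx.mp (hQ hq)).1.1,
      fun q hq => (mem_FXx.mp (hQ hq)).1.2⟩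
  obtain ⟨A, hAQ, hAE, hAc⟩ := TMC.exists_el_le hsyl
  have hZ : ∀ z ∈ Q, z * z = 1 → z ≠ 1 → (∀ q ∈ Q, q * z = z * q) → Good (FF M0 x) L z := by
    intro z hz hzz hz1 hzQ
    rcases hF.pump hL z (hB.le hz) hzz hz1 (hB.comm z hz) (hB.fix z hz) with h | ⟨J, hJ⟩
    · exact h
    exfalso
    have h3 := el_badx hF hB hz hzz hzQ hJ hAQ hAE
    have h5 := (hmax x z J hJ.fam).1
    have h6 : 0 < Nat.card A := Nat.card_pos
    omega
  have hgood : ∀ b ∈ Q, b * b = 1 → b ≠ 1 → Good (FF M0 x) L b := by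
    rcases main hF hB hZ with h | ⟨b, hbQ, hbb, hb1, hba, -, ⟨J, hJ⟩, hb⟩
    · exact h
    exfalso
    have hbt := hB.comm b hbQ
    have hbx : b * x = x * b := comm_c (hB.le hbQ)
    -- `⟨b⟩`
    obtain ⟨B₀, -, hbB₀, hB₀m, hB₀E, hB₀c⟩ := elem_insert (A := (⊥ : Subgroup G))
      (by intro x hx; rw [mem_bot.mp hx, one_mul]) hbb
      (by intro x hx; rw [mem_bot.mp hx, one_mul, mul_one]) (fun h => hb1 (mem_bot.mp h))
    have hB₀mem : ∀ x ∈ B₀, x = 1 ∨ x = b := by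
      intro x hx
      rcases hB₀m x hx with h | h
      · exact Or.inl (mem_bot.mp h)
      · right
        have h2 := mem_bot.mp h
        calc x = b⁻¹ * (b * x) := by group
          _ = b := by rw [h2, mul_one, inv_of_sq hbb]
    have h8 : 4 * Nat.card B₀ ≤ el (FXx x b J) := by
      refine four_le hJ.fam.tri.comp hJ.fam'.tri hJ.fam'.inn hJ.fam'.ty hJ.ne.symm hB₀E ?_ ?_ ?_ ?_
      · intro c hc
        rcases hB₀mem c hc with rfl | rfl
        · rw [one_mul, mul_one]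
        · rfl
      · intro c hc
        rcases hB₀mem c hc with rfl | rfl
        · rw [one_mul, mul_one]
        · exact hbx
      · intro c hc
        rcases hB₀mem c hc with rfl | rfl
        · exact fixes_one J
        · exact fixes_self hJ.fam.tri.comp
      · intro c hc
        rcases hB₀mem c hc with rfl | rfl
        · exact fixes_one _
        · exact fixes_self hJ.fam'.tri.comp
    rw [hB₀c, card_bot, mul_one] at h8
    have h9 := (hmax x b J hJ.fam).1
    -- the four-group `⟨a, b⟩`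
    obtain ⟨B₁, -, haB₁, hB₁m, hB₁E, hB₁c⟩ := elem_insert (A := (⊥ : Subgroup G))
      (by intro x hx; rw [mem_bot.mp hx, one_mul]) haa
      (by intro x hx; rw [mem_bot.mp hx, one_mul, mul_one]) (fun h => ha1 (mem_bot.mp h))
    have hB₁mem : ∀ x ∈ B₁, x = 1 ∨ x = a := by
      intro x hx
      rcases hB₁m x hx with h | h
      · exact Or.inl (mem_bot.mp h)
      · right
        have h2 := mem_bot.mp h
        calc x = a⁻¹ * (a * x) := by group
          _ = a := by rw [h2, mul_one, inv_of_sq haa]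
    obtain ⟨B₂, hB₁₂, hbB₂, hB₂m, hB₂E, hB₂c⟩ := elem_insert hB₁E hbb
      (by
        intro x hx
        rcases hB₁mem x hx with rfl | rfl
        · rw [one_mul, mul_one]
        · exact (hB.comm b hbQ).symm)
      (by
        intro h
        rcases hB₁mem b h with h | h
        · exact hb1 h
        · exact hba h)
    have hB₂Q : B₂ ≤ Q := by
      have hB₁Q : B₁ ≤ Q := by
        intro x hx
        rcases hB₁mem x hx with rfl | rfl
        · exact one_mem _
        · exact hB.mem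
      intro x hx
      rcases hB₂m x hx with h | h
      · exact hB₁Q h
      · have h1 := Q.mul_mem (Q.inv_mem hbQ) (hB₁Q h)
        rwa [inv_mul_cancel_left] at h1
    have hc4 : Nat.card (B₂.subgroupOf Q) = 4 := by
      rw [Nat.card_congr (Subgroup.subgroupOfEquivOfLe hB₂Q).toEquiv, hB₂c, hB₁c, card_bot]
    have hle4 : Nat.card (A.subgroupOf Q) ≤ 4 := by
      refine MinSimple.SelfCentFour.card_le h2 hc4 ?_ ?_ ?_
      · rintro ⟨v, hv⟩ hv'
        exact Subtype.ext (hB₂E v hv')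
      · rintro ⟨q, hq⟩ hqc
        have h10 : q * b = b * q :=
          congrArg Subtype.val ((mem_centralizer_iff.mp hqc ⟨b, hbQ⟩ hbB₂).symm)
        change q ∈ B₂
        have haB₂ := hB₁₂ haB₁
        rcases hb q hq h10 with rfl | rfl | rfl | rfl
        · exact one_mem _
        · exact haB₂
        · exact hbB₂
        · exact mul_mem haB₂ hbB₂
      · rintro ⟨x, hx⟩ hx'
        exact Subtype.ext (hAE x hx')
    rw [Nat.card_congr (Subgroup.subgroupOfEquivOfLe hAQ).toEquiv, hAc] at hle4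
    omega
  have hel : el (FXx x a L) = el Q := le_antisymm (by rw [← hAc]; exact le_el hAQ hAE) (el_mono hQ)
  refine ⟨M0, x, a, L, Q, ⟨hB, hQ, hcard, hsyl, hgood, fun x' e N hN hQN => ?_,
    fun x' e N hN => (hmax x' e N hN).1.trans_eq hel, fun x' e N hN h1 => ?_⟩, hM0⟩
  swap
  · rw [hcard]
    exact (hmax x' e N hN).2 (h1.trans hel.symm)
  have h3 : el (FXx x a L) ≤ el (FXx x' e N) := by
    rw [← hAc]; exact le_el (hAQ.trans hQN) hAE
  rw [hcard]
  exact (hmax x' e N hN).2 (le_antisymm (hmax x' e N hN).1 h3)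

end Cfsg.Agent.UGT.L2i
end

-- part: UGT/L2i/Pre
section
/-!
# P0 (SETUP), part 3: `x = l k`, `l ∈ M`, `k ∈ Z(Q)`

`Pre M0 l k M Q`: `M` commutes with the 2-group `Q ≠ 1` and covers a 2-component `L_y` of `C(y)` for all involutions
`y ∈ Q`; `x = l k` with an involution `l ∈ M` and `k ∈ Z(Q)`, `k² = 1`; the `(x, y, L_y)` are inner triples of maximal
order `M0`, and `Q` has maximal weight.
-/

set_option autoImplicit false

open Cfsg Subgroup
open Cfsg.Agent.SignalizersComponents Cfsg.Agent.Lib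
open Cfsg.Agent.SignalizersComponents.IntrinsicBasic
open Cfsg.Agent.SignalizersComponents.IntrinsicIntr
open Cfsg.Agent.SignalizersComponents.PLayerAut
open Cfsg.Agent.Intrinsic.Basic Cfsg.Agent.Intrinsic.Cen Cfsg.Agent.Intrinsic.Diag
open Cfsg.Agent.McLLyComp.Act
open Cfsg.Agent.UGT.TMCBase Cfsg.Agent.UGT.TMCSyl Cfsg.Agent.UGT.TMCMax Cfsg.Agent.UGT.TMCBad
open Cfsg.Agent.UGT.Triple (IsTriple)
open Cfsg.Agent.UGT.Iface (Bar IsInner IsL2)
open scoped commutatorElement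

universe u

namespace Cfsg.Agent.UGT.L2i

variable {G : Type u} [Group G]

/-- The output of the second part of SETUP. -/
structure Pre (M0 : ℕ) (l k : G) (M Q : Subgroup G) : Prop where
  self : IsComp M M
  comm : ∀ q ∈ Q, ∀ m ∈ M, q * m = m * q
  two : IsPGroup 2 Q
  src : ∃ a ∈ Q, orderOf a = 2 ∧ ∃ L : Subgroup G, IsComp (centralizer ({a} : Set G)) L ∧ Q ≤ FX a L ∧
    M = TMC.KK L Q
  lM : l ∈ M
  ll : l * l = 1
  l1 : l ≠ 1
  kQ : k ∈ Q
  kk : k * k = 1
  kc : ∀ q ∈ Q, q * k = k * q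
  good : ∀ y ∈ Q, orderOf y = 2 → ∃ L, FF M0 (l * k) y L ∧ M ≤ L ∧ M ⊔ core L = L
  /-- the weight is maximal among all inner triples of order `M0` -/
  max : ∀ (x' e : G) (N : Subgroup G), FF M0 x' e N → Q ≤ FXx x' e N → tp (FXx x' e N) ≤ Nat.card Q
  /-- the rank is maximal among all inner triples of order `M0` -/
  rk : ∀ (x' e : G) (N : Subgroup G), FF M0 x' e N → el (FXx x' e N) ≤ el Q
  /-- the 2-part is maximal among all inner triples of order `M0` and the same rank -/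
  uni : ∀ (x' e : G) (N : Subgroup G), FF M0 x' e N → el (FXx x' e N) = el Q → tp (FXx x' e N) ≤ Nat.card Q

variable [Finite G]

/-- `O^{2'}(C_L(Q))` covers the trivial pump-ups -/
theorem KK_cov {a e : G} {L Q N : Subgroup G} (hL : IsComp (centralizer ({a} : Set G)) L)
    (h2 : IsPGroup 2 Q) (hQ : Q ≤ FX a L) (he : e ∈ Q) (hee : e * e = 1) (hN : cen L e ⊔ core N = N) :
    TMC.KK L Q ⊔ core N = N := by
  have hs := TMC.KK_sup hL h2 hQ
  have hcore : core (cen L e) ≤ core N := core_le_of_sup hN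
  have hcN : cen L e ≤ N := by rw [← hN]; exact le_sup_left
  have hKe : TMC.KK L Q ≤ cen L e := by
    refine PComponents.pElem_mono (le_inf inf_le_left ?_)
    intro x hx
    exact mem_c (mem_centralizer_iff.mp hx.2 e he).symm
  have hceq : core (cen L e) = cen L e ⊓ core L :=
    core_cen hL (mem_c (hQ he).1) hee (hQ he).2
  refine sup_of_exists (hKe.trans hcN) fun x hx => ?_
  obtain ⟨c, hc, hcx⟩ := exists_mul_of_sup hN hx
  obtain ⟨k, hk, hkc⟩ := exists_mul_of_sup hs (cen_le L e hc)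
  refine ⟨k, hk, ?_⟩
  have h1 : k⁻¹ * c ∈ core (cen L e) := by
    rw [hceq]
    exact ⟨(cen L e).mul_mem ((cen L e).inv_mem (hKe hk)) hc, hkc⟩
  have h2 : k⁻¹ * x = (k⁻¹ * c) * (c⁻¹ * x) := by group
  rw [h2]
  exact mul_mem (hcore h1) hcx

/-- a 2-subgroup of `FXx` normalised by ... a commuting involution of `FXx` lies in `Q` -/
theorem TermX.mem {M0 : ℕ} {x a : G} {L Q : Subgroup G} (h : TermX M0 x a L Q) {k : G}
    (hk : k ∈ FXx x a L) (hkk : k * k = 1) (hkQ : ∀ q ∈ Q, q * k = k * q) : k ∈ Q := by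
  have hp2 : Fact (Nat.Prime 2) := ⟨Nat.prime_two⟩
  have hR2 : IsPGroup 2 ↥(Q ⊔ zpowers k) := by
    refine h.base.two.to_sup_of_normal_left' (isPGroup_zp hkk) ?_
    rw [zpowers_le]
    apply mem_normalizer_iff_cj.mpr
    exact cj_of_comm fun q hq => mem_c (hkQ q hq)
  have hle : Q ⊔ zpowers k ≤ FXx x a L := sup_le h.le (zpowers_le.mpr hk)
  have h1 := card_le_tp hR2 hle
  rw [← h.card] at h1
  have h2 : Q = Q ⊔ zpowers k := Subgroup.eq_of_le_of_card_ge le_sup_left h1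
  rw [h2]
  exact mem_sup_right (mem_zpowers k)

/-- **SETUP, second part.** -/
theorem TermX.pre {M0 : ℕ} {x a : G} {L Q : Subgroup G} (h : TermX M0 x a L Q) :
    ∃ l k, x = l * k ∧ Pre M0 l k (TMC.KK L Q) Q := by
  have hT := h.base.fam.tri
  have hL := hT.comp
  have hQF : Q ≤ FX a L := fun q hq => (mem_FXx.mp (h.le hq)).1
  have hQx : ∀ q ∈ Q, q * x = x * q := fun q hq => comm_c (h.base.le hq)
  have hxx := Triple.sq_of_order hT.invx
  obtain ⟨l, hl, hll, hl1, hlq, hxl, hfl⟩ := exists_l hT h.base.fam.ctr h.base.fam.inn h.base.two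
    h.base.comm hQx h.base.fix
  have hs := TMC.KK_sup hL h.base.two hQF
  have hM := TMC.isComp_self hL hs (TMC.pElem_pElem _)
  have hlM : l ∈ TMC.KK L Q := by
    refine PComponents.mem_pElem (n := 1) ⟨hl, ?_⟩ (by rw [pow_one, pow_two, hll])
    exact mem_centralizer_iff.mpr fun q hq => hlq q hq
  have hkk : (x * l) * (x * l) = 1 := by
    calc (x * l) * (x * l) = x * (l * x) * l := by group
      _ = (x * x) * (l * l) := by rw [← hxl]; group
      _ = 1 := by rw [hxx, hll, one_mul]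
  have hkc : ∀ q ∈ Q, q * (x * l) = (x * l) * q := by
    intro q hq
    rw [← mul_assoc, hQx q hq, mul_assoc, hlq q hq, mul_assoc]
  have hkF : x * l ∈ FXx x a L := by
    refine mem_FXx.mpr ⟨⟨?_, hfl⟩, ?_⟩
    · rw [mul_assoc, comm_c (hL.le hl), ← mul_assoc, ← hT.comm, mul_assoc]
    · rw [mul_assoc, ← hxl]
  have hkQ := h.mem hkF hkk hkc
  have hxlk : l * (x * l) = x := by rw [← mul_assoc, ← hxl, mul_assoc, hll, mul_one]
  refine ⟨l, x * l, hxlk.symm, hM, fun q hq m hm => TMC.KK_comm hm hq, h.base.two,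
    ⟨a, h.base.mem, hT.inva, L, hL, hQF, rfl⟩, hlM, hll, hl1, hkQ, hkk, hkc, ?_, h.max, h.rk, h.uni⟩
  intro y hy hyy
  rw [hxlk]
  obtain ⟨N, hN, hNs⟩ := h.good y hy (sq_of_order hyy) (ne_one_of_order hyy)
  have h1 := KK_cov hL h.base.two hQF hy (sq_of_order hyy) hNs
  exact ⟨N, hN, by rw [← h1]; exact le_sup_left, h1⟩

section pre

variable {M0 : ℕ} {l k : G} {M Q : Subgroup G}

/-- the 2-component belonging to `M` is unique -/
theorem Pre.unique (h : Pre M0 l k M Q) {y : G} {L L' : Subgroup G}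
    (hL : IsComp (centralizer ({y} : Set G)) L) (hL' : IsComp (centralizer ({y} : Set G)) L')
    (hM : M ≤ L) (hM' : M ≤ L') : L = L' := h.self.unique hL hL' hM hM'

/-- `Q` is a Sylow 2-subgroup of `FX y L_y` if `y = k` or `k = 1`. -/
theorem Pre.syl (h : Pre M0 l k M Q) {y : G} (hy : y ∈ Q) (hyy : orderOf y = 2) {L : Subgroup G}
    (hL : IsComp (centralizer ({y} : Set G)) L) (hML : M ≤ L) {R : Subgroup G} (hR : IsPGroup 2 R)
    (hQR : Q ≤ R) (hRL : ∀ r ∈ R, r * y = y * r ∧ Fixes r L) (hRk : ∀ r ∈ R, r * k = k * r)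
    (hLk : ∀ c ∈ L, c * k = k * c) : R = Q := by
  obtain ⟨L', hF, hML', -⟩ := h.good y hy hyy
  obtain rfl := h.unique hL hF.tri.comp hML hML'
  have hlL := hML h.lM
  have hX : core (centralizer ({y} : Set G)) ≤ centralizer ({y} : Set G) := core_le _
  -- an `R`-invariant conjugate of `l`
  obtain ⟨w, hw, hww, hwr, hwP⟩ := _root_.Cfsg.Agent.UGT.TMCMax.exists_lift hL (fun r hr => mem_c (hRL r hr).1) hR hlL
    (by rw [h.ll]; exact one_mem _) (fun r hr => hL.core_le_core ((hRL r hr).2.2 l hlL))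
  have hlw : l * w ∈ core L := by
    rw [hL.core_eq]
    refine ⟨mul_mem hlL hw, ?_⟩
    rwa [inv_of_sq h.ll] at hwr
  obtain ⟨c, hc, hcw⟩ := SL.conj_of_coset (odd_card_core L) h.ll hww hlw
  have hcL : c ∈ L := core_le L hc
  have hcy : c * y = y * c := comm_c (hL.le hcL)
  have hF' := hF.cj' c
  have e1 : c * (l * k) * c⁻¹ = w * k := by
    rw [← hcw]
    calc c * (l * k) * c⁻¹ = c * l * (k * c⁻¹) := by group
      _ = c * l * (c⁻¹ * k) := by rw [hLk _ (inv_mem hcL)]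
      _ = c * l * c⁻¹ * k := by group
  have e2 : cj c L = L := mem_normalizer_iff_cj.mp (le_normalizer hcL)
  rw [e1, conj_of_comm hcy, e2] at hF'
  have hRF : R ≤ FXx (w * k) y L := by
    intro r hr
    refine mem_FXx.mpr ⟨hRL r hr, ?_⟩
    rw [← mul_assoc, hwP r hr, mul_assoc, hRk r hr, mul_assoc]
  have h1 := h.max _ _ _ hF' (hQR.trans hRF)
  have h2 := (card_le_tp hR hRF).trans h1
  exact (Subgroup.eq_of_le_of_card_ge hQR h2).symm

/-- the `max` field of `Pkg` -/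
theorem Pre.max_of_one (h : Pre M0 l 1 M Q) {y : G} (hy : y ∈ Q) (hyy : orderOf y = 2) {L : Subgroup G}
    (hL : IsComp (centralizer ({y} : Set G)) L) (hML : M ≤ L) {R : Subgroup G} (hR : IsPGroup 2 R)
    (hQR : Q ≤ R) (hRL : ∀ r ∈ R, r * y = y * r ∧ Fixes r L) : R = Q :=
  h.syl hy hyy hL hML hR hQR hRL (fun r _ => by rw [mul_one, one_mul])
    (fun r _ => by rw [mul_one, one_mul])

/-- if some `m ∈ M ∩ O(C(l))` is not in `O(M)`, then `x` may be replaced by `l` -/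
theorem Pre.one (h : Pre M0 l k M Q) {m : G} (hm : m ∈ M) (hmc : m ∉ core M)
    (hml : m ∈ core (centralizer ({l} : Set G))) : Pre M0 l 1 M Q where
  self := h.self
  comm := h.comm
  two := h.two
  src := h.src
  lM := h.lM
  ll := h.ll
  l1 := h.l1
  kQ := one_mem _
  kk := mul_one _
  kc q _ := by rw [mul_one, one_mul]
  good := by
    intro y hy hyy
    obtain ⟨L, hF, hML, hs⟩ := h.good y hy hyy
    have hZ := hF.ctr
    rw [mul_one]
    refine ⟨L, ⟨⟨order_two h.l1 h.ll, hyy, h.comm y hy l h.lM, hF.tri.comp, m, hml,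
      mem_c (h.comm y hy m hm).symm, fun hf => hmc ?_⟩, ⟨l, hML h.lM, ?_⟩, hF.ty, hF.card⟩, hML, hs⟩
    · have hmL := hML hm
      have h3 : (QuotientGroup.mk' (oddCore ↥L)) ⟨m, hmL⟩ ∈ center (Bar L) := (mk_center_iff hmL).mpr hf
      rw [hZ, mem_bot] at h3
      have h4 : m ∈ core L := (mem_core_iff hmL).mpr ((QuotientGroup.eq_one_iff _).mp h3)
      rw [core_of_sup hs]
      exact ⟨hm, h4⟩
    · rw [mul_inv_cancel]; exact fixes_one L
  max := h.max
  rk := h.rk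
  uni := h.uni

end pre

end Cfsg.Agent.UGT.L2i
end

private theorem dce_98b15e71718f : _root_.True := by
  try have : _root_.True := by simp only [_root_.Cfsg.Agent.UGT.L2i.FXx.eq_1]
  exact _root_.True.intro
end
end
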