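import Cfsg.Agent.UGT.I34.ONTwo_m3
import Cfsg.Agent.UGT.A7.M1.CfgTwo
import Cfsg.Agent.UGT.FourB.World_m3
import Cfsg.Agent.UGT.U2.FOne.Final_m3
import Cfsg.Agent.OddHalf.D9.DoubleKill_m3
import Cfsg.Agent.S1173
import Cfsg.Agent.S0205
import Cfsg.Agent.GH.FinalKFour
import Cfsg.Agent.UAlt.Eleven.NoType11_m3
import Cfsg.Agent.FastGrp
import Cfsg.Agent.Prune
set_option linter.all false

section
prune_inst 0x7f00000000000000000000000000000000000000000000000000000000000000000000000000000000000000000000000000000000000000000000000000000000000000000000000000000000000000003fffffffffffffffffffffffffffbeffbdffffffff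

-- part: UGT/L2i/SitOf
section
set_option linter.all false
open scoped Cfsg.Agent.FastGrp

/-!
# N5, the bad configuration: the setting `Cfg7.Sit` from `Pre`

* `GT.of_l2` : `GT L` for `L / O(L) ≅ PSL(2,F)`.
* `cen_of_l2`, `cyc_of_l2` : four-groups of `L`; `N_M(V)` is transitive on `V#`.
* `Pre.sit` : `Sit (C(t k)) (FF M0 (t k)) M Y V` for a four-group `Y ≤ Q` with `k ∈ Y` and a four-group `V ≤ M`,
  `t ∈ V#`.
-/

set_option autoImplicit false

open Cfsg Subgroup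
open Cfsg.Agent.SignalizersComponents Cfsg.Agent.Lib
open Cfsg.Agent.SignalizersComponents.IntrinsicBasic
open Cfsg.Agent.SignalizersComponents.PLayerAut
open Cfsg.Agent.Intrinsic.Basic Cfsg.Agent.Intrinsic.Cen Cfsg.Agent.Intrinsic.Diag
open Cfsg.Agent.McLLyComp.Act
open Cfsg.Agent.UGT.TMCBase
open Cfsg.Agent.UGT.Triple (IsTriple)
open Cfsg.Agent.UGT.Iface (Bar IsInner IsL2 IsAlt)
open Cfsg.Agent.UGT.L2Inner
open scoped commutatorElement

universe u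

namespace Cfsg.Agent.UGT.L2i

variable {G : Type u} [Group G] [Finite G] {M Q Y V : Subgroup G}

/-- **`GT` for the type `PSL(2,F)`** -/
theorem gt_of_l2 {N : Subgroup G} (hT : L2T N) : A7.M1.GT N := by
  refine ⟨fun v hv hvv hv1 => not_fixes_of_mem hT.t27 hv hvv hv1, ?_⟩
  intro t htN htt ht1 D hDN hD hDt d hd
  have hft := not_fixes_of_mem hT.t27 htN htt ht1
  obtain ⟨F, _, _, ⟨R⟩⟩ := hT
  let f : ↥D →* MulAut (↥N ⧸ oddCore ↥N) := (act N).comp (Subgroup.inclusion hDN)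
  have hperf : ⁅f.range, f.range⁆ = f.range := by
    have h5 : Group.IsPerfect ↥D := by
      rw [isPerfect_iff]
      exact hD
    have h6 : ⁅(⊤ : Subgroup ↥D), ⊤⁆ = ⊤ := h5.commutator_eq_top
    rw [MonoidHom.range_eq_map, ← map_commutator, h6]
  have hbot : f.range = ⊥ := by
    refine WBAut.perfect_comm R (φ := act N ⟨t, le_normalizer htN⟩) ?_ ?_ ?_ hperf ?_
    · rw [act_of_mem htN]
      exact R.conj_mem_PGL _
    · intro h1
      exact hft ((act_eq_one_iff (le_normalizer htN)).mp h1)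
    · rw [← map_mul]
      have h7 : (⟨t, le_normalizer htN⟩ : ↥(normalizer (N : Set G))) * ⟨t, le_normalizer htN⟩ = 1 :=
        Subtype.ext htt
      rw [h7, map_one]
    · rintro _ ⟨⟨i, hi⟩, rfl⟩
      change act N ⟨i, hDN hi⟩ * _ = _ * act N ⟨i, hDN hi⟩
      rw [← commutatorElement_eq_one_iff_mul_comm, ← map_commutatorElement]
      have h8 := hDt i hi
      exact (act_eq_one_iff h8.1).mpr h8
  rw [← act_eq_one_iff (hDN hd)]
  have h5 : f ⟨d, hd⟩ ∈ f.range := ⟨_, rfl⟩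
  rw [hbot, mem_bot] at h5
  exact h5

/-- an involution of `L` commuting with a four-group of `L` lies in it -/
theorem cen_of_l2 {L V : Subgroup G} (hT : L2T L) (hV : Four V) (hVL : V ≤ L) {h : G} (hh : h ∈ L)
    (hhh : h * h = 1) (hc : ∀ p ∈ V, h * p = p * h) : h ∈ V := by
  obtain ⟨v, hv, v', hv', hv1, hv1', hne⟩ := exists_gens hV.card
  have hvL := hVL hv
  have hvL' := hVL hv'
  have hvv := hV.elem v hv
  have hvv' := hV.elem v' hv'
  have hcomm : v * v' = v' * v := comm_of_sq hV.elem hv hv'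
  obtain ⟨F, _, _, ⟨Re⟩⟩ := hT
  have hcore : ∀ (x : G) (hx : x ∈ L), x * x = 1 → x ≠ 1 →
      (QuotientGroup.mk ⟨x, hx⟩ : ↥L ⧸ oddCore ↥L) ≠ 1 := by
    intro x hx hxx hx1 h1
    rw [mk_eq_one_iff hx] at h1
    exact hx1 (eq_one_of_mem_core_sq h1 hxx)
  have hfour : GH.L2Aut.Four (QuotientGroup.mk ⟨v, hvL⟩ : ↥L ⧸ oddCore ↥L) (QuotientGroup.mk ⟨v', hvL'⟩) :=
    { aa := congrArg QuotientGroup.mk (Subtype.ext hvv : (⟨v, hvL⟩ : ↥L) * ⟨v, hvL⟩ = 1)
      bb := congrArg QuotientGroup.mk (Subtype.ext hvv' : (⟨v', hvL'⟩ : ↥L) * ⟨v', hvL'⟩ = 1)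
      a1 := hcore v hvL hvv hv1
      b1 := hcore v' hvL' hvv' hv1'
      ne := by
        intro h1
        rw [mk_eq_iff hvL hvL'] at h1
        have h2 : v⁻¹ * v' * (v⁻¹ * v') = 1 := by
          rw [inv_eq_of_mul_eq_one_left hvv]
          exact hV.elem _ (mul_mem hv hv')
        exact hne (inv_mul_eq_one.mp (eq_one_of_mem_core_sq h1 h2))
      comm := congrArg QuotientGroup.mk (Subtype.ext hcomm :
        (⟨v, hvL⟩ : ↥L) * ⟨v', hvL'⟩ = ⟨v', hvL'⟩ * ⟨v, hvL⟩) }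
  have hcase := WBAut.four_fix Re hfour (h := QuotientGroup.mk ⟨h, hh⟩)
    (congrArg QuotientGroup.mk (Subtype.ext (hc v hv) : (⟨h, hh⟩ : ↥L) * ⟨v, hvL⟩ = ⟨v, hvL⟩ * ⟨h, hh⟩))
    (congrArg QuotientGroup.mk (Subtype.ext (hc v' hv') :
      (⟨h, hh⟩ : ↥L) * ⟨v', hvL'⟩ = ⟨v', hvL'⟩ * ⟨h, hh⟩))
  have hP : ∀ (p : G) (hp : p ∈ V), (QuotientGroup.mk ⟨h, hh⟩ : ↥L ⧸ oddCore ↥L) =
      QuotientGroup.mk ⟨p, hVL hp⟩ → h = p := by
    intro p hp h1
    rw [mk_eq_iff hh (hVL hp)] at h1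
    have h3 : h⁻¹ * p * (h⁻¹ * p) = 1 := by
      rw [inv_eq_of_mul_eq_one_left hhh]
      calc h * p * (h * p) = h * (p * h) * p := by group
        _ = h * (h * p) * p := by rw [hc p hp]
        _ = (h * h) * (p * p) := by group
        _ = 1 := by rw [hhh, hV.elem p hp, one_mul]
    exact inv_mul_eq_one.mp (eq_one_of_mem_core_sq h1 h3)
  rcases hcase with h1 | h1 | h1 | h1
  · rw [hP 1 (one_mem _) h1]; exact one_mem _
  · rw [hP v hv h1]; exact hv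
  · rw [hP v' hv' h1]; exact hv'
  · rw [hP (v * v') (mul_mem hv hv') h1]; exact mul_mem hv hv'

/-- the images of a four-group -/
theorem four_of_l2 {L V : Subgroup G} (hV : Four V) (hVL : V ≤ L) {v v' : G} (hv : v ∈ V) (hv' : v' ∈ V)
    (hv1 : v ≠ 1) (hv1' : v' ≠ 1) (hne : v ≠ v') :
    GH.L2Aut.Four (QuotientGroup.mk ⟨v, hVL hv⟩ : ↥L ⧸ oddCore ↥L) (QuotientGroup.mk ⟨v', hVL hv'⟩) := by
  have hvL := hVL hv
  have hvL' := hVL hv'
  have hvv := hV.elem v hv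
  have hvv' := hV.elem v' hv'
  have hcomm : v * v' = v' * v := comm_of_sq hV.elem hv hv'
  have hcore : ∀ (x : G) (hx : x ∈ L), x * x = 1 → x ≠ 1 →
      (QuotientGroup.mk ⟨x, hx⟩ : ↥L ⧸ oddCore ↥L) ≠ 1 := by
    intro x hx hxx hx1 h1
    rw [mk_eq_one_iff hx] at h1
    exact hx1 (eq_one_of_mem_core_sq h1 hxx)
  exact
    { aa := congrArg QuotientGroup.mk (Subtype.ext hvv : (⟨v, hvL⟩ : ↥L) * ⟨v, hvL⟩ = 1)
      bb := congrArg QuotientGroup.mk (Subtype.ext hvv' : (⟨v', hvL'⟩ : ↥L) * ⟨v', hvL'⟩ = 1)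
      a1 := hcore v hvL hvv hv1
      b1 := hcore v' hvL' hvv' hv1'
      ne := by
        intro h1
        rw [mk_eq_iff hvL hvL'] at h1
        have h2 : v⁻¹ * v' * (v⁻¹ * v') = 1 := by
          rw [inv_eq_of_mul_eq_one_left hvv]
          exact hV.elem _ (mul_mem hv hv')
        exact hne (inv_mul_eq_one.mp (eq_one_of_mem_core_sq h1 h2))
      comm := congrArg QuotientGroup.mk (Subtype.ext hcomm :
        (⟨v, hvL⟩ : ↥L) * ⟨v', hvL'⟩ = ⟨v', hvL'⟩ * ⟨v, hvL⟩) }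

/-- `N_M(V)` is transitive on `V#` -/
theorem cyc_of_l2 (hM : L2T M) (hV : Four V) (hVM : V ≤ M) {t t' : G} (ht : t ∈ V) (ht' : t' ∈ V)
    (ht1 : t ≠ 1) (ht1' : t' ≠ 1) (hne : t ≠ t') : ∃ d ∈ M, d * t * d⁻¹ = t' ∧ d * t' * d⁻¹ = t * t' := by
  obtain ⟨F, _, _, ⟨R⟩⟩ := hM
  have hfour := four_of_l2 hV hVM ht ht' ht1 ht1' hne
  obtain ⟨yb, h1, h2⟩ := Q2.Facts.rho R hfour
  obtain ⟨⟨y, hy⟩, rfl⟩ := QuotientGroup.mk_surjective yb
  have htt := hV.elem t ht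
  have htt' := hV.elem t' ht'
  have htM := hVM ht
  have htM' := hVM ht'
  have hsq : ∀ v : G, v * v = 1 → (y * v * y⁻¹) * (y * v * y⁻¹) = 1 := by
    intro v hv
    calc y * v * y⁻¹ * (y * v * y⁻¹) = y * (v * v) * y⁻¹ := by group
      _ = 1 := by rw [hv]; group
  have hyM : ∀ v ∈ M, y * v * y⁻¹ ∈ M := fun v hv => M.mul_mem (M.mul_mem hy hv) (M.inv_mem hy)
  have e1 : (QuotientGroup.mk ⟨y * t * y⁻¹, hyM t htM⟩ : ↥M ⧸ oddCore ↥M) = QuotientGroup.mk ⟨t', htM'⟩ := h1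
  have e2 : (QuotientGroup.mk ⟨y * t' * y⁻¹, hyM t' htM'⟩ : ↥M ⧸ oddCore ↥M) =
    QuotientGroup.mk ⟨t * t', M.mul_mem htM htM'⟩ := h2
  rw [mk_eq_iff] at e1 e2
  rw [inv_eq_of_mul_eq_one_left (hsq t htt)] at e1
  obtain ⟨w₁, hw₁, hwt⟩ := SL.conj_of_coset (odd_card_core M) (hsq t htt) htt' e1
  obtain ⟨s, hs⟩ : ∃ s, s = w₁ * (y * t' * y⁻¹) * w₁⁻¹ := ⟨_, rfl⟩
  have hww : ∀ v : G, v * v = 1 → (w₁ * v * w₁⁻¹) * (w₁ * v * w₁⁻¹) = 1 := by
    intro v hv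
    calc w₁ * v * w₁⁻¹ * (w₁ * v * w₁⁻¹) = w₁ * (v * v) * w₁⁻¹ := by group
      _ = 1 := by rw [hv]; group
  have hss : s * s = 1 := hs ▸ hww _ (hsq t' htt')
  have hcomm : t * t' = t' * t := comm_of_sq hV.elem ht ht'
  have hst : s * t' = t' * s := by
    have h5 : s * (w₁ * (y * t * y⁻¹) * w₁⁻¹) = (w₁ * (y * t * y⁻¹) * w₁⁻¹) * s := by
      rw [hs]
      calc w₁ * (y * t' * y⁻¹) * w₁⁻¹ * (w₁ * (y * t * y⁻¹) * w₁⁻¹) = w₁ * y * (t' * t) * y⁻¹ * w₁⁻¹ := by group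
        _ = w₁ * y * (t * t') * y⁻¹ * w₁⁻¹ := by rw [hcomm]
        _ = w₁ * (y * t * y⁻¹) * w₁⁻¹ * (w₁ * (y * t' * y⁻¹) * w₁⁻¹) := by group
    rwa [hwt] at h5
  have htts : (t * t') * (t * t') = 1 := hV.elem _ (mul_mem ht ht')
  -- `s ≡ t t'`
  have h3 : s * (t * t') ∈ core M := by
    have h4 : y * t' * y⁻¹ * (t * t') ∈ core M := by
      rwa [inv_eq_of_mul_eq_one_left (hsq t' htt')] at e2
    have h5 : s * (t * t') = w₁ * ((y * t' * y⁻¹ * (t * t')) * ((t * t') * w₁⁻¹ * (t * t')⁻¹)) := by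
      rw [hs]
      have : (t * t')⁻¹ = t * t' := inv_eq_of_mul_eq_one_left htts
      calc w₁ * (y * t' * y⁻¹) * w₁⁻¹ * (t * t')
          = w₁ * (y * t' * y⁻¹) * ((t * t') * (t * t')) * w₁⁻¹ * (t * t') := by rw [htts, mul_one]
        _ = w₁ * ((y * t' * y⁻¹ * (t * t')) * ((t * t') * w₁⁻¹ * (t * t'))) := by group
        _ = _ := by rw [this]
    rw [h5]
    refine mul_mem hw₁ (mul_mem h4 ?_)
    exact conj_mem_core (le_normalizer (M.mul_mem htM htM')) (inv_mem hw₁)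
  have h4 : s * (t * t') ∈ core M ⊓ centralizer ({t'} : Set G) := by
    refine ⟨h3, mem_c ?_⟩
    calc s * (t * t') * t' = s * (t * (t' * t')) := by group
      _ = s * (t' * (t' * t)) := by rw [← mul_assoc t' t' t, htt', mul_one, one_mul]
      _ = (s * t') * (t' * t) := by group
      _ = t' * (s * (t * t')) := by rw [hst, hcomm]; group
  have hodd : Odd (Nat.card ↥(core M ⊓ centralizer ({t'} : Set G))) :=
    Odd.of_dvd_nat (odd_card_core M) (Subgroup.card_dvd_of_le inf_le_left)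
  obtain ⟨w₂, hw₂, hw⟩ := SL.conj_of_coset hodd hss htts h4
  refine ⟨w₂ * (w₁ * y), mul_mem (core_le M hw₂.1) (mul_mem (core_le M hw₁) hy), ?_, ?_⟩
  · have h5 : w₂ * t' = t' * w₂ := comm_c hw₂.2
    calc w₂ * (w₁ * y) * t * (w₂ * (w₁ * y))⁻¹ = w₂ * (w₁ * (y * t * y⁻¹) * w₁⁻¹) * w₂⁻¹ := by group
      _ = w₂ * t' * w₂⁻¹ := by rw [hwt]
      _ = t' := by rw [h5, mul_inv_cancel_right]
  · calc w₂ * (w₁ * y) * t' * (w₂ * (w₁ * y))⁻¹ = w₂ * (w₁ * (y * t' * y⁻¹) * w₁⁻¹) * w₂⁻¹ := by group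
      _ = w₂ * s * w₂⁻¹ := by rw [hs]
      _ = t * t' := hw

variable {M0 : ℕ} {l k : G}

theorem Pre.yf (h : Pre M0 l k M Q) (hl : L2T M) (hY : Four Y) (hYQ : Y ≤ Q) : A7.M1.YF M Y where
  ysq := hY.elem
  ycard := hY.card
  ym y hy m hm := h.comm y (hYQ hy) m hm
  comp y hy hy1 := by
    obtain ⟨N, hN, h1, h2⟩ := h.good y (hYQ hy) (order_two (hY.elem y hy) hy1)
    obtain ⟨e, -⟩ := exists_quotEquiv h2
    exact ⟨N, hN.tri.comp, h1, h2, gt_of_l2 (l2t_congr e hl)⟩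

theorem Pre.fr (h : Pre M0 l k M Q) (hl : L2T M) (hY : Four Y) (hYQ : Y ≤ Q) (hV : Four V) (hVM : V ≤ M) :
    A7.M1.Fr M Y V where
  toYF := h.yf hl hY hYQ
  psq := hV.elem
  pcard := hV.card
  pm := hVM
  cen y hy hy1 L hL hML hs g hg hgg hgV := by
    obtain ⟨e, -⟩ := exists_quotEquiv hs
    exact cen_of_l2 (l2t_congr e hl) hV (hVM.trans hML) hg hgg hgV

/-- **The setting.** -/
theorem Pre.sit (h : Pre M0 l k M Q) (hl : L2T M)
    (hT : ∀ (x a : G) (L : Subgroup G), IsTriple x a L → IsL2 (Bar L) ∨ IsAlt 7 (Bar L))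
    (hM0 : ∀ (x a : G) (L : Subgroup G), IsTriple x a L → IsInner x L → IsL2 (Bar L) → Nat.card (Bar L) ≤ M0)
    (hY : Four Y) (hYQ : Y ≤ Q) (hk : k ∈ Y) (hV : Four V) (hVM : V ≤ M) {t : G} (ht : t ∈ V) (ht1 : t ≠ 1) :
    A7.M1.Cfg7.Sit (centralizer ({t * k} : Set G)) (FF M0 (t * k)) M Y V where
  toFr := h.fr hl hY hYQ hV hVM
  fam := fam (upOk hT) hM0 (t * k)
  famY y hy hy1 := by
    obtain ⟨N, hN, h1, h2⟩ := (h.replace (hVM ht) (hV.elem t ht) ht1).good y (hYQ hy)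
      (order_two (hY.elem y hy) hy1)
    exact ⟨N, hN, h1, h2⟩
  gt y N hN := by
    obtain ⟨F, i1, i2, -, h2⟩ := L2i.exists_rep hN.ty
    exact gt_of_l2 ⟨F, i1, i2, h2⟩
  gg j hj := by
    have h1 := hj t ((le_sup_right : V ≤ Y ⊔ V) ht)
    have h2 := hj k ((le_sup_left : Y ≤ Y ⊔ V) hk)
    exact mem_c (by rw [← mul_assoc, h1, mul_assoc, h2, mul_assoc])

end Cfsg.Agent.UGT.L2i
end

-- part: UGT/L2i/NodeBad
section
set_option linter.all false
open scoped Cfsg.Agent.FastGrp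

/-!
# N5: there is no bad configuration

`Cfg7.Cx` (bb #12930 (1)-(4), helper179) + `false_of_s` ((5), helper837) ⊢ `Out` and the triple, hence rank at most 4
by `Out.rank_of` ((6)-(8), helper683).
-/

set_option autoImplicit false
set_option linter.unusedSectionVars false

open Cfsg Subgroup Equiv Equiv.Perm
open Cfsg.Agent.SignalizersComponents Cfsg.Agent.Lib
open Cfsg.Agent.SignalizersComponents.IntrinsicBasic
open Cfsg.Agent.SignalizersComponents.PLayerAut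
open Cfsg.Agent.Intrinsic.Basic Cfsg.Agent.Intrinsic.Cen Cfsg.Agent.Intrinsic.Diag
open Cfsg.Agent.McLLyComp.Act
open Cfsg.Agent.UAlt
open Cfsg.Agent.UGT.TMCBase
open Cfsg.Agent.UGT.Triple (IsTriple)
open Cfsg.Agent.UGT.Iface (Bar IsInner IsL2 IsAlt)
open Cfsg.Agent.UGT.L2Inner
open Cfsg.Agent.UGT.A7.M1.Cfg7
open Cfsg.Agent.UGT.A7.M1 (VT ta_ta isV_mul)
open scoped commutatorElement

universe u

namespace Cfsg.Agent.UGT.L2i

variable {G : Type u} [Group G] [Finite G]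

section cx

variable {GG : Subgroup G} {F : G → Subgroup G → Prop} {M Y V : Subgroup G} {w x : G} {K : Subgroup G}
  {c t : G} {L : Lab K} (C : Cx GG F M Y V w x K c t L)
  (hl : ∀ y ∈ Y, y ≠ 1 → ∀ N, IsComp (centralizer ({y} : Set G)) N → M ≤ N → L2T N)

include C

/-- the common part of (3), (4) -/
theorem cx_common : w = t ∧ ∃ t' ∈ V, L.φ t' = ta ∧ ∃ y ∈ Y, y ≠ 1 ∧ y ∈ K ∧ IsV (L.φ y) := by
  by_cases h : ∀ y ∈ Y, IsV (L.φ y)
  · obtain ⟨h1, ⟨t', ht', h2⟩, h3⟩ := C.alpha h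
    obtain ⟨y, hy, -, -, hy1, -, -⟩ := exists_gens C.ycard
    exact ⟨h1, t', ht', h2, y, hy, hy1, h3 hy, h y hy⟩
  · obtain ⟨h1, ⟨t', ht', h2⟩, h3, -⟩ := C.gamma h
    exact ⟨h1, t', ht', h2, h3⟩

include hl

theorem exists_g {s t' y : G} (hss : s * s = 1) (hs : ∀ e ∈ Y ⊔ V, s * e = e * s) (hJ : JY M Y s)
    (ht' : t' ∈ V) (ht1' : t' ≠ 1) (hne : t ≠ t') (hy : y ∈ Y) (hy1 : y ≠ 1) :
    ∃ g, g * y = y * g ∧ g * s = s * g ∧ g * t * g⁻¹ = t' ∧ g * t' * g⁻¹ = t * t' := by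
  obtain ⟨N, hN, hM, -⟩ := C.toFr.comp y hy hy1
  have hsy : s * y = y * s := hs y (C.yE hy)
  have hf := hJ y hy hy1 N hN hM
  have h1 := sup_cen' hN hss hsy hf
  have hVc : V ≤ cen N s := le_cen C.psq (C.pm.trans hM) fun p hp => (hs p (C.vE hp)).symm
  obtain ⟨e, -⟩ := exists_quotEquiv h1
  have hT : L2T (cen N s) := l2t_congr e.symm (hl y hy hy1 N hN hM)
  obtain ⟨g, hg, h2, h3⟩ := cyc_of_l2 hT ⟨C.pcard, C.psq⟩ hVc C.tV ht' C.t1 ht1' hne
  exact ⟨g, comm_c (hN.le (cen_le _ _ hg)), comm_of_mem_cen hg, h2, h3⟩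

/-- **(5)** -/
theorem no_s (hP : A7.Pump7 G) {s : G} (hss : s * s = 1) (hs1 : s ≠ 1) (hs : ∀ e ∈ Y ⊔ V, s * e = e * s)
    (hJ : JY M Y s) (hφ : L.φ s = ta) : False := by
  obtain ⟨hwt, t', ht', hφt', y, hy, hy1, hyK, hyV⟩ := cx_common C
  subst hwt
  have ht1' : t' ≠ 1 := by
    rintro rfl
    rw [L.one] at hφt'
    exact absurd hφt' (by decide)
  have hne : w ≠ t' := by
    rintro rfl
    rw [C.φw] at hφt'
    exact absurd hφt' (by decide)
  obtain ⟨g, h1, h2, h3, h4⟩ := exists_g C hl hss hs hJ ht' ht1' hne hy hy1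
  have hE : ∀ a ∈ Y ⊔ V, ∀ b ∈ Y ⊔ V, a * b = b * a := fun a ha b hb => C.toFr.E_comm ha hb
  refine false_of_s hP L C.bad.tri (C.psq t' ht') hss (hE _ (C.vE C.tV) _ (C.vE ht')) (hs _ (C.vE C.tV))
    (hs _ (C.vE ht')) (C.ysq y hy) (hE _ (C.yE hy) _ (C.vE C.tV)) (hE _ (C.yE hy) _ (C.vE ht'))
    (hs _ (C.yE hy)).symm h1 h2 h3 h4 (C.eN (C.vE ht')) (C.one hss hs1 hs hJ).1 hφt' hφ
    (fun I hI => C.star hss hs1 hs hJ hI ht') (hs _ C.bad.xE) (hE _ (C.vE ht') _ C.bad.xE) hyK hyV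
    (C.bad.y1 y hy hy1) (Or.inl rfl)

/-- (3) holds -/
theorem cx_alpha (hP : A7.Pump7 G) : (∀ y ∈ Y, IsV (L.φ y)) ∧ w = t ∧ (∃ t' ∈ V, L.φ t' = ta) ∧ Y ≤ K := by
  by_cases h : ∀ y ∈ Y, IsV (L.φ y)
  · exact ⟨h, C.alpha h⟩
  · exfalso
    obtain ⟨-, -, -, s, hss, hs1, hs, hJ, hφ⟩ := C.gamma h
    exact no_s C hl hP hss hs1 hs hJ hφ

/-- `φ(Y) = V₄` -/
theorem exists_y (hP : A7.Pump7 G) {σ : P7} (hσ : IsV σ) : ∃ y ∈ Y, L.φ y = σ := by
  obtain ⟨hV, -⟩ := cx_alpha C hl hP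
  obtain ⟨p, hp, q, hq, hp1, hq1, hpq⟩ := exists_gens C.ycard
  have e1 := C.bad.y1 p hp hp1
  have e2 := C.bad.y1 q hq hq1
  have hpq1 : p * q ≠ 1 := by
    intro h
    apply hpq
    rw [eq_inv_of_mul_eq_one_left h, inv_eq_of_mul_eq_one_left (C.ysq q hq)]
  have e4 : L.φ (p * q) = L.φ p * L.φ q := L.mul _ _ (C.eN (C.yE hp)) (C.eN (C.yE hq))
  have e3 : L.φ p ≠ L.φ q := by
    intro h
    apply C.bad.y1 _ (mul_mem hp hq) hpq1
    rw [e4, h]
    exact isV_sq (hV q hq)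
  have key : ∀ a b σ : P7, IsV a → IsV b → IsV σ → a ≠ 1 → b ≠ 1 → a ≠ b → σ = 1 ∨ σ = a ∨ σ = b ∨ σ = a * b := by
    rintro a b σ (rfl | rfl | rfl | rfl) (rfl | rfl | rfl | rfl) (rfl | rfl | rfl | rfl) <;> decide
  rcases key _ _ σ (hV p hp) (hV q hq) hσ e1 e2 e3 with h | h | h | h
  · exact ⟨1, one_mem _, by rw [L.one, h]⟩
  · exact ⟨p, hp, h.symm⟩
  · exact ⟨q, hq, h.symm⟩
  · exact ⟨p * q, mul_mem hp hq, by rw [e4, h]⟩

/-- **(RK)** for the elements of `C(E)` -/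
theorem mem_Y (hP : A7.Pump7 G) {j : G} (jj : j * j = 1) (hj : ∀ e ∈ Y ⊔ V, j * e = e * j) (hJ : JY M Y j) :
    j ∈ Y := by
  by_cases j1 : j = 1
  · rw [j1]; exact one_mem _
  obtain ⟨hjN, -, -⟩ := C.one jj j1 hj hJ
  have hcomm : ∀ σ ∈ VT, L.φ j * σ = σ * L.φ j := by
    intro σ hσ
    obtain ⟨e, he, rfl⟩ := C.exists_φ hσ
    rw [← L.mul _ _ hjN (C.eN he), hj e he, L.mul _ _ (C.eN he) hjN]
  have hjVT : L.φ j ∈ VT := mem_VT_of_comm (hcomm b1 (Or.inl (Or.inr (Or.inl rfl))))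
    (hcomm b2 (Or.inl (Or.inr (Or.inr (Or.inl rfl))))) (hcomm ta (Or.inr (Or.inl ta_ta)))
  -- the element of `Y` over the `V₄`-part
  obtain ⟨σ, hσ, hor⟩ : ∃ σ, IsV σ ∧ (L.φ j = σ ∨ L.φ j = σ * ta) := by
    rcases hjVT with h | h
    · exact ⟨_, h, Or.inl rfl⟩
    · exact ⟨_, h, Or.inr (by rw [mul_assoc, ta_ta, mul_one])⟩
  obtain ⟨y, hy, hyσ⟩ := exists_y C hl hP hσ
  have hjy : j * y = y * j := hj y (C.yE hy)
  have hyE : ∀ e ∈ Y ⊔ V, y * e = e * y := fun e he => C.toFr.E_comm (C.yE hy) he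
  by_contra hjY
  have h1 : y * j ≠ 1 := by
    intro h
    apply hjY
    have h2 : j = y := by
      rw [← inv_eq_of_mul_eq_one_right h, inv_eq_of_mul_eq_one_left (C.ysq y hy)]
    rw [h2]; exact hy
  have h2 : y * j * (y * j) = 1 := Cx.sq_mul' (C.ysq y hy) jj hjy.symm
  have h3 : ∀ e ∈ Y ⊔ V, y * j * e = e * (y * j) := Cx.comm_mul' hyE hj
  have h4 : JY M Y (y * j) := by
    rw [← hjy]
    exact C.jyY hJ hy
  obtain ⟨-, h5, -⟩ := C.one h2 h1 h3 h4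
  have h6 : L.φ (y * j) = σ * L.φ j := by rw [L.mul _ _ (C.eN (C.yE hy)) hjN, hyσ]
  rcases hor with h | h
  · apply h5
    rw [h6, h]
    exact isV_sq hσ
  · refine no_s C hl hP h2 h1 h3 h4 ?_
    rw [h6, h, ← mul_assoc, isV_sq hσ, one_mul]

/-- **(RK)** -/
theorem rk_of (hP : A7.Pump7 G) {y : G} (hy : y ∈ Y) (hy1 : y ≠ 1) {N : Subgroup G}
    (hN : IsComp (centralizer ({y} : Set G)) N) (hM : M ≤ N) {r : G} (rr : r * r = 1) (hrt : r * t = t * r)
    (hrY : ∀ z ∈ Y, r * z = z * r) (hrN : Fixes r N) : r ∈ Y := by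
  obtain ⟨-, -, ⟨t', ht', hφt'⟩, -⟩ := cx_alpha C hl hP
  have htt := C.psq t C.tV
  have htt' := C.psq t' ht'
  have ht1' : t' ≠ 1 := by
    rintro rfl
    rw [L.one] at hφt'
    exact absurd hφt' (by decide)
  have hcomm : t * t' = t' * t := L2Inner.comm_of_sq C.psq C.tV ht'
  have htN : t ∈ N := hM (C.pm C.tV)
  have htN' : t' ∈ N := hM (C.pm ht')
  -- `D = C_{O(N)}(Y ⟨t⟩)`
  obtain ⟨D, hD⟩ : ∃ D, D = core N ⊓ centralizer ((Y : Set G) ∪ {t}) := ⟨_, rfl⟩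
  have hDodd : Odd (Nat.card D) :=
    Odd.of_dvd_nat (odd_card_core N) (Subgroup.card_dvd_of_le (hD ▸ inf_le_left))
  have hmD : ∀ {d : G}, d ∈ D ↔ d ∈ core N ∧ (∀ z ∈ Y, d * z = z * d) ∧ d * t = t * d := by
    intro d
    rw [hD, mem_inf, mem_centralizer_iff]
    constructor
    · rintro ⟨h1, h2⟩
      exact ⟨h1, fun z hz => (h2 z (Or.inl hz)).symm, (h2 t (Or.inr rfl)).symm⟩
    · rintro ⟨h1, h2, h3⟩
      refine ⟨h1, ?_⟩
      rintro z (hz | hz)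
      · exact (h2 z hz).symm
      · rw [hz]; exact h3.symm
  have hri := inv_eq_of_mul_eq_one_left rr
  have hti' := inv_eq_of_mul_eq_one_left htt'
  have hrD : r ∈ normalizer (D : Set G) := by
    rw [mem_normalizer_iff_cj]
    have key : ∀ d ∈ D, r * d * r⁻¹ ∈ D := by
      intro d hd
      obtain ⟨h1, h2, h3⟩ := hmD.mp hd
      refine hmD.mpr ⟨conj_mem_core hrN.1 h1, fun z hz => ?_, ?_⟩
      · have c1 : Commute r z := hrY z hz
        have c2 : Commute d z := h2 z hz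
        exact ((c1.mul_left c2).mul_left c1.inv_left)
      · have c1 : Commute r t := hrt
        have c2 : Commute d t := h3
        exact ((c1.mul_left c2).mul_left c1.inv_left)
    apply le_antisymm
    · intro d hd
      rw [mem_cj] at hd
      have := key _ hd
      have e : r * (r⁻¹ * d * r) * r⁻¹ = d := by group
      rwa [e] at this
    · intro d hd
      rw [mem_cj]
      have := key d hd
      rwa [hri] at this ⊢
  have h1 : t'⁻¹ * (r * t' * r⁻¹) ∈ D := by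
    refine hmD.mpr ⟨?_, fun z hz => ?_, ?_⟩
    · have h2 := hrN.2 t' htN'
      have h3 : t'⁻¹ * (r * t' * r⁻¹) = t'⁻¹ * ⁅r, t'⁆ * t'⁻¹⁻¹ := by
        rw [commutatorElement_def]; group
      rw [h3]
      exact conj_mem_core (le_normalizer (inv_mem htN')) h2
    · have c1 : Commute r z := hrY z hz
      have c2 : Commute t' z := (C.yp hz ht').symm
      exact c2.inv_left.mul_left ((c1.mul_left c2).mul_left c1.inv_left)
    · have c1 : Commute r t := hrt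
      have c2 : Commute t' t := hcomm.symm
      exact c2.inv_left.mul_left ((c1.mul_left c2).mul_left c1.inv_left)
  obtain ⟨o, ho, hro⟩ := Intrinsic.Lifting.exists_commute hDodd (n := 1) (by rw [pow_one, pow_two, rr]) hrD h1
  -- the involution of `⟨t' o⟩`
  have hti : ∀ d ∈ D, t' * d * t'⁻¹ ∈ D := by
    intro d hd
    obtain ⟨h2, h3, h4⟩ := hmD.mp hd
    refine hmD.mpr ⟨conj_mem_core (le_normalizer htN') h2, fun z hz => ?_, ?_⟩
    · have c1 : Commute t' z := (C.yp hz ht').symm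
      have c2 : Commute d z := h3 z hz
      exact ((c1.mul_left c2).mul_left c1.inv_left)
    · have c1 : Commute t' t := hcomm.symm
      have c2 : Commute d t := h4
      exact ((c1.mul_left c2).mul_left c1.inv_left)
  have h2 : (t' * o) ^ 2 ^ 1 ∈ D := by
    have e : (t' * o) ^ 2 ^ 1 = (t' * o * t'⁻¹) * o := by
      rw [pow_one, pow_two, hti']; group
    rw [e]
    exact mul_mem (hti o ho) ho
  obtain ⟨n, hn1, hn2⟩ := Intrinsic.Lifting.exists_two_part hDodd h2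
  obtain ⟨w', hw'⟩ : ∃ w', w' = (t' * o) ^ n := ⟨_, rfl⟩
  rw [← hw'] at hn1 hn2
  rw [pow_one, pow_two] at hn1
  have hrw : r * w' = w' * r := by
    rw [hw']
    exact (Commute.pow_right (show Commute r (t' * o) from hro) n).eq
  have hmem : t' * w' ∈ D := by
    have e : t' * w' = o * ((t' * o)⁻¹ * w') := by
      rw [mul_inv_rev, hti']; group
    rw [e]
    exact mul_mem ho hn2
  obtain ⟨δ, hδ, hδt⟩ := SL.conj_of_coset hDodd htt' hn1 hmem
  obtain ⟨hδ1, hδ2, hδ3⟩ := hmD.mp hδ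
  have hδN := core_le N hδ1
  obtain ⟨j, hj⟩ : ∃ j, j = δ⁻¹ * r * δ := ⟨_, rfl⟩
  have jj : j * j = 1 := by
    rw [hj]
    calc δ⁻¹ * r * δ * (δ⁻¹ * r * δ) = δ⁻¹ * (r * r) * δ := by group
      _ = 1 := by rw [rr]; group
  have hjY : ∀ z ∈ Y, j * z = z * j := by
    intro z hz
    have c1 : Commute r z := hrY z hz
    have c2 : Commute δ z := hδ2 z hz
    rw [hj]
    exact ((c2.inv_left.mul_left c1).mul_left c2)
  have hjt : j * t = t * j := by
    have c1 : Commute r t := hrt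
    have c2 : Commute δ t := hδ3
    rw [hj]
    exact ((c2.inv_left.mul_left c1).mul_left c2)
  have hjt' : j * t' = t' * j := by
    have e : t' = δ⁻¹ * w' * δ := by rw [← hδt]; group
    rw [hj, e]
    calc δ⁻¹ * r * δ * (δ⁻¹ * w' * δ) = δ⁻¹ * (r * w') * δ := by group
      _ = δ⁻¹ * (w' * r) * δ := by rw [hrw]
      _ = δ⁻¹ * w' * δ * (δ⁻¹ * r * δ) := by group
  have hne : t ≠ t' := by
    rintro rfl
    have h5 := (cx_alpha C hl hP).2.1
    rw [← h5, C.φw] at hφt'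
    exact absurd hφt' (by decide)
  have hjE : ∀ e ∈ Y ⊔ V, j * e = e * j := by
    have hle : Y ⊔ V ≤ centralizer ({j} : Set G) := by
      refine sup_le (fun z hz => mem_c (hjY z hz).symm) fun v hv => mem_c ?_
      have hF : Four V := ⟨C.pcard, C.psq⟩
      rcases hF.mem_cases C.tV ht' C.t1 ht1' hne.symm hv with rfl | rfl | rfl | rfl
      · rw [one_mul, mul_one]
      · exact hjt.symm
      · exact hjt'.symm
      · rw [mul_assoc, ← hjt', ← mul_assoc, ← hjt, mul_assoc]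
    exact fun e he => (comm_c (hle he)).symm
  have hjN : Fixes j N := by
    have h3 := hrN.cj δ⁻¹
    have e : δ⁻¹ * r * δ⁻¹⁻¹ = j := by rw [inv_inv, hj]
    rw [e, mem_normalizer_iff_cj.mp (le_normalizer (inv_mem hδN))] at h3
    exact h3
  have hjJ : JY M Y j := C.toSit.jy_of hjY hy hy1 hN hM hjN
  have h3 := mem_Y C hl hP jj hjE hjJ
  have h4 : r = j := by
    have c2 : δ * j = j * δ := hδ2 j h3
    calc r = δ * (δ⁻¹ * r * δ) * δ⁻¹ := by group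
      _ = δ * j * δ⁻¹ := by rw [hj]
      _ = j := by rw [c2, mul_inv_cancel_right]
  rw [h4]
  exact h3

/-- **(1)-(5)** of bb #12930 -/
theorem exists_out (hP : A7.Pump7 G) (hM : L2T M) : ∃ t', Out M Y t t' K L ∧
    ∃ y ∈ Y, y ≠ 1 ∧ ∃ x', (x' = y ∨ x' = y * t) ∧ IsTriple x' t K := by
  obtain ⟨hV, hwt, ⟨t', ht', hφt'⟩, hYK⟩ := cx_alpha C hl hP
  subst hwt
  have ht1' : t' ≠ 1 := by
    rintro rfl
    rw [L.one] at hφt'
    exact absurd hφt' (by decide)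
  have hne : w ≠ t' := by
    rintro rfl
    rw [C.φw] at hφt'
    exact absurd hφt' (by decide)
  have hF : Four V := ⟨C.pcard, C.psq⟩
  refine ⟨t', ⟨C.ysq, C.ycard, C.ym, ?_, C.pm C.tV, C.pm ht', C.psq _ C.tV, C.psq t' ht', C.t1, ht1', hne,
    L2Inner.comm_of_sq C.psq C.tV ht', cyc_of_l2 hM hF C.pm C.tV ht' C.t1 ht1' hne, C.compK,
    fun y hy => Or.inl (hYK hy), hV, C.bad.y1, hφt', ?_⟩, ?_⟩
  · intro y hy hy1
    obtain ⟨N, hN, h1, h2, -⟩ := C.toFr.comp y hy hy1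
    exact ⟨N, hN, h1, h2, hl y hy hy1 N hN h1⟩
  · intro y hy hy1 N hN hMN r rr hrt hrY hrN
    exact rk_of C hl hP hy hy1 hN hMN rr hrt hrY hrN
  · obtain ⟨y, hy, v, hv, hx⟩ := C.toFr.mem_E.mp C.bad.xE
    have hφx : L.φ x = L.φ y * L.φ v := by rw [hx, L.mul _ _ (C.eN (C.yE hy)) (C.eN (C.vE hv))]
    have hφv : IsV (L.φ v) := by
      have h1 : L.φ v = L.φ y * L.φ x := by rw [hφx, ← mul_assoc, isV_sq (hV y hy), one_mul]
      rw [h1]
      exact isV_mul (hV y hy) C.bad.xV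
    have hv' : v = 1 ∨ v = w := by
      rcases hF.mem_cases C.tV ht' C.t1 ht1' hne.symm hv with rfl | rfl | rfl | rfl
      · exact Or.inl rfl
      · exact Or.inr rfl
      · exfalso
        rw [hφt'] at hφv
        exact absurd hφv (by unfold IsV; decide)
      · exfalso
        rw [L.mul _ _ (C.eN (C.vE C.tV)) (C.eN (C.vE ht')), C.φw, hφt', one_mul] at hφv
        exact absurd hφv (by unfold IsV; decide)
    have hxN : x ∈ normalizer (K : Set G) := C.eN C.bad.xE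
    refine ⟨y, hy, ?_, x, ?_, C.bad.tri⟩
    · rintro rfl
      apply C.bad.tri.not_fixes
      rw [← L.fixes_iff hxN, hφx, L.one, one_mul]
      rcases hv' with rfl | rfl
      · exact L.one
      · exact C.φw
    · rcases hv' with rfl | rfl
      · left; rw [hx, mul_one]
      · right; exact hx

end cx

/-- **There is no bad configuration.** -/
theorem thmBad : ThmBad.{u} := by
  intro G _ _ hr hT M0 l k M Q h hM0 Y hY hYQ hk V hVM hV2 hV4 w x K L B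
  have hF : Four V := ⟨hV4, hV2⟩
  have hP : A7.Pump7 G := by
    intro x a c L M T hc hca hcx hcL
    exact A7.PumpSeven.pump7 hT M T hc hca hcx hcL
  obtain ⟨t, ht, -, -, ht1, -, -⟩ := exists_gens hF.card
  have S := h.sit h.l2T hT hM0 hY hYQ hk hF hVM ht ht1
  obtain ⟨c, t, C⟩ := exists_cx S B
  have hl : ∀ y ∈ Y, y ≠ 1 → ∀ N, IsComp (centralizer ({y} : Set G)) N → M ≤ N → L2T N := by
    intro y hy hy1 N hN hMN
    obtain ⟨N', h1, h2, h3, h4⟩ := h.exists_comp (hYQ hy) (hY.elem y hy) hy1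
    obtain rfl := h.unique hN h1 hMN h2
    exact h4
  obtain ⟨t', hO, tri⟩ := exists_out C hl hP h.l2T
  exact hr (hO.rank_of hP h.exists_rep tri)

/-- **N5.** -/
theorem nodeL2i (h1173 : SL.P1173.{u})
    (FT : ∀ (G : Type u) [Group G] [Finite G] (Y : Subgroup G), Odd (Nat.card Y) → Group.IsSolvable Y)
    (h5 : Rank5.{u}) : Nodes.NodeL2i.{u} := nodeL2i_of' h1173 FT h5 thmBad

end Cfsg.Agent.UGT.L2i
end

-- part: UGT/L2i/Final
section
set_option linter.all false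

/-!
# N5 without hypotheses
-/

set_option autoImplicit false

open Cfsg Subgroup

universe u

namespace Cfsg.Agent.UGT.L2i.Final

/-- **Node N5 of S1311.** -/
theorem nodeL2i : Nodes.NodeL2i.{u} :=
  L2i.nodeL2i (fun _ _ _ hO S T hT => S1173.result hO S T hT) (fun _ _ _ _ hY => S0205.result hY)
    fun _ _ _ hG => InUList.rank_fs (fun G _ _ _ hna h4 => GH.FinalKFour.k4 G hna h4) EndK4All.endK4 hG

end Cfsg.Agent.UGT.L2i.Final
end
end
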